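import Cfsg.Agent.Lib.Spor.Cos.Bst

/-! Words of the generators in the groups `PSU₄(3)` and `PSU₆(2)`. -/

set_option autoImplicit false
set_option maxRecDepth 100000

namespace Cfsg.Agent.Spor.U62U43

/-- An element of order 7 of the small group. -/
def wS : List ℕ := [0, 2, 1, 2, 1, 0, 1, 2, 1, 0, 2, 0, 1, 0, 1, 0, 2, 1, 0, 2, 1, 0, 2, 0, 1]

/-- An element normalising it. -/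
def wT : List ℕ := [1, 0, 2, 0, 1, 2, 1, 2, 0, 1, 2, 0, 2, 0, 1, 0, 2, 0, 2, 1, 0, 1, 0]

/-- An element of order 3 commuting with that. -/
def wY : List ℕ := [1, 2, 0, 2, 0, 1, 0, 1, 0, 2, 0, 1, 2, 1, 0, 1, 2, 0, 1, 0, 2, 0, 1]

/-- The generators as words in two of them. -/
def genSY : List (List ℕ) := [[0, 1, 0, 0, 0, 1, 1, 0, 0, 0, 0, 0, 1, 1, 0, 0, 0, 1, 0, 0, 0, 1, 1, 0, 0], [0, 0, 1, 0, 0, 1, 0, 1, 1, 0, 0, 1, 0, 0, 0, 1, 1, 0, 0, 1, 1, 0, 0, 0, 0, 1], [1, 0, 0, 0, 0, 1, 0, 0, 0, 1, 1, 0, 1, 1, 0, 1, 0, 0, 0, 0, 0, 0, 1, 0, 1, 1, 0, 0, 0]]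

/-- An element of order 7 of the large group. -/
def ws : List ℕ := [2, 1, 0, 1, 0, 2, 1, 0, 1, 2, 1, 0, 2, 1, 2, 1, 0, 1, 0, 2, 0, 2, 0, 2, 0, 2, 1, 0, 2, 1, 2, 1, 2]

/-- An element normalising it. -/
def wt : List ℕ := [0, 1, 0, 2, 1, 0, 2, 0, 1, 0, 2, 0, 2, 1, 2, 0, 1, 2, 0, 2, 0, 2, 0, 1, 0, 2, 1, 2, 1, 2, 0, 1, 2, 0]

/-- An element inducing an automorphism of order 6 on it. -/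
def wm : List ℕ := [2, 0, 2, 0, 1, 2, 0, 2, 0, 2, 1, 2, 0, 2, 0, 2, 1, 0, 2, 0, 2, 0, 1, 2, 0, 1, 2, 0, 2, 0, 2]

/-- The possible images of the element of order 3. -/
def zs : List (List ℕ) := [[1, 2, 0, 2, 1, 2, 1, 2, 0, 2, 1, 2, 0, 1, 2, 1, 2, 0, 2, 1, 2, 1, 2, 0, 2, 1, 2, 1, 0, 1, 2], [0, 1, 0, 2, 0, 2, 1, 0, 2, 1, 0, 2, 0, 1, 0, 2, 0, 1, 2, 1, 0, 1, 0, 2, 0, 1, 2, 1, 0, 2, 1, 0, 1, 0, 2, 0], [2, 1, 0, 1, 2, 0, 1, 2, 1, 2, 1, 2, 0, 2, 0, 2, 1, 2, 0, 2, 1, 2, 1, 0, 2, 1, 0, 2, 1, 0, 1, 0, 2, 0], [0, 1, 0, 2, 1, 2, 1, 2, 1, 0, 2, 1, 2, 0, 2, 1, 0, 2, 0, 2, 0, 2, 1, 2, 1, 0, 2, 0, 2, 0, 2, 0, 2, 1, 0], [1, 2, 0, 2, 0, 2, 0, 1, 2, 1, 0, 1, 0, 2, 1, 0, 1, 0, 2, 0, 1, 2, 0, 2, 0, 1, 2, 1, 0, 1, 2, 0], [1,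 2, 1, 2, 0, 1, 0, 2, 0, 2, 1, 2, 0, 2, 0, 1, 2, 0, 1, 2, 1, 0, 2, 0, 2, 0, 1, 2, 1, 2, 1, 0, 1, 2], [0, 2, 0, 2, 0, 2, 0, 1, 0, 2, 0, 2, 1, 2, 0, 2, 0, 1, 0, 2, 0, 2, 0, 2, 1, 2, 1, 2, 0, 2, 1, 2, 1, 0], [1, 2, 0, 1, 0, 2, 0, 2, 0, 2, 1, 2, 0, 2, 1, 0, 2, 1, 0, 2, 0, 2, 0, 2, 1, 2, 0, 2, 1, 2, 0, 1, 0], [2, 1, 0, 2, 0, 2, 0, 2, 1, 2, 1, 0, 1, 0, 2, 1, 2, 1, 2, 0, 2, 0, 2, 0, 1, 0, 2, 1, 2, 1, 0, 1, 2, 0, 1], [2, 0, 1, 0, 2, 0, 1, 2, 0, 2, 0, 1, 2, 0, 1, 2, 1, 2, 1, 0, 2, 0, 2, 1, 0, 2, 1, 2, 0, 1, 0, 2, 1, 0, 1], [2, 1, 0, 1, 2, 1, 2, 0, 2, 0, 1, 2, 0, 2, 1, 2, 1, 2, 1, 0, 1, 2, 1, 0, 2, 0, 1, 0, 2, 0, 1], [1, 0, 1, 2, 0, 2, 0, 1, 2, 1, 2, 1, 0, 1, 2, 1, 2, 1, 0, 1, 0, 2, 1, 2, 1, 0, 2, 1, 2, 1, 0, 2, 0,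 2, 1, 0, 1]]

/-- The images of the generators in the three classes. -/
def hGens : List (List (List ℕ)) := [[[0, 2, 0, 2, 0, 1, 2, 1, 2, 1, 0, 2, 0, 2, 1, 2, 0, 2, 0, 1, 2, 1, 2, 1, 0, 2, 0, 2, 0], [0, 2, 0, 1, 0, 2, 1, 0, 2, 0, 2, 0, 2, 0, 2, 1, 0, 1, 0, 2, 0, 2, 0, 2, 0, 2, 1, 0, 2, 0, 1, 0, 2, 0], [1, 0, 2, 1, 2, 0, 2, 0, 1, 0, 2, 1, 2, 0, 2, 1, 2, 1, 2, 0, 2, 1, 2, 1, 2, 0, 1, 0, 2, 1, 2, 0]], [[2, 0, 1, 0, 2, 0, 2, 0, 1, 0, 1, 2, 0, 1, 2, 0, 1, 2, 0, 1, 2, 0, 1, 0, 2, 1, 0, 2, 0, 2], [2, 1, 0, 2, 1, 0, 1, 2, 1, 2, 0, 2, 1, 2, 1, 0, 1, 2, 0, 1, 2], [0, 1, 2, 1, 0, 2, 0, 1, 2, 0, 2, 1, 2, 0, 2, 0, 1, 0, 2, 0, 2, 1, 2, 0, 2, 1, 0, 2, 0, 1, 2, 1, 0]], [[0, 1, 0, 2, 1, 2, 0, 1, 0, 2, 0, 1, 0, 2, 0, 1, 0,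 2, 0, 2, 0, 2, 1, 0, 1, 2, 0, 1, 2, 0, 2, 0], [1, 2, 1, 2, 0, 1, 0, 2, 0, 2, 1, 2, 0, 1, 0, 2, 1, 2, 0, 2, 0, 1, 0, 2, 1, 2, 1], [1, 2, 0, 2, 0, 1, 0, 2, 1, 0, 1, 2, 1, 0, 2, 0, 2, 1, 0, 1, 0, 2, 0, 1, 2, 0, 2, 0, 2, 0]]]

/-- The possible images as words in the images of the generators of their class. -/
def zWords : List (List ℕ) := [[1, 2, 0, 2, 0, 1, 0, 1, 0, 2, 0, 1, 2, 1, 0, 1, 2, 0, 1, 0, 2, 0, 1], [0, 1, 2, 1, 0, 1, 0, 2, 0, 1, 0, 1, 2, 1, 2, 0, 1], [1, 2, 0, 2, 0, 1, 0, 1, 0, 2, 0, 1, 2, 1, 0, 1, 2, 0, 1, 0, 2, 0, 1], [1, 2, 0, 2, 0, 1, 0, 1, 0, 2, 0, 1, 2, 1, 0, 1, 2, 0, 1, 0, 2, 0, 1], [0, 1, 2, 1, 0, 1, 0, 2, 0, 1, 0, 1, 2, 1, 2, 0, 1], [0, 1, 2, 1, 0, 1, 0, 2, 0, 1, 0, 1, 2, 1, 2, 0, 1], [0,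 2, 0, 2, 1, 0, 2, 1, 2, 1, 0, 2, 0, 1, 2, 1, 0, 2, 0, 1, 0, 2, 1, 0], [1, 2, 0, 1, 0, 2, 1, 0, 2, 1, 2, 1, 2, 0, 1, 0, 2, 1, 2, 1, 2, 0], [0, 2, 0, 2, 1, 0, 2, 1, 2, 1, 0, 2, 0, 1, 2, 1, 0, 2, 0, 1, 0, 2, 1, 0], [1, 2, 0, 1, 0, 2, 1, 0, 2, 1, 2, 1, 2, 0, 1, 0, 2, 1, 2, 1, 2, 0], [1, 2, 0, 1, 0, 2, 1, 0, 2, 1, 2, 1, 2, 0, 1, 0, 2, 1, 2, 1, 2, 0], [0, 2, 0, 2, 1, 0, 2, 1, 2, 1, 0, 2, 0, 1, 2, 1, 0, 2, 0, 1, 0, 2, 1, 0]]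

/-- The images of the element of order 3 in the three classes. -/
def zRep : List ℕ := [0, 2, 3]

/-- The class of a possible image. -/
def zCls : List ℕ := [0, 0, 1, 2, 1, 2, 0, 2, 2, 0, 1, 1]

/-- Words of order 11 in the element of order 7 and two elements of order 3. -/
def elevens : List (List (List ℕ)) := [[[2, 0, 1, 1], [2, 1, 0, 2, 1], [2, 1, 2, 0], [2, 2, 0, 1, 0], [1, 1, 0, 2], [0, 2, 2, 1]], [[1, 0, 2, 2], [0, 1, 2, 2, 0], [2, 0, 1, 2, 1], [2, 1, 2, 0], [1, 1, 2, 1, 0], [2, 1, 0, 2]], [[1, 2, 0, 1], [0, 1, 2, 0, 2], [2, 1, 2, 0], [1, 0, 2, 2, 0], [2, 1, 1, 0], [1, 0, 2, 2]]]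

end Cfsg.Agent.Spor.U62U43
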