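import Cfsg.Agent.Lib.Spor.U62U43.Main

/-! Triple covers of `PSU₄(3)` in `SU₆(2)`. -/

set_option autoImplicit false
set_option maxRecDepth 100000
set_option linter.style.haveILetI false

open Cfsg Cfsg.Agent.Spor.Cos Cfsg.Agent.Classical

universe u v

namespace Cfsg.Agent.Spor.U62U43

/-- The large matrix group. -/
abbrev SU62 : Type := USixTwo.SU62

/-- The map to the simple group. -/
noncomputable abbrev q62 : SU62 →* G62 := suToPSU 6 USixTwo.K4 2

theorem q62_surj : Function.Surjective q62 := QuotientGroup.mk'_surjective _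

theorem q62_ker : q62.ker = Subgroup.center SU62 := QuotientGroup.ker_mk' _

theorem card_center62 : Nat.card (Subgroup.center SU62) = 3 := by
  rw [natCard_center_SU USixTwo.K4.card_eq (by norm_num)]
  rfl

theorem center_quot_congr {H H' : Type*} [Group H] [Group H'] (e : H ≃* H') :
    Nat.card (Subgroup.center H') = Nat.card (Subgroup.center H) ∧
      Nonempty (H ⧸ Subgroup.center H ≃* H' ⧸ Subgroup.center H') := by
  refine ⟨(Nat.card_congr (Subgroup.centerCongr e).toEquiv).symm, ⟨QuotientGroup.congr _ _ e ?_⟩⟩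
  ext y
  constructor
  · rintro ⟨x, hx, rfl⟩
    refine Subgroup.mem_center_iff.2 fun z => ?_
    obtain ⟨w, rfl⟩ := e.surjective z
    show e w * e x = e x * e w
    rw [← map_mul, ← map_mul, Subgroup.mem_center_iff.1 hx w]
  · intro hy
    refine ⟨e.symm y, Subgroup.mem_center_iff.2 fun z => e.injective ?_, e.apply_symm_apply y⟩
    rw [map_mul, map_mul, e.apply_symm_apply, Subgroup.mem_center_iff.1 hy (e z)]

theorem center_K62 {k : ℕ} (hk : k < 3) (x : G62) (hx : x ∈ K62 k) (hc : ∀ y ∈ K62 k, y * x = x * y) : x = 1 := by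
  obtain ⟨a, rfl⟩ := hx
  have : a ∈ Subgroup.center G43 := Subgroup.mem_center_iff.2 fun b => psi_inj hk (by
    rw [map_mul, map_mul]; exact hc _ ⟨b, rfl⟩)
  rw [center_G43, Subgroup.mem_bot] at this
  rw [this, map_one]

/-- A preimage. -/
noncomputable def cover62 (k : ℕ) : Subgroup SU62 := (K62 k).comap q62

theorem cover_good {k : ℕ} (hk : k < 3) :
    Nat.card (Subgroup.center ↥(cover62 k)) = 3 ∧ Nonempty (↥(cover62 k) ⧸ Subgroup.center ↥(cover62 k) ≃* G43) := by
  let r : ↥(cover62 k) →* ↥(K62 k) := (q62.comp (cover62 k).subtype).codRestrict _ fun x => x.2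
  have hr : Function.Surjective r := fun y => by
    obtain ⟨x, hx⟩ := q62_surj y.1
    exact ⟨⟨x, Subgroup.mem_comap.2 (by rw [hx]; exact y.2)⟩, Subtype.ext hx⟩
  have hker : Subgroup.center ↥(cover62 k) = r.ker := by
    ext x
    constructor
    · intro hx
      refine Subtype.ext (center_K62 hk (r x).1 (r x).2 fun y hy => ?_)
      obtain ⟨w, hw⟩ := hr ⟨y, hy⟩
      have := congrArg (fun z => (r z).1) (Subgroup.mem_center_iff.1 hx w)
      simpa [map_mul, hw] using this
    · intro hx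
      have h1 : x.1 ∈ q62.ker := congrArg Subtype.val hx
      rw [q62_ker] at h1
      exact Subgroup.mem_center_iff.2 fun w => Subtype.ext (Subgroup.mem_center_iff.1 h1 w.1)
  refine ⟨?_, ⟨(QuotientGroup.quotientMulEquivOfEq hker).trans
    ((QuotientGroup.quotientKerEquivOfSurjective r hr).trans (MonoidHom.ofInjective (psi_inj hk)).symm)⟩⟩
  rw [hker, ← card_center62, ← Nat.card_congr (MulEquiv.subgroupCongr q62_ker).toEquiv]
  refine Nat.card_congr
    { toFun := fun x => ⟨x.1.1, congrArg Subtype.val x.2⟩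
      invFun := fun x => ⟨⟨x.1, Subgroup.mem_comap.2 (by rw [x.2]; exact one_mem _)⟩, Subtype.ext x.2⟩
      left_inv := fun _ => rfl
      right_inv := fun _ => rfl }

theorem cover_class (K : Subgroup SU62) (h3 : Nat.card (Subgroup.center ↥K) = 3)
    (hiso : Nonempty (↥K ⧸ Subgroup.center ↥K ≃* G43)) :
    ∃ (d : SU62) (k : ℕ), k < 3 ∧ K.map (MulAut.conj d).toMonoidHom = cover62 k := by
  obtain ⟨e⟩ := hiso
  obtain ⟨a, ha⟩ := QuotientGroup.mk'_surjective (Subgroup.center ↥K) (e.symm S43)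
  have hcube : ∀ x ∈ Subgroup.center ↥K, x ^ 3 = 1 := fun x hx => by
    have := pow_card_eq_one' (x := (⟨x, hx⟩ : Subgroup.center ↥K))
    rw [h3] at this
    exact congrArg Subtype.val this
  set f : ↥K →* G62 := q62.comp K.subtype with hf
  have hcen : ∀ x : ↥K, f x = 1 → x ∈ Subgroup.center ↥K := fun x hx => by
    have h1 : x.1 ∈ q62.ker := hx
    rw [q62_ker] at h1
    exact Subgroup.mem_center_iff.2 fun w => Subtype.ext (Subgroup.mem_center_iff.1 h1 w.1)
  have ha7 : a ^ 7 ∈ Subgroup.center ↥K := by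
    rw [← QuotientGroup.eq_one_iff, QuotientGroup.mk_pow]
    show (QuotientGroup.mk' _ a) ^ 7 = 1
    rw [ha, ← map_pow, facts43.1, map_one]
  have hu7 : f (a ^ 3) ^ 7 = 1 := by
    rw [← map_pow, ← pow_mul, mul_comm, pow_mul, hcube _ ha7, map_one]
  have hu1 : f (a ^ 3) ≠ 1 := fun h => by
    have h' := (QuotientGroup.eq_one_iff _).2 (hcen _ h)
    rw [QuotientGroup.mk_pow] at h'
    change (QuotientGroup.mk' _ a) ^ 3 = 1 at h'
    rw [ha, ← map_pow, map_eq_one_iff _ e.symm.injective] at h'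
    have := orderOf_dvd_of_pow_eq_one h'
    rw [orderOf_S43] at this
    norm_num at this
  haveI : Fact (Nat.Prime 7) := ⟨by norm_num⟩
  obtain ⟨c, hc⟩ := exists_to_s (orderOf_eq_prime hu7 hu1)
  have hz : ∀ x ∈ Subgroup.center ↥K, f x = 1 := fun x hx => by
    obtain ⟨i, -, hi⟩ := commute_s (y := c * f x * c⁻¹) (by
      show _ = _
      rw [← hc, ← MulAut.conj_apply, ← MulAut.conj_apply, ← map_mul, ← map_mul (MulAut.conj c), ← map_mul, ← map_mul,
        Subgroup.mem_center_iff.1 hx (a ^ 3)])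
    have h' : (s62 ^ i) ^ 3 = 1 := by
      rw [← hi, conj_pow, ← map_pow, hcube x hx, map_one, mul_one, mul_inv_cancel]
    rw [← pow_mul, ← orderOf_dvd_iff_pow_eq_one, orderOf_s62] at h'
    obtain ⟨r, hr⟩ := ((Nat.Coprime.dvd_mul_right (by norm_num)).1 h' : 7 ∣ i)
    rw [hr, pow_mul, facts62.1, one_pow] at hi
    simpa [mul_inv_eq_one] using hi
  have hker : f.ker = Subgroup.center ↥K := le_antisymm (fun x hx => hcen x hx) fun x hx => hz x hx
  have hle : Subgroup.center SU62 ≤ K := by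
    have hsub : (Subgroup.center ↥K).map K.subtype = Subgroup.center SU62 := by
      refine Subgroup.eq_of_le_of_card_ge ?_ ?_
      · rintro _ ⟨x, hx, rfl⟩
        rw [← q62_ker]
        exact hz x hx
      · rw [card_center62, Subgroup.card_map_of_injective K.subtype_injective, h3]
    rw [← hsub]
    exact Subgroup.map_subtype_le _
  let φ : G43 →* G62 :=
    (QuotientGroup.lift _ f hker.ge).comp e.symm.toMonoidHom
  have hφ : Function.Injective φ := by
    refine (injective_iff_map_eq_one φ).2 fun y hy => ?_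
    obtain ⟨b, hb⟩ := QuotientGroup.mk'_surjective (Subgroup.center ↥K) (e.symm y)
    have h1 : f b = 1 := by
      change QuotientGroup.lift _ f hker.ge (e.symm y) = 1 at hy
      rw [← hb] at hy
      exact hy
    refine (map_eq_one_iff _ e.symm.injective).1 ?_
    rw [← hb]
    exact (QuotientGroup.eq_one_iff b).2 (hcen b h1)
  have hrange : φ.range = K.map q62 := by
    ext y
    constructor
    · rintro ⟨x, rfl⟩
      obtain ⟨b, hb⟩ := QuotientGroup.mk'_surjective (Subgroup.center ↥K) (e.symm x)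
      refine ⟨b.1, b.2, ?_⟩
      show f b = QuotientGroup.lift _ f hker.ge (e.symm x)
      rw [← hb]
      rfl
    · rintro ⟨b, hb, rfl⟩
      refine ⟨e (QuotientGroup.mk' _ ⟨b, hb⟩), ?_⟩
      show QuotientGroup.lift _ f hker.ge (e.symm (e _)) = _
      rw [MulEquiv.symm_apply_apply]
      rfl
  obtain ⟨g, k, hk, hg⟩ := classify hφ
  obtain ⟨d, rfl⟩ := q62_surj g
  refine ⟨d, k, hk, ?_⟩
  rw [cover62, ← hg, hrange, Subgroup.map_map,
    show (MulAut.conj (q62 d)).toMonoidHom.comp q62 = q62.comp (MulAut.conj d).toMonoidHom from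
      MonoidHom.ext fun x => by simp, ← Subgroup.map_map, Subgroup.comap_map_eq_self]
  rw [q62_ker]
  intro z hz'
  refine ⟨z, hle hz', ?_⟩
  show d * z * d⁻¹ = z
  rw [Subgroup.mem_center_iff.1 hz' d, mul_inv_cancel_right]

theorem cover_not_conj {p : ℕ} (hp : p < 3) (d : SU62) :
    (cover62 (pairOf p).1).map (MulAut.conj d).toMonoidHom ≠ cover62 (pairOf p).2 := fun h => by
  refine not_conj hp (q62 d) ?_
  have := congrArg (Subgroup.map q62) h
  rw [cover62, cover62, Subgroup.map_map,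
    show q62.comp (MulAut.conj d).toMonoidHom = (MulAut.conj (q62 d)).toMonoidHom.comp q62 from
      MonoidHom.ext fun x => by simp, ← Subgroup.map_map, Subgroup.map_comap_eq_self_of_surjective q62_surj,
    Subgroup.map_comap_eq_self_of_surjective q62_surj] at this
  exact this

theorem exists_iso43 (F : Type u) [Field F] [Fintype F] (hF : Fintype.card F = 9) : Nonempty (G43 ≃* PSU 4 F 3) := by
  classical
  exact (center_quot_congr (SUCongr.equiv 3 (FiniteField.ringEquivOfCardEq (K := UFourThree.K9) (K' := F)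
    (by rw [hF]; rfl)))).2

/-- The three classes. -/
theorem three_classes (F : Type u) [Field F] [Fintype F] (hF : Fintype.card F = 4) (F9 : Type v) [Field F9]
    [Fintype F9] (hF9 : Fintype.card F9 = 9) : ∃ K₁ K₂ K₃ : Subgroup ↥(SU 6 F 2),
    (∀ K ∈ [K₁, K₂, K₃], Nat.card ↥(Subgroup.center ↥K) = 3 ∧ Nonempty (↥K ⧸ Subgroup.center ↥K ≃* PSU 4 F9 3)) ∧
    (¬ ∃ g : ↥(SU 6 F 2), K₁.map (MulAut.conj g).toMonoidHom = K₂) ∧
    (¬ ∃ g : ↥(SU 6 F 2), K₁.map (MulAut.conj g).toMonoidHom = K₃) ∧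
    (¬ ∃ g : ↥(SU 6 F 2), K₂.map (MulAut.conj g).toMonoidHom = K₃) ∧
    ∀ K : Subgroup ↥(SU 6 F 2), Nat.card ↥(Subgroup.center ↥K) = 3 →
      Nonempty (↥K ⧸ Subgroup.center ↥K ≃* PSU 4 F9 3) → ∃ g : ↥(SU 6 F 2), K.map (MulAut.conj g).toMonoidHom = K₁ ∨
        K.map (MulAut.conj g).toMonoidHom = K₂ ∨ K.map (MulAut.conj g).toMonoidHom = K₃ := by
  classical
  obtain ⟨e9⟩ := exists_iso43 F9 hF9
  let E : SU62 ≃* ↥(SU 6 F 2) :=
    SUCongr.equiv 2 (FiniteField.ringEquivOfCardEq (K := USixTwo.K4) (K' := F) (by rw [hF]; rfl))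
  let M : ℕ → Subgroup ↥(SU 6 F 2) := fun k => (cover62 k).map E.toMonoidHom
  have hM : ∀ k < 3, Nat.card ↥(Subgroup.center ↥(M k)) = 3 ∧
      Nonempty (↥(M k) ⧸ Subgroup.center ↥(M k) ≃* PSU 4 F9 3) := fun k hk => by
    obtain ⟨h1, ⟨i⟩⟩ := cover_good hk
    obtain ⟨hc, ⟨j⟩⟩ := center_quot_congr (E.subgroupMap (cover62 k))
    exact ⟨hc.trans h1, ⟨j.symm.trans (i.trans e9)⟩⟩
  have hconj : ∀ (d : SU62) (H : Subgroup SU62), (H.map (MulAut.conj d).toMonoidHom).map E.toMonoidHom =
      (H.map E.toMonoidHom).map (MulAut.conj (E d)).toMonoidHom := fun d H => by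
    rw [Subgroup.map_map, Subgroup.map_map]
    congr 1
    exact MonoidHom.ext fun x => by simp
  have hne : ∀ p < 3, ¬ ∃ g, (M (pairOf p).1).map (MulAut.conj g).toMonoidHom = M (pairOf p).2 := by
    rintro p hp ⟨g, hg⟩
    obtain ⟨d, rfl⟩ := E.surjective g
    rw [← hconj] at hg
    exact cover_not_conj hp d (Subgroup.map_injective E.injective hg)
  refine ⟨M 0, M 1, M 2, ?_, hne 0 (by norm_num), hne 1 (by norm_num), hne 2 (by norm_num), fun K hK1 hK2 => ?_⟩
  · intro K hK
    simp only [List.mem_cons, List.not_mem_nil, or_false] at hK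
    rcases hK with rfl | rfl | rfl
    exacts [hM 0 (by norm_num), hM 1 (by norm_num), hM 2 (by norm_num)]
  · obtain ⟨i⟩ := hK2
    set K' := K.map E.symm.toMonoidHom with hK'
    obtain ⟨hc, ⟨j⟩⟩ := center_quot_congr (E.symm.subgroupMap K)
    obtain ⟨d, k, hk, hd⟩ := cover_class K' (hc.trans hK1) ⟨j.symm.trans (i.trans e9.symm)⟩
    refine ⟨E d, ?_⟩
    have : K.map (MulAut.conj (E d)).toMonoidHom = M k := by
      show _ = (cover62 k).map E.toMonoidHom
      rw [← hd, hconj]
      congr 1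
      rw [hK', Subgroup.map_map,
        show E.toMonoidHom.comp E.symm.toMonoidHom = MonoidHom.id _ from MonoidHom.ext fun x => by simp,
        Subgroup.map_id]
    interval_cases k
    exacts [Or.inl this, Or.inr (Or.inl this), Or.inr (Or.inr this)]

end Cfsg.Agent.Spor.U62U43
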