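import Cfsg.Agent.Lib.Spor.Cos.Bst

/-! Representatives of a chain of stabilisers of `PSU₄(3)` and the way their products sift. -/

set_option autoImplicit false
set_option maxRecDepth 100000

namespace Cfsg.Agent.Spor.U62U43

/-- Generators of a level. -/
def pX0 : List (List ℕ) := [[0], [1], [2]]

/-- Representatives as words in the generators. -/
def pR0 : List (List ℕ) := [[], [0], [1], [2], [1, 0], [2, 0], [0, 1], [2, 1], [0, 2], [1, 2], [0, 1, 0], [2, 1, 0], [0, 2, 0], [1, 2, 0], [1, 0, 1], [2, 0, 1], [0, 2, 1], [1, 2, 1], [1, 0, 2], [2, 0, 2], [0, 1, 2], [2, 1, 2], [1, 0, 1, 0], [2, 0, 1, 0], [0, 2, 1, 0], [1, 0, 2, 0], [2, 0, 2, 0], [0, 1, 2, 0], [2, 1, 2, 0], [0, 1, 0, 1], [2, 1, 0, 1], [0, 2, 0, 1], [2, 0, 2, 1], [0, 1, 2, 1], [2, 1, 2, 1], [0, 1, 0, 2], [2, 1, 0, 2], [0, 2, 0, 2], [1, 2, 0, 2], [1, 0,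 1, 2], [2, 0, 1, 2], [0, 2, 1, 2], [1, 2, 1, 2], [0, 1, 0, 1, 0], [2, 1, 0, 1, 0], [0, 2, 0, 1, 0], [1, 2, 0, 1, 0], [1, 0, 2, 1, 0], [2, 0, 2, 1, 0], [0, 1, 0, 2, 0], [2, 1, 0, 2, 0], [0, 2, 0, 2, 0], [1, 2, 0, 2, 0], [1, 0, 1, 2, 0], [2, 0, 1, 2, 0], [0, 2, 1, 2, 0], [1, 2, 1, 2, 0], [2, 0, 1, 0, 1], [0, 2, 1, 0, 1], [1, 2, 1, 0, 1], [2, 0, 2, 0, 1], [0, 2, 0, 2, 1], [1, 2, 0, 2, 1], [1, 0, 1, 2, 1], [2, 0, 1, 2, 1], [0, 2, 1, 2, 1], [2, 0, 1, 0, 2], [0, 2, 1, 0, 2], [1, 2, 1, 0, 2], [1, 0, 2, 0, 2], [0, 1, 2, 0, 2], [2, 1, 2, 0, 2], [0, 1, 0, 1, 2], [2, 1, 0, 1, 2], [0, 2, 0, 1, 2], [1, 2, 0, 1, 2], [1, 0, 2, 1, 2], [2, 0, 2, 1, 2], [0, 1, 2, 1, 2], [2, 1, 2, 1, 2], [2, 0, 1, 0, 1, 0], [0, 2, 1, 0, 1, 0], [1, 2, 1, 0, 1, 0], [1, 0, 2, 0, 1, 0], [2, 0, 2, 0, 1, 0], [0, 1, 2, 0, 1, 0], [2, 1, 0, 2, 1, 0], [0, 2,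 0, 2, 1, 0], [1, 2, 0, 2, 1, 0], [1, 0, 1, 0, 2, 0], [1, 2, 1, 0, 2, 0], [1, 0, 2, 0, 2, 0], [0, 1, 2, 0, 2, 0], [0, 1, 0, 1, 2, 0], [2, 1, 0, 1, 2, 0], [0, 2, 0, 1, 2, 0], [1, 2, 0, 1, 2, 0], [1, 0, 2, 1, 2, 0], [2, 0, 2, 1, 2, 0], [0, 1, 2, 1, 2, 0], [0, 2, 0, 1, 0, 1], [1, 0, 2, 1, 0, 1], [2, 0, 2, 1, 0, 1], [0, 1, 2, 1, 0, 1], [0, 2, 0, 2, 0, 1], [1, 2, 0, 2, 0, 1], [1, 0, 2, 0, 2, 1], [0, 1, 2, 0, 2, 1], [2, 1, 2, 0, 2, 1], [2, 1, 0, 1, 2, 1], [0, 2, 0, 1, 2, 1], [1, 2, 0, 1, 2, 1], [0, 2, 0, 1, 0, 2], [1, 0, 2, 1, 0, 2], [2, 0, 2, 1, 0, 2], [0, 1, 2, 1, 0, 2], [2, 1, 2, 1, 0, 2], [1, 0, 1, 2, 0, 2], [2, 0, 1, 2, 0, 2], [1, 2, 1, 2, 0, 2], [2, 0, 1, 0, 1, 2], [0, 2, 1, 0, 1, 2], [1, 2, 1, 0, 1, 2], [1, 0, 2, 0, 1, 2], [2, 0, 2, 0, 1, 2], [0, 1, 2, 0, 1, 2], [2, 1, 2, 0, 1, 2], [2, 1, 0, 2, 1, 2], [0, 2, 0,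 2, 1, 2], [2, 0, 1, 2, 1, 2], [0, 2, 1, 2, 1, 2], [0, 2, 0, 1, 0, 1, 0], [1, 0, 2, 1, 0, 1, 0], [0, 1, 2, 1, 0, 1, 0], [2, 1, 0, 2, 0, 1, 0], [1, 0, 1, 2, 0, 1, 0], [2, 0, 1, 2, 0, 1, 0], [1, 0, 2, 0, 2, 1, 0], [0, 1, 0, 1, 0, 2, 0], [0, 1, 2, 1, 0, 2, 0], [0, 1, 0, 2, 0, 2, 0], [2, 1, 0, 2, 0, 2, 0], [1, 0, 1, 2, 0, 2, 0], [2, 0, 1, 0, 1, 2, 0], [0, 2, 1, 0, 1, 2, 0], [1, 2, 1, 0, 1, 2, 0], [2, 0, 2, 0, 1, 2, 0], [0, 1, 2, 0, 1, 2, 0], [2, 1, 2, 0, 1, 2, 0], [0, 1, 0, 2, 1, 2, 0], [2, 1, 0, 2, 1, 2, 0], [0, 2, 0, 2, 1, 2, 0], [1, 0, 1, 2, 1, 2, 0], [2, 0, 1, 2, 1, 2, 0], [1, 0, 2, 0, 1, 0, 1], [2, 0, 2, 0, 1, 0, 1], [2, 1, 0, 2, 1, 0, 1], [0, 2, 0, 2, 1, 0, 1], [1, 2, 0, 2, 1, 0, 1], [2, 1, 2, 0, 2, 0, 1], [2, 1, 0, 2, 0, 2, 1], [1, 0, 1, 2, 0, 2, 1], [1, 2, 1, 2, 0, 2, 1], [0, 2, 1, 0, 1, 2, 1], [1, 2, 1, 0, 1,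 2, 1], [1, 0, 2, 0, 1, 2, 1], [2, 0, 2, 0, 1, 2, 1], [0, 1, 2, 0, 1, 2, 1], [2, 1, 2, 0, 1, 2, 1], [1, 0, 2, 0, 1, 0, 2], [2, 0, 2, 0, 1, 0, 2], [0, 1, 0, 2, 1, 0, 2], [2, 1, 0, 2, 1, 0, 2], [0, 2, 0, 2, 1, 0, 2], [1, 2, 0, 2, 1, 0, 2], [1, 0, 1, 2, 1, 0, 2], [2, 0, 1, 2, 1, 0, 2], [0, 2, 1, 2, 1, 0, 2], [1, 2, 1, 2, 1, 0, 2], [0, 1, 0, 1, 2, 0, 2], [2, 1, 0, 1, 2, 0, 2], [1, 2, 0, 1, 2, 0, 2], [2, 1, 2, 1, 2, 0, 2], [0, 2, 0, 1, 0, 1, 2], [1, 2, 0, 1, 0, 1, 2], [1, 0, 2, 1, 0, 1, 2], [0, 1, 2, 1, 0, 1, 2], [2, 1, 2, 1, 0, 1, 2], [0, 1, 0, 2, 0, 1, 2], [0, 2, 0, 2, 0, 1, 2], [1, 2, 0, 2, 0, 1, 2], [1, 0, 1, 2, 0, 1, 2], [2, 0, 1, 2, 0, 1, 2], [1, 2, 1, 2, 0, 1, 2], [1, 2, 1, 0, 2, 1, 2], [1, 2, 0, 1, 2, 1, 2], [1, 0, 2, 1, 2, 1, 2], [2, 0, 2, 0, 1, 0, 1, 0], [0, 1, 0, 2, 1, 0, 1, 0], [2, 0, 1, 2, 1, 0, 1, 0], [0,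 2, 1, 0, 2, 0, 1, 0], [1, 2, 0, 1, 2, 0, 1, 0], [2, 1, 0, 2, 0, 2, 1, 0], [1, 0, 1, 2, 1, 0, 2, 0], [2, 0, 1, 2, 1, 0, 2, 0], [0, 2, 1, 0, 2, 0, 2, 0], [0, 1, 0, 1, 2, 0, 2, 0], [2, 1, 0, 1, 2, 0, 2, 0], [0, 2, 0, 1, 0, 1, 2, 0], [1, 2, 0, 1, 0, 1, 2, 0], [1, 0, 2, 1, 0, 1, 2, 0], [0, 1, 2, 1, 0, 1, 2, 0], [0, 2, 0, 2, 0, 1, 2, 0], [1, 0, 1, 2, 0, 1, 2, 0], [2, 0, 1, 2, 0, 1, 2, 0], [1, 2, 1, 2, 0, 1, 2, 0], [1, 2, 1, 0, 2, 1, 2, 0], [0, 1, 0, 2, 0, 1, 0, 1], [2, 1, 0, 2, 0, 1, 0, 1], [0, 2, 0, 2, 0, 1, 0, 1], [1, 2, 0, 2, 0, 1, 0, 1], [1, 2, 1, 0, 2, 1, 0, 1], [0, 1, 2, 0, 2, 1, 0, 1], [2, 1, 2, 0, 2, 1, 0, 1], [2, 1, 0, 1, 2, 0, 2, 1], [2, 1, 2, 1, 2, 0, 2, 1], [1, 2, 0, 2, 0, 1, 2, 1], [2, 0, 1, 2, 0, 1, 2, 1], [0, 2, 1, 2, 0, 1, 2, 1], [2, 0, 1, 0, 2, 1, 0, 2], [0, 2, 1, 0, 2, 1, 0, 2], [0, 1, 0, 1, 2, 1, 0,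 2], [0, 2, 0, 1, 2, 1, 0, 2], [1, 0, 2, 1, 2, 1, 0, 2], [2, 1, 2, 1, 2, 1, 0, 2], [0, 2, 1, 0, 1, 2, 0, 2], [1, 2, 1, 0, 1, 2, 0, 2], [0, 1, 2, 0, 1, 2, 0, 2], [2, 1, 2, 0, 1, 2, 0, 2], [1, 0, 2, 0, 1, 0, 1, 2], [0, 1, 0, 2, 1, 0, 1, 2], [2, 1, 0, 2, 1, 0, 1, 2], [1, 0, 1, 2, 1, 0, 1, 2], [2, 0, 1, 2, 1, 0, 1, 2], [0, 2, 1, 2, 1, 0, 1, 2], [1, 0, 1, 0, 2, 0, 1, 2], [2, 0, 1, 0, 2, 0, 1, 2], [0, 1, 2, 0, 2, 0, 1, 2], [2, 1, 0, 1, 2, 0, 1, 2], [1, 2, 0, 1, 2, 0, 1, 2], [0, 1, 2, 0, 1, 2, 1, 2], [2, 0, 1, 0, 2, 1, 0, 1, 0], [1, 0, 2, 1, 0, 2, 0, 1, 0], [2, 0, 2, 1, 0, 2, 0, 1, 0], [1, 2, 1, 0, 2, 0, 2, 1, 0], [0, 2, 0, 1, 2, 1, 0, 2, 0], [2, 1, 2, 0, 1, 0, 1, 2, 0], [0, 1, 0, 1, 2, 0, 1, 2, 0], [0, 2, 0, 1, 2, 0, 1, 2, 0], [2, 1, 2, 1, 2, 0, 1, 2, 0], [1, 2, 1, 0, 2, 0, 1, 0, 1], [2, 1, 2, 0, 2, 0, 1, 0, 1], [2, 1,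 2, 1, 0, 2, 1, 0, 1], [1, 2, 0, 1, 2, 0, 1, 2, 1], [2, 1, 0, 2, 1, 2, 1, 0, 2], [2, 0, 2, 1, 0, 1, 2, 0, 2], [1, 0, 1, 0, 2, 1, 0, 1, 2], [2, 0, 1, 0, 2, 1, 0, 1, 2], [0, 1, 0, 1, 2, 1, 0, 1, 2], [1, 2, 0, 1, 0, 2, 0, 1, 2], [1, 0, 1, 2, 0, 2, 0, 1, 2], [0, 1, 2, 0, 1, 2, 0, 1, 2], [1, 0, 1, 2, 0, 1, 2, 1, 2], [0, 1, 0, 2, 1, 0, 2, 0, 1, 0], [2, 0, 2, 0, 1, 2, 1, 0, 2, 0], [0, 2, 1, 2, 1, 0, 2, 1, 0, 1], [0, 2, 0, 2, 1, 0, 1, 2, 0, 2], [0, 2, 0, 1, 0, 2, 1, 0, 1, 2], [0, 1, 2, 0, 1, 0, 2, 0, 1, 2], [0, 1, 0, 1, 2, 0, 2, 0, 1, 2]]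

/-- The sifts. -/
def pE0 : List (ℕ × List ℕ) := [(1, []), (2, []), (3, []), (0, []), (4, []), (5, []), (6, []), (0, []), (7, []), (8, []), (9, []), (0, []), (10, []), (1, []), (11, []), (12, []), (13, []), (1, []), (2, []), (14, []), (15, []), (16, []), (17, []), (2, []), (3, []), (18, []), (19, []), (20, []), (3, []), (21, []), (4, []), (22, []), (23, []), (24, []), (15, [0, 0, 0, 2, 1, 0, 3, 5, 4, 5]), (4, []), (5, []), (25, []), (26, []), (27, []), (5, []), (28, []), (29, []), (6, []), (30, []), (31, []), (11, [1, 0, 1, 0, 0, 3, 5, 3]), (6, []), (7, []), (16, [0, 0, 2, 0, 1, 3, 5, 4]), (32, []), (33, []), (7, []), (34, []), (35, []), (8, []), (36, []), (37, []), (38, []), (8, []), (9, []), (39, []), (40, []), (41, []), (42, []), (9, []), (43, []), (10, []), (44, []), (45, []), (46, []), (10, []), (11, []),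 (47, []), (48, []), (49, []), (12, []), (50, []), (51, []), (52, []), (12, []), (13, []), (53, []), (54, []), (55, []), (56, []), (13, []), (14, []), (43, []), (57, []), (58, []), (59, []), (14, []), (15, []), (31, [0, 0, 0, 1, 0, 1, 3, 3]), (60, []), (61, []), (62, []), (16, []), (17, []), (63, []), (64, []), (65, []), (35, [2, 0, 2, 0, 2, 4, 5, 3, 3]), (17, []), (18, []), (34, [2, 1, 4, 4, 5, 3]), (66, []), (67, []), (68, []), (18, []), (19, []), (69, []), (51, []), (70, []), (19, []), (71, []), (72, []), (20, []), (73, []), (74, []), (75, []), (20, []), (21, []), (76, []), (77, []), (78, []), (21, []), (79, []), (22, []), (29, []), (80, []), (81, []), (82, []), (22, []), (23, []), (83, []), (84, []), (85, []), (23, []), (65, [0, 0, 0, 2, 1, 0, 3, 5, 4, 5]), (47, [1, 2, 1, 1, 0, 1, 4, 5, 4]), (24, []), (86, []),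 (87, []), (88, []), (24, []), (25, []), (89, []), (49, [0, 0, 0, 1, 0, 1, 3, 3]), (86, [2, 2, 1, 1, 1, 0, 5, 3]), (90, []), (25, []), (26, []), (91, []), (37, []), (92, []), (26, []), (52, [1, 1, 1, 0, 0, 0, 3, 5]), (93, []), (27, []), (94, []), (95, []), (96, []), (27, []), (28, []), (97, []), (98, []), (99, []), (28, []), (59, [0, 0, 0, 2, 1, 0, 3, 5, 4, 5]), (100, []), (95, [0]), (29, []), (30, []), (101, []), (102, []), (103, []), (30, []), (56, [1, 0, 1, 0, 0, 3, 5, 3]), (104, []), (105, []), (31, []), (32, []), (106, []), (104, []), (107, []), (32, []), (108, []), (63, [0, 0, 2, 0, 1, 3, 5, 4]), (33, []), (109, []), (110, []), (111, []), (33, []), (34, []), (72, [2, 0, 2, 0, 2, 4, 5, 3, 3]), (46, [1, 0, 1, 0, 0, 3, 5, 3]), (112, []), (79, [2, 1, 4, 4, 5, 3]), (35, []), (36, []), (113, []), (114, []), (115,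 []), (36, []), (116, []), (84, [2, 2, 1, 1, 1, 0, 5, 3]), (37, []), (87, [2, 2, 1, 1, 1, 0, 5, 3]), (38, []), (117, []), (118, []), (108, []), (119, []), (38, []), (39, []), (65, [2, 1, 4, 4, 5, 3]), (120, []), (121, []), (122, []), (39, []), (40, []), (123, []), (124, []), (125, []), (40, []), (126, []), (76, [1, 2, 0, 5]), (41, []), (127, []), (128, []), (98, []), (41, []), (42, []), (78, [1, 2, 0, 5]), (129, []), (130, []), (66, [2, 0, 2, 0, 2, 4, 5, 3, 3]), (42, []), (131, []), (84, [2, 1, 1, 1, 0, 3, 4, 5, 3]), (43, []), (44, []), (132, []), (82, [0, 2, 1, 1, 2, 0, 4, 3, 4]), (133, []), (44, []), (81, [2, 1, 1, 1, 0, 3, 4, 5, 3]), (119, [2, 1, 2, 2, 0, 5]), (45, []), (134, []), (69, [0, 1, 1, 1, 1, 3, 5, 3, 3]), (80, [0, 2, 1, 1, 2, 0, 4, 3, 4]), (45, []), (46, []), (135, []), (136, []), (50, [0, 1, 1, 1, 1,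 3, 5, 3, 3]), (104, [0, 1, 0, 1, 4, 4, 3]), (47, []), (48, []), (137, []), (69, [0, 1, 1, 1, 1, 3, 5, 3, 3]), (106, [0, 0, 1, 2, 0, 0, 5, 4, 5, 4]), (48, []), (92, [1, 1, 1, 0, 0, 0, 3, 5]), (138, []), (49, []), (89, [2, 0, 0, 1, 4, 3, 5, 3]), (139, []), (50, []), (90, [1, 1, 1, 0, 0, 0, 3, 5]), (140, []), (51, []), (141, []), (52, []), (142, []), (88, [1, 1, 1, 0, 0, 0, 3, 5]), (53, []), (138, []), (143, []), (144, []), (145, []), (53, []), (54, []), (57, [0, 0, 0]), (146, []), (147, []), (54, []), (148, []), (149, []), (55, []), (150, []), (151, []), (77, []), (55, []), (56, []), (152, []), (153, []), (57, []), (154, []), (155, []), (101, [1, 2, 1, 1, 0, 1, 4, 5, 4]), (58, []), (156, []), (157, []), (158, []), (58, []), (59, []), (103, [1, 2, 1, 1, 0, 1, 4, 5, 4]), (140, [2, 2, 2, 1, 5]), (60, []), (86, [1, 2,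 1, 2, 0, 0, 4, 5, 3, 3]), (61, []), (148, [0, 1, 0, 0, 2, 0, 3, 4, 5, 5]), (60, []), (159, []), (88, [0, 0, 2, 2, 2, 0, 3, 3, 3]), (61, []), (160, []), (62, []), (161, []), (145, [1, 2, 0, 1, 3, 5, 3, 4]), (71, []), (162, []), (62, []), (163, []), (164, []), (63, []), (64, []), (165, []), (166, []), (167, []), (64, []), (168, []), (66, []), (169, []), (170, []), (171, []), (67, []), (172, []), (173, []), (174, []), (67, []), (68, []), (175, []), (176, []), (177, []), (178, []), (68, []), (179, []), (70, []), (180, []), (165, [1, 1, 0, 0, 5, 4]), (181, []), (70, []), (83, [1, 2, 0, 0, 5, 4, 3, 3]), (71, []), (182, []), (183, []), (184, []), (72, []), (73, []), (185, []), (175, [1, 0, 1, 3, 5, 4, 5]), (186, []), (73, []), (187, []), (188, []), (74, []), (144, [2, 1, 1, 0, 1, 4]), (189, []), (190, []), (74, []), (75,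 []), (191, []), (192, []), (169, [1, 1, 1, 0, 3, 5, 3]), (193, []), (75, []), (178, [2, 2, 2, 0, 1, 5, 4]), (194, []), (76, []), (77, []), (146, [2, 1, 1, 0, 1, 4]), (189, []), (129, [1, 1, 1, 0, 0, 0, 3, 5]), (195, []), (78, []), (79, []), (196, []), (130, [1, 1, 1, 0, 0, 0, 3, 5]), (80, []), (179, [0, 2, 0, 2, 3, 5]), (197, []), (198, []), (81, []), (184, [2, 0, 0, 5, 4, 3, 3]), (82, []), (187, [0, 1, 0, 2, 5, 5]), (199, []), (200, []), (189, [0, 1, 0, 1, 4, 4, 3]), (83, []), (162, [2, 1, 2, 2, 0, 5]), (85, []), (164, [0, 1, 0, 2, 5, 5]), (166, [0, 0, 0, 2, 1, 0, 3, 5, 4, 5]), (201, []), (85, []), (161, [0, 0, 1, 2, 0, 0, 5, 4, 5, 4]), (87, []), (202, []), (89, []), (93, []), (163, [0, 2, 2, 2, 0, 3, 4, 5, 3]), (90, []), (203, []), (204, []), (91, []), (159, [1, 2, 0, 2, 3, 5, 4, 5]), (103, [0, 0, 1, 3, 5, 3,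 4]), (205, []), (167, [0, 1, 1, 0, 0, 0, 3, 5, 3]), (91, []), (206, []), (92, []), (207, []), (208, []), (209, []), (93, []), (94, []), (210, []), (123, [2, 0, 1, 1, 1, 4, 5, 3, 3]), (211, []), (94, []), (107, [2, 2, 2, 0, 5, 4]), (212, []), (128, [2, 0, 1, 1, 1, 4, 5, 3, 3]), (95, []), (96, []), (213, []), (214, []), (105, [1, 0, 0, 1, 0, 0, 4, 5]), (215, []), (96, []), (97, []), (168, [2, 2, 1, 0, 0, 5, 4, 4, 3]), (201, [2, 0, 2, 2, 2, 0, 5, 4, 3]), (196, [0, 1, 1, 2, 0, 5, 4]), (216, []), (97, []), (98, []), (153, [2, 0, 0, 2, 1, 3, 3]), (212, []), (170, [2, 2, 0, 0, 2, 0, 4, 4, 3]), (99, []), (173, [2, 2, 0, 0, 2, 0, 4, 4, 3]), (174, [0, 1, 2, 0, 1, 4, 3, 3]), (151, [2, 1, 0, 3, 5, 4, 5]), (99, []), (217, []), (100, []), (218, []), (219, []), (220, []), (100, []), (218, [1, 0, 0, 1]), (221, []), (101, []), (102,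 []), (219, [1, 0, 0, 2, 4, 5, 3, 3]), (219, []), (222, []), (102, []), (223, []), (223, []), (140, [1, 1, 2, 2, 1, 3, 4, 5, 3]), (105, []), (160, [0, 0, 0, 1, 0, 1, 3, 3]), (207, [1, 2, 2, 0, 2, 1, 4, 5, 4, 3]), (106, []), (137, [0, 0, 2, 2, 2, 0, 3, 3, 3]), (107, []), (224, []), (135, [1, 2, 0, 0, 5, 4, 3, 3]), (108, []), (225, []), (109, []), (204, [1, 2, 2, 0, 0, 0, 5, 3]), (138, [2, 2, 1, 1, 1, 3, 5, 4, 5]), (224, [1, 0, 0, 0, 4, 5, 4]), (109, []), (135, [2, 2, 1, 2, 0, 5, 3, 3, 3]), (118, [1, 1, 2, 0, 4, 4, 5, 3]), (110, []), (211, [2, 2, 1, 2, 0, 3, 3]), (136, [1, 0, 1, 0, 0, 3, 5, 3]), (226, []), (110, []), (111, []), (141, [1, 1, 2, 0, 0, 3, 5, 3, 3]), (227, []), (228, []), (149, [0, 0, 2, 0, 1, 5, 5, 4]), (111, []), (126, [2, 2, 1, 0, 0, 1, 4, 4, 5, 3]), (112, []), (196, [2, 1, 1, 0, 2, 5, 4, 4, 5]), (152,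 [2, 0, 1, 0, 5, 3, 4]), (228, [0, 0, 2, 1, 4, 4, 5, 3]), (112, []), (113, []), (197, [2, 1, 5, 3, 3]), (229, []), (230, []), (198, [2, 1, 2, 0, 5, 5]), (113, []), (114, []), (212, [0, 2, 2, 1, 5, 3, 4, 5]), (152, [2, 0, 1, 0, 5, 3, 4]), (153, [2, 2, 0, 1, 0]), (114, []), (205, []), (231, []), (115, []), (121, [2, 2, 1, 2, 0, 5, 4, 5]), (232, []), (208, [2, 4, 4, 3]), (115, []), (116, []), (233, []), (195, [2, 1, 4, 4, 5, 3]), (127, [2, 0, 1, 2, 0, 4]), (116, []), (234, []), (117, []), (131, [1, 2, 0, 5, 4, 4, 3]), (210, [0, 2, 1, 1, 2, 0, 5, 4, 5, 4]), (235, []), (236, []), (117, []), (237, []), (118, []), (238, []), (191, [0, 1, 2, 1, 0, 3, 3]), (234, []), (119, []), (120, []), (239, []), (216, [0, 1, 2, 1, 1, 5, 4, 4, 3]), (194, [0, 2, 1, 0, 4, 3, 5]), (120, []), (132, [2, 2, 2, 1, 3, 3, 3]), (240, []), (121,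 []), (241, []), (122, []), (242, []), (243, []), (244, []), (133, [2, 2, 1, 2, 0, 5, 3, 3, 3]), (122, []), (123, []), (245, []), (246, []), (124, []), (134, [1, 2, 1, 2, 0, 0, 4, 5, 3, 3]), (128, []), (247, []), (124, []), (232, [1, 0, 1, 3, 5, 4, 5]), (182, [1, 1, 2, 0, 0, 5]), (125, []), (248, []), (201, [2, 1, 1, 1, 0, 0, 5, 4]), (249, []), (125, []), (216, [0, 2, 2, 0, 2, 1, 5, 3, 3]), (126, []), (231, [1, 2, 1, 4, 5, 3]), (184, [2, 2, 2, 0, 4, 3, 4]), (127, []), (239, [0, 2, 2, 1]), (250, []), (129, []), (177, [2, 0, 2, 0, 2, 4, 5, 3, 3]), (150, [2, 1, 0, 2, 1, 4, 3, 5, 3]), (130, []), (169, [2, 0, 1, 0, 0, 4]), (199, [0, 2, 1, 1, 2, 0, 4, 3, 4]), (171, [1, 1, 2, 0, 5, 3, 3, 3]), (131, []), (132, []), (172, [2, 2, 1, 0, 0, 1, 5, 5, 4]), (251, []), (197, [2, 1, 1, 1, 0, 3, 4, 5, 3]), (231, [0, 1, 2, 1, 0, 4,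 4, 4]), (133, []), (134, []), (252, []), (253, []), (192, [2, 2, 1, 1, 1, 4, 3, 5]), (136, []), (149, [1, 0, 0, 1, 0, 4, 3, 4]), (209, [0, 2, 0, 1, 4, 4, 5, 3]), (254, []), (137, []), (215, [2, 0, 1, 3, 5, 4]), (139, []), (252, [1, 1, 0, 0, 4, 3, 5]), (255, []), (163, [2, 0, 2, 1, 1, 1, 3, 4, 5, 3]), (139, []), (141, []), (237, [1, 2, 1, 3, 4]), (174, []), (142, []), (223, [1, 2, 0, 2, 3, 5, 4, 5]), (242, [1, 1, 2, 0, 0, 4, 3]), (243, [0, 1, 2, 1, 0, 5, 4, 4, 5]), (160, [0, 0, 0, 2, 4, 4, 5, 3]), (142, []), (143, []), (176, [2, 2, 2, 0, 0, 1, 4, 3, 5, 3]), (226, [0, 2, 2, 2, 0, 3, 4, 5, 3]), (202, [2, 1, 0, 0, 2, 3, 5, 4, 5]), (143, []), (256, []), (221, [0, 2, 2, 4, 3, 5]), (144, []), (179, [2, 2, 0, 0, 0, 5, 3]), (145, []), (241, [0, 1, 0, 2, 5, 5]), (165, [1, 1, 2, 0, 1, 0, 5, 4]), (146, []), (173, [0, 2, 0,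 2, 5, 4]), (151, []), (257, []), (147, []), (236, [0, 1, 0, 2, 2, 5, 3, 4, 5]), (258, []), (222, [2, 1, 0, 1, 0, 3, 3, 3]), (147, []), (203, [2, 2, 1, 1, 0, 0, 3, 4, 5, 5]), (148, []), (259, []), (193, [1, 2, 1, 3, 5, 3]), (150, []), (183, [0, 2, 2, 1]), (154, []), (257, [0]), (217, [0, 0, 2, 0, 1, 3, 5, 4]), (156, [1, 0, 0, 2, 4, 5, 3, 3]), (260, []), (154, []), (155, []), (157, [1, 0, 0, 1]), (157, []), (238, [1, 1, 2, 2, 1, 3, 5, 3, 4]), (155, []), (261, []), (210, [2, 1, 2, 2, 5, 5]), (156, []), (262, []), (158, []), (214, [2, 1, 1, 0, 1, 5, 5, 4, 3]), (258, [0, 1, 0, 0, 2, 0, 3, 4, 5, 5]), (159, []), (206, [1, 1, 2, 2, 1, 3, 4, 5, 3]), (158, []), (164, [0, 1, 1, 1, 0, 1, 4, 4, 3]), (259, [1, 2, 0, 1, 3, 5, 3, 4]), (161, []), (256, [1, 2, 0, 1, 3, 5, 3, 4]), (225, [0, 0, 2, 0, 1, 3, 5, 4]), (162, []), (246,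 [1, 1, 2, 1, 0, 4, 5]), (166, []), (208, [2, 2, 1, 1, 1, 3, 5, 4, 5]), (227, [0, 0]), (263, []), (167, []), (168, []), (170, [2, 1, 2, 1, 0, 0, 3, 5, 4, 5]), (228, [0, 0]), (261, [2, 1, 5, 3, 3]), (232, [1, 2, 2, 0, 3, 5, 3, 4]), (171, []), (172, []), (244, [1, 0, 2, 2, 0, 5, 4, 5, 4]), (237, [0, 2, 1, 2, 0, 5]), (175, []), (199, [2, 4, 5]), (193, [1, 2, 2, 0, 2, 1, 5, 4]), (176, []), (229, [1, 0, 2, 0, 5, 4]), (190, [2, 2, 1, 2, 0, 5, 4, 5]), (239, [1, 1, 0, 1, 0, 0, 5, 3]), (177, []), (264, []), (245, [0, 1, 2, 1, 0, 3, 3]), (182, []), (178, []), (180, []), (255, [0, 2, 1, 5, 4]), (265, []), (259, [1, 2, 2, 1, 4, 5]), (180, []), (213, [0, 0, 1, 4, 5, 4]), (181, []), (205, [1, 2, 2, 0, 2, 1, 3]), (230, [0, 0, 1, 0, 0, 5, 4, 5, 4]), (220, [2, 2, 1, 1, 0, 3, 5, 4]), (258, [2, 2, 0, 0, 2, 0, 5, 3]), (181, []), (233,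 [1, 1, 2, 0, 0, 5, 4, 4, 3]), (183, []), (194, [0, 1, 2, 1, 1, 5, 4, 4, 3]), (185, []), (266, []), (267, []), (260, [0, 2, 0, 4, 3, 4]), (211, [2, 2, 1, 2, 0, 5, 3, 3, 3]), (185, []), (268, []), (186, []), (206, [2, 2, 2, 0, 0, 1, 5]), (207, [1, 1, 2, 0, 0, 3, 4, 5]), (262, [1, 1, 2, 2, 3, 4, 5]), (186, []), (187, []), (230, [0, 2, 1, 1, 2, 0]), (268, [2, 0, 1, 0, 1, 5, 3]), (234, [1, 1, 2, 0, 0, 5]), (188, []), (245, [2, 1, 0, 1, 0, 4, 5]), (226, [2, 1, 1, 0, 0, 3, 5, 3]), (269, []), (188, []), (190, []), (270, []), (250, [0, 2, 1, 4, 3, 3]), (254, [2, 1, 2, 1, 0, 0, 3, 4, 5, 3]), (261, [1, 1, 2, 2, 4, 4]), (191, []), (271, []), (192, []), (260, [1, 1, 2, 2, 4, 4]), (195, []), (272, []), (247, [1, 0, 2, 2, 5, 5]), (266, [0, 1, 2, 1, 0, 4, 4, 4]), (268, [0, 1, 2, 1, 0, 4, 4, 4]), (198, []), (273, []), (200, []),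 (203, [2, 1, 1, 0, 2, 4, 5, 3, 3]), (263, [0, 0, 0, 2, 0, 4, 3, 5, 3]), (256, [0, 2, 0, 1, 4, 4, 5, 3]), (200, []), (248, [2, 2, 1, 0, 3, 4, 5]), (202, []), (263, [0, 2, 0, 1, 5, 4, 4, 3]), (204, []), (235, [2, 1, 0, 2, 3, 4, 5, 5]), (274, []), (225, [2, 2, 2, 0, 5, 4]), (253, [2, 1, 0, 0, 2, 3, 5, 4, 5]), (209, []), (213, []), (217, [0, 0, 0]), (269, [1, 0, 2, 2, 2, 3, 5, 3, 3]), (214, []), (238, [2, 1, 0, 0, 3, 3]), (222, [1, 0, 0, 1, 0, 0, 4, 5]), (236, [2, 2, 1, 1, 1, 0, 3, 4, 5]), (224, [2, 2, 2, 0, 5, 4]), (215, []), (241, [1, 0, 2, 1, 5, 4, 5, 4]), (218, []), (249, [2, 2, 2, 0, 4, 4]), (229, [1, 1, 2, 0, 5, 3, 3, 3]), (248, [2, 2, 2, 0, 4, 4]), (220, []), (275, []), (243, [0, 1, 0, 3, 5, 3]), (221, []), (253, [2, 1, 2, 0, 0, 4, 5, 4]), (227, []), (254, [0, 0, 1, 1, 0, 1, 5, 4, 3, 3]), (272, [1, 2, 2, 1, 0,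 5, 4, 4]), (264, [0, 0, 2, 0, 1, 3, 5, 4]), (233, []), (276, []), (267, [0, 1, 1, 2, 1, 3, 5, 3]), (235, []), (251, [2, 4, 5]), (240, []), (272, [2, 0, 1, 0, 4, 4, 5]), (277, []), (265, [1, 1, 2, 0, 3, 4, 5]), (240, []), (242, []), (251, [2, 4, 5]), (244, [2, 2, 2, 0, 1, 4, 3, 5]), (278, []), (246, []), (257, [0, 2, 1, 1, 2, 0, 3, 3, 3]), (279, []), (247, []), (277, [1, 2, 0, 0, 2, 3, 5, 3, 3]), (249, []), (278, [2, 1, 2, 2, 5, 4]), (279, [2, 2, 1, 1, 0, 1, 5, 5, 4, 3]), (264, [2, 2, 2, 0, 1, 5, 4, 5]), (250, []), (266, [2, 2, 0, 0, 2, 0, 5, 4, 3, 3]), (252, []), (279, [0, 1, 0, 1, 4, 4, 3]), (278, [0, 1, 1, 2, 2, 5, 4, 5]), (274, [1, 1, 1, 0, 0, 0, 3, 5]), (277, [1, 0, 1, 0, 0, 5, 4]), (255, []), (262, []), (275, [0, 0, 1, 2, 0, 0, 5, 3]), (276, [1, 1, 0, 1, 3, 4]), (265, []), (276, [1, 2, 2, 1, 0, 4]), (275, [1,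 0, 1, 1, 0, 0]), (267, []), (274, [2, 0, 1, 0, 0, 5]), (270, [0, 2, 1, 1, 1, 5, 4, 4, 3]), (269, []), (271, [2, 1, 2, 2, 5, 4]), (273, [0, 0, 0, 2, 5, 4, 3]), (270, []), (273, [1, 2, 1, 2, 0, 0, 4, 5, 3, 3]), (271, [0, 1, 0, 2, 2, 4, 3, 3])]

/-- Generators of a level. -/
def pX1 : List (List ℕ) := [[0, 2, 1, 0, 2, 0, 1, 2, 0, 1, 0, 1], [0, 1, 2, 0, 1, 2, 0, 1, 2, 1, 2, 1, 0, 2, 0], [1, 2, 0, 2, 0, 1, 0, 1, 0, 2, 1, 0, 2, 0, 2]]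

/-- Representatives as words in the generators. -/
def pR1 : List (List ℕ) := [[], [0], [1], [2], [0, 0], [1, 0], [2, 0], [0, 1], [1, 1], [2, 1], [0, 2], [2, 2], [0, 0, 0], [1, 0, 0], [2, 0, 0], [0, 1, 0], [1, 1, 0], [2, 1, 0], [0, 2, 0], [1, 2, 0], [2, 2, 0], [0, 0, 1], [1, 0, 1], [2, 0, 1], [1, 1, 1], [2, 1, 1], [0, 2, 1], [1, 2, 1], [2, 2, 1], [0, 0, 2], [1, 0, 2], [2, 0, 2], [0, 2, 2], [1, 2, 2], [2, 2, 2], [1, 0, 0, 0], [2, 0, 0, 0], [0, 1, 0, 0], [1, 1, 0, 0], [2, 1, 0, 0], [1, 2, 0, 0], [0, 0, 1, 0], [1, 0, 1, 0], [2, 0, 1, 0], [0, 1, 1, 0], [1, 1, 1, 0], [2, 1, 1, 0], [0, 2, 1, 0], [1, 2, 1, 0], [2, 2, 1, 0], [0, 0, 2, 0], [1, 0, 2, 0], [0, 1, 2, 0], [1, 1, 2, 0], [2, 1, 2, 0], [0, 2, 2, 0], [1, 2, 2, 0], [2, 2, 2, 0], [0, 0, 0, 1], [1, 0, 0, 1], [2, 0, 0, 1], [0, 1, 0, 1], [1, 1, 0, 1], [2, 1, 0, 1], [0,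 2, 0, 1], [1, 2, 0, 1], [2, 2, 0, 1], [0, 1, 1, 1], [1, 1, 1, 1], [2, 1, 1, 1], [0, 2, 1, 1], [1, 2, 1, 1], [0, 0, 2, 1], [1, 0, 2, 1], [2, 0, 2, 1], [1, 1, 2, 1], [2, 1, 2, 1], [0, 2, 2, 1], [1, 2, 2, 1], [2, 2, 2, 1], [0, 0, 0, 2], [1, 0, 0, 2], [2, 0, 0, 2], [0, 1, 0, 2], [1, 1, 0, 2], [2, 1, 0, 2], [0, 2, 0, 2], [1, 2, 0, 2], [0, 0, 2, 2], [1, 0, 2, 2], [2, 0, 2, 2], [1, 1, 2, 2], [2, 1, 2, 2], [0, 2, 2, 2], [1, 2, 2, 2], [1, 1, 0, 0, 0], [0, 2, 0, 0, 0], [1, 2, 0, 0, 0], [2, 2, 0, 0, 0], [0, 0, 1, 0, 0], [1, 0, 1, 0, 0], [2, 0, 1, 0, 0], [0, 1, 1, 0, 0], [1, 1, 1, 0, 0], [2, 1, 1, 0, 0], [0, 2, 1, 0, 0], [1, 2, 1, 0, 0], [2, 2, 1, 0, 0], [0, 1, 2, 0, 0], [1, 1, 2, 0, 0], [2, 1, 2, 0, 0], [1, 0, 0, 1, 0], [1, 1, 0, 1, 0], [2, 1, 0, 1, 0], [0, 2, 0, 1, 0], [1, 2, 0, 1, 0], [2, 2, 0, 1, 0], [2, 0, 1, 1, 0], [2,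 1, 1, 1, 0], [0, 2, 1, 1, 0], [2, 2, 1, 1, 0], [0, 0, 2, 1, 0], [0, 1, 2, 1, 0], [1, 1, 2, 1, 0], [1, 2, 2, 1, 0], [2, 2, 2, 1, 0], [0, 0, 0, 2, 0], [1, 0, 0, 2, 0], [2, 0, 0, 2, 0], [1, 1, 0, 2, 0], [0, 0, 1, 2, 0], [2, 0, 1, 2, 0], [0, 1, 1, 2, 0], [2, 1, 1, 2, 0], [0, 2, 1, 2, 0], [2, 2, 1, 2, 0], [1, 0, 2, 2, 0], [2, 1, 2, 2, 0], [0, 2, 2, 2, 0], [1, 0, 0, 0, 1], [2, 1, 0, 0, 1], [1, 2, 0, 0, 1], [2, 2, 0, 0, 1], [0, 0, 1, 0, 1], [2, 0, 1, 0, 1], [0, 1, 1, 0, 1], [1, 1, 1, 0, 1], [2, 1, 1, 0, 1], [0, 2, 1, 0, 1], [1, 2, 1, 0, 1], [0, 0, 2, 0, 1], [1, 0, 2, 0, 1], [2, 0, 2, 0, 1], [0, 1, 2, 0, 1], [0, 2, 2, 0, 1], [1, 2, 2, 0, 1], [2, 2, 2, 0, 1], [2, 0, 1, 1, 1], [0, 1, 1, 1, 1], [2, 1, 1, 1, 1], [0, 2, 1, 1, 1], [2, 2, 1, 1, 1], [0, 0, 2, 1, 1], [1, 0, 2, 1, 1], [0, 1, 2, 1, 1], [0, 0, 0, 2, 1], [2, 0, 0, 2,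 1], [0, 1, 0, 2, 1], [2, 1, 0, 2, 1], [0, 2, 0, 2, 1], [2, 2, 0, 2, 1], [0, 1, 1, 2, 1], [2, 1, 1, 2, 1], [0, 2, 1, 2, 1], [2, 2, 1, 2, 1], [0, 0, 2, 2, 1], [1, 0, 2, 2, 1], [1, 1, 2, 2, 1], [2, 1, 0, 0, 2], [1, 2, 0, 0, 2], [1, 0, 1, 0, 2], [2, 1, 1, 0, 2], [2, 2, 1, 0, 2], [0, 0, 2, 0, 2], [2, 0, 2, 0, 2], [2, 1, 2, 0, 2], [0, 1, 0, 2, 2], [1, 1, 0, 2, 2], [0, 1, 1, 2, 2], [2, 2, 1, 2, 2], [1, 0, 2, 2, 2], [0, 1, 1, 0, 0, 0], [1, 1, 1, 0, 0, 0], [2, 1, 1, 0, 0, 0], [0, 2, 2, 0, 0, 0], [1, 2, 2, 0, 0, 0], [2, 2, 2, 0, 0, 0], [0, 0, 0, 1, 0, 0], [1, 0, 0, 1, 0, 0], [1, 1, 0, 1, 0, 0], [1, 0, 1, 1, 0, 0], [2, 1, 1, 1, 0, 0], [2, 2, 1, 1, 0, 0], [1, 0, 2, 1, 0, 0], [1, 1, 2, 1, 0, 0], [2, 1, 2, 1, 0, 0], [0, 0, 1, 2, 0, 0], [1, 2, 1, 2, 0, 0], [0, 1, 0, 0, 1, 0], [1, 1, 2, 0, 1, 0], [1, 2, 2, 0, 1, 0], [2, 2, 1, 1,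 1, 0], [0, 0, 2, 1, 1, 0], [0, 0, 0, 2, 1, 0], [0, 1, 2, 2, 1, 0], [2, 1, 2, 2, 1, 0], [2, 2, 2, 2, 1, 0], [2, 0, 0, 0, 2, 0], [0, 1, 0, 0, 2, 0], [2, 2, 0, 0, 2, 0], [0, 2, 0, 1, 2, 0], [0, 2, 1, 1, 2, 0], [0, 2, 2, 1, 2, 0], [2, 2, 1, 2, 2, 0], [0, 0, 2, 2, 2, 0], [2, 0, 2, 2, 2, 0], [2, 2, 1, 0, 0, 1], [2, 2, 2, 0, 0, 1], [0, 0, 0, 1, 0, 1], [1, 0, 0, 1, 0, 1], [2, 2, 0, 1, 0, 1], [0, 0, 1, 1, 0, 1], [0, 1, 1, 1, 0, 1], [0, 2, 1, 1, 0, 1], [1, 2, 1, 1, 0, 1], [2, 2, 1, 1, 0, 1], [2, 1, 2, 1, 0, 1], [2, 0, 1, 2, 0, 1], [2, 0, 2, 1, 1, 1], [2, 2, 1, 0, 2, 1], [0, 2, 2, 0, 2, 1], [1, 2, 2, 0, 2, 1], [0, 2, 1, 1, 0, 2]]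

/-- The sifts. -/
def pE1 : List (ℕ × List ℕ) := [(1, []), (2, []), (3, []), (4, []), (5, []), (6, []), (7, []), (8, []), (9, []), (10, []), (0, [2, 0]), (11, []), (12, []), (13, []), (14, []), (15, []), (16, []), (17, []), (18, []), (19, []), (20, []), (21, []), (22, []), (23, []), (20, [2, 2]), (24, []), (25, []), (26, []), (27, []), (28, []), (29, []), (30, []), (31, []), (32, []), (33, []), (34, []), (0, []), (35, []), (36, []), (37, []), (38, []), (39, []), (35, [2, 0]), (40, []), (15, [1, 1, 2]), (41, []), (42, []), (43, []), (44, []), (45, []), (46, []), (47, []), (48, []), (49, []), (50, []), (51, []), (19, [1, 1]), (52, []), (53, []), (54, []), (55, []), (56, []), (57, []), (58, []), (59, []), (60, []), (61, []), (62, []), (63, []), (64, []), (65, []), (66, []), (67, []), (68, []), (69, []), (70, []),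 (71, []), (4, [1, 0, 2]), (72, []), (73, []), (74, []), (5, [1]), (75, []), (76, []), (77, []), (78, []), (79, []), (80, []), (81, []), (82, []), (83, []), (84, []), (85, []), (86, []), (87, []), (1, [0]), (88, []), (89, []), (90, []), (68, [0, 0, 0]), (91, []), (92, []), (93, []), (94, []), (62, [2, 2, 1]), (84, [1, 0]), (95, []), (50, [2, 1, 0]), (96, []), (97, []), (98, []), (99, []), (100, []), (101, []), (102, []), (103, []), (104, []), (105, []), (106, []), (107, []), (108, []), (109, []), (110, []), (27, [2, 1, 1, 0]), (111, []), (78, [2, 1, 1]), (46, [1, 2]), (112, []), (113, []), (114, []), (115, []), (116, []), (38, [0, 2]), (110, [0, 0]), (117, []), (116, [1, 1, 2]), (90, [0, 2, 0, 0]), (118, []), (119, []), (80, [0, 1, 2, 2]), (120, []), (121, []), (14, [2, 0, 1]), (109, [2, 1, 2]), (122, []), (123,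 []), (52, [2]), (109, [1, 1, 0]), (124, []), (125, []), (126, []), (127, []), (128, []), (91, [1, 0]), (129, []), (51, [1, 0, 0]), (130, []), (52, [2, 1, 1, 2]), (131, []), (132, []), (15, [0, 2, 0]), (133, []), (134, []), (36, [1, 0, 0]), (135, []), (90, [2, 0]), (136, []), (68, [0, 2, 0, 0]), (104, [0, 2]), (34, [2, 1, 0]), (137, []), (138, []), (9, [0]), (67, []), (2, []), (139, []), (8, [1, 1]), (14, [0, 1, 2]), (21, [0, 1]), (140, []), (111, [1]), (141, []), (142, []), (143, []), (82, [2, 0, 0]), (144, []), (145, []), (146, []), (147, []), (148, []), (149, []), (99, [2, 0, 0, 0]), (150, []), (151, []), (152, []), (153, []), (135, [1, 0, 2]), (61, [0, 2, 0, 1]), (154, []), (155, []), (156, []), (49, [0, 0, 0]), (105, [0, 1, 2, 0]), (157, []), (158, []), (3, [2, 0, 0, 0]), (159, []), (160, []), (77, [0, 0]),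 (161, []), (162, []), (163, []), (71, [1, 2, 0]), (164, []), (113, [2, 1, 2, 1]), (5, [0, 2]), (165, []), (150, [2, 1, 1, 0]), (166, []), (167, []), (152, [2, 1, 0]), (168, []), (169, []), (114, [0, 2, 0, 1]), (170, []), (171, []), (166, [1, 1, 1]), (172, []), (173, []), (169, [1, 0, 2]), (174, []), (175, []), (176, []), (164, [1, 0, 2]), (125, [0, 0, 0]), (177, []), (149, [2, 1, 0, 0]), (56, [1, 1, 0]), (159, [1, 0, 2]), (143, [2, 1, 2]), (3, []), (70, [0, 2, 0]), (2, [1, 2, 0, 0]), (79, [1, 1, 1]), (29, [1, 1, 2]), (178, []), (174, [2, 0, 0]), (179, []), (83, [1, 2, 1]), (133, [2, 2, 1]), (180, []), (115, [2, 1, 2]), (59, [1, 2, 1, 0]), (69, [1, 1, 2, 0]), (181, []), (28, [0, 2, 1]), (61, [1, 1, 2, 0]), (182, []), (183, []), (1, [1, 2]), (184, []), (172, [0, 1, 2, 2]), (66, [2]), (185, []), (180, [2, 0, 0]), (122,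 [1, 2]), (146, [1, 0]), (186, []), (187, []), (183, [1]), (8, [0, 2, 0, 0]), (86, [0, 1, 2, 2]), (97, [0, 1, 2, 0]), (188, []), (44, [2, 2]), (65, [2, 0]), (166, [1, 0, 2]), (175, [1, 0, 2, 0]), (189, []), (36, [2, 1, 0, 0]), (190, []), (169, [0, 2]), (60, [2, 0]), (55, [1, 2, 1, 0]), (29, [1, 0, 0]), (191, []), (192, []), (193, []), (34, [1, 2, 1, 0]), (154, [2, 1, 2]), (72, [0, 0, 0]), (168, [2, 2]), (170, [2, 1, 2, 1]), (177, [2, 0, 0, 0]), (194, []), (195, []), (196, []), (197, []), (198, []), (124, [0, 1]), (131, [0, 1, 2]), (199, []), (91, [2, 1, 1, 2]), (156, [1, 1, 1]), (126, [1, 1, 1]), (26, [2, 0]), (16, [0, 2, 0, 0]), (200, []), (88, [0, 1, 2]), (112, [2, 1, 2]), (191, [0, 0]), (201, []), (81, [1, 1, 0]), (189, [2, 1, 2]), (202, []), (98, [2, 0, 1]), (203, []), (53, [2, 2, 1]), (63, [0, 1, 2, 2]), (204,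 []), (205, []), (135, [1, 2, 2]), (140, [0, 2]), (138, [1, 0, 2]), (206, []), (43, [0, 2]), (32, [0, 0]), (24, [0, 1, 2]), (64, [0, 0]), (122, [0]), (142, [2, 1, 0, 0]), (207, []), (197, [2, 2, 1, 0]), (208, []), (41, [2, 1, 1]), (204, [2, 1]), (124, [2, 2, 1, 0]), (6, [2, 0, 0]), (77, [1, 2, 1]), (129, [1, 1, 1]), (67, [2]), (171, [0, 2, 1, 2]), (87, [2, 1, 1]), (7, [2, 1]), (7, [2, 1, 1, 2]), (157, [2, 1, 1, 2]), (209, []), (160, [0, 2, 0]), (201, [2, 2, 1, 0]), (210, []), (58, [1, 1]), (123, [2, 0, 0]), (133, []), (151, [0]), (199, [0, 2, 0]), (102, [2, 1, 1, 0]), (211, []), (212, []), (117, [0, 2, 1]), (33, [2, 1, 1, 2]), (31, [0]), (205, [1, 0, 2, 0]), (203, [2, 1, 1]), (213, []), (107, [2, 0, 1]), (126, [1, 0]), (66, [0, 0, 0]), (88, [2, 1, 0, 0]), (103, [0, 2, 0]), (184, [1, 0, 2]), (116, [2]), (139, [2,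 0, 0]), (214, []), (49, [1, 0]), (215, []), (78, [0, 0, 0]), (118, [1, 2, 0]), (216, []), (6, []), (108, [1]), (217, []), (218, []), (216, [0]), (81, [1, 1]), (159, [2, 1]), (60, [2, 1, 0]), (219, []), (202, [1, 1]), (79, [1, 0]), (148, [2, 1, 1, 0]), (200, [0, 1, 2, 2]), (132, [1, 0, 2, 0]), (163, [1, 0, 1]), (220, []), (31, [2, 2, 1]), (191, [0, 2, 0, 0]), (101, [2]), (197, [0, 1, 2, 2]), (22, [2, 1, 2]), (221, []), (39, [2, 0, 0]), (192, [0, 2]), (161, [1, 0, 0]), (128, [1, 2]), (73, [2, 0, 0, 0]), (222, []), (142, [1, 0, 2]), (41, [1, 0, 2]), (65, [2, 1, 2]), (20, [0]), (162, [1, 2, 1]), (128, [1, 2, 0]), (143, [1, 1, 1]), (223, []), (224, []), (4, [1, 0, 2, 0]), (225, []), (152, [2, 2, 1, 0]), (85, [0, 0]), (132, [2, 0]), (215, [0, 2, 1, 2]), (156, [0, 2, 0, 1]), (226, []), (217, [0, 0]), (188, [0, 1]), (95,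 [2, 1, 2]), (76, [2, 0]), (165, [0, 1]), (227, []), (228, []), (229, []), (153, [1, 0, 0]), (210, [2, 1, 0]), (147, [1, 0, 0]), (230, []), (231, []), (201, [1, 2, 0, 0]), (111, [2, 0, 1]), (232, []), (74, [2]), (200, [1, 0, 1]), (233, []), (234, []), (235, []), (155, [2, 1, 2]), (104, [1, 2, 1]), (127, [0, 1, 2]), (107, [0, 2]), (213, [1, 2, 1, 0]), (236, []), (209, [2, 1, 2, 1]), (212, [1, 1, 2]), (56, [1, 2, 1]), (177, [1, 1, 2]), (47, [2, 0, 1]), (89, [1]), (73, [1, 1, 2, 0]), (221, [0, 2, 1, 2]), (222, [2, 0, 1]), (193, [1, 1, 2]), (196, [2, 1]), (237, []), (48, [0]), (125, [1, 2, 1]), (231, [2, 1, 1]), (106, [0, 0, 0]), (214, [2, 1, 0, 0]), (209, [0, 2, 0, 0]), (53, [0, 2, 0, 1]), (225, [0, 2, 1]), (158, []), (89, [1, 2, 1]), (172, []), (10, [0, 0, 0]), (211, [2, 0, 0, 0]), (28, [2, 0, 0, 0]), (206, [1, 2,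 2]), (230, [0, 1, 2]), (226, [2, 0, 0, 0]), (21, [1, 1]), (216, [1, 1]), (57, [2, 1, 0]), (238, []), (238, [1, 0, 2]), (178, [0, 2, 0]), (207, [1, 2]), (234, [1, 1]), (63, [2, 0]), (105, [2, 2]), (190, [1, 2, 0, 0]), (185, [0, 1]), (130, [1, 0, 1]), (163, [2, 2, 1]), (164, [0, 2, 1]), (179, [2, 1, 0, 0]), (9, []), (168, [1]), (186, [2, 0]), (118, [1, 2, 0, 0]), (160, [0, 0]), (167, [0, 2, 1, 2]), (139, [1, 0, 0]), (183, [0, 2, 0]), (187, [1, 2, 2]), (198, [2, 0, 1, 2]), (23, [2, 0, 0, 0]), (239, []), (151, [2, 0, 0]), (76, [2, 2, 1, 0]), (100, [2, 1, 1]), (240, []), (241, []), (45, [0, 1]), (144, [1, 2, 1]), (137, [2, 1, 0]), (13, [1, 1, 2, 0]), (43, [1, 0]), (144, [1, 1, 0]), (47, [1, 1, 2]), (110, [2, 0, 1, 2]), (181, [0, 2, 1, 2]), (233, [2, 1, 2]), (203, [0, 2, 1]), (12, [2]), (198, [1, 1, 2]), (85, [2, 1, 1,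 2]), (92, [0]), (94, [0, 2, 1, 2]), (40, [1, 1, 2, 0]), (10, [1, 1, 2, 0]), (87, [2, 0]), (74, [2, 1, 1]), (93, [2, 1, 0]), (38, [1, 1, 2, 0]), (82, [0]), (161, [2, 2, 1, 0]), (229, [0, 2, 0]), (237, [1, 2]), (58, [2, 1]), (12, [1, 1]), (11, [0, 2, 0]), (222, [0, 2, 1, 2]), (114, [1, 2, 1]), (242, []), (208, [2, 1]), (221, [1, 2, 1]), (113, [2, 1, 1]), (162, [1, 1, 0]), (96, [0, 2, 1]), (120, [0, 0, 0]), (218, [0, 1, 2, 2]), (210, [0, 2, 1, 2]), (235, [0]), (238, [1, 1, 2]), (154, [0, 1, 2]), (147, [1]), (231, [2, 0]), (218, [0, 2, 1]), (115, [2, 1, 1, 2]), (173, [2, 1, 0, 0]), (129, [0, 2, 1, 2]), (196, [1, 1]), (148, [2, 1, 1, 2]), (30, [2, 1, 1, 2]), (227, [2, 2, 1]), (219, [1, 2, 0, 0]), (24, [1, 1]), (179, [0, 1, 2, 0]), (32, [0, 1, 2, 0]), (190, [1, 0, 2, 0]), (71, [1, 1]), (158, [1, 2, 0, 0]), (84, [0, 2,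 0, 0]), (170, [2, 0, 0, 0]), (138, [1, 0, 2, 0]), (16, [0, 2, 1, 2]), (62, [2, 2, 1]), (211, [2, 2]), (212, [2, 1, 0]), (136, [1, 2, 2]), (184, [1, 0, 1]), (134, [1, 2]), (39, [2, 2, 1, 0]), (72, [1, 0, 0]), (102, [0, 0]), (45, [1, 1, 0]), (217, [2, 1, 0, 0]), (86, [1, 0, 2]), (239, [0, 1, 2, 0]), (153, [0, 2, 0, 1]), (112, [2, 1, 2]), (13, []), (98, [0, 1, 2]), (242, [2, 2]), (226, [1, 1, 1]), (99, [0, 1]), (208, [0]), (92, [1, 2, 0, 0]), (167, [1, 2, 0]), (0, [2, 1, 2, 1]), (19, [1, 0, 2]), (96, [1, 0, 2]), (224, [1, 0]), (195, [2, 1, 2]), (145, [1, 0, 1]), (214, [1, 2, 1]), (182, [0, 0, 0]), (236, [1]), (108, [0]), (178, [1, 2, 2]), (25, [2, 1, 0, 0]), (48, [1, 1, 1]), (189, []), (119, [2, 0, 1, 2]), (176, [0, 1, 2, 0]), (57, [2, 1, 1, 0]), (120, [0, 1, 2, 0]), (220, [0, 2, 1, 2]), (176, [2, 1, 2]), (171, [1]),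 (180, [2, 0, 0, 0]), (207, [0, 2]), (11, [2, 0, 0]), (121, [2, 2, 1]), (94, [2, 1, 2, 1]), (232, [2, 1, 1]), (64, [2, 0, 1, 2]), (23, [1, 2, 0]), (101, [0, 2]), (194, []), (75, [2, 2]), (224, [0, 0]), (173, [0, 2, 0]), (33, [0, 2, 0]), (174, []), (37, [1, 2, 0, 0]), (42, [1, 1, 0]), (242, [2, 1, 2, 1]), (213, [2]), (17, []), (220, [1, 2, 1]), (136, [0, 0]), (103, [2, 1, 1, 0]), (131, [2, 1, 0]), (75, [0, 1]), (146, [1, 0]), (194, [2, 0, 1]), (123, [2, 1]), (223, [2, 1, 1, 0]), (223, [1, 2, 1]), (234, [2, 2]), (225, [1, 1, 2, 0]), (130, [0, 1, 2, 2]), (188, [2, 2]), (181, [0, 2, 0, 1]), (37, [2, 0, 1]), (228, [0, 1, 2]), (185, [2, 2, 1]), (134, [1, 0]), (150, [1, 2, 0, 0]), (229, [1, 1, 0]), (182, [2, 2, 1]), (195, [1, 0, 1]), (30, [0, 2, 0, 1]), (202, [2, 0, 0]), (119, [1, 0, 2]), (149, [2, 1, 2, 1]), (193, [1,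 2, 2]), (27, [1, 2]), (69, [2, 1, 1, 0]), (237, [0, 0, 0]), (35, [0, 2, 0, 1]), (205, [1]), (17, [0, 2, 0]), (155, [2, 1, 2, 1]), (236, [1, 1, 2]), (228, [2, 2, 1, 0]), (42, [1, 1, 2, 0]), (97, [2, 1, 2]), (18, [2, 1, 2]), (241, [0]), (51, [1, 2, 2]), (227, [2, 1, 1, 2]), (232, []), (22, []), (121, [0, 1, 2, 2]), (145, [2, 0, 0, 0]), (100, [2, 2, 1]), (230, [1, 0, 0]), (165, [0, 0]), (137, [1, 2, 2]), (206, [0, 1, 2, 0]), (93, [2, 0, 0, 0]), (192, [0, 2, 0, 1]), (46, [2, 1, 0, 0]), (106, [0, 0, 0]), (140, [2, 0, 1]), (239, [2]), (55, [1, 0, 1]), (219, [0, 2, 0]), (50, [2, 1]), (44, [1, 1]), (25, [0, 1, 2]), (235, [1, 1, 2, 0]), (70, [1, 0, 0]), (117, [1, 2]), (157, [2, 2, 1]), (199, [1, 1, 0]), (141, [1, 2, 2]), (26, [1, 2, 2]), (18, [0, 2]), (204, [0, 0]), (233, [0, 0, 0]), (80, [1, 2, 0, 0]), (54, [1, 2]), (83,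 [2, 2, 1, 0]), (175, [2, 0, 0]), (241, [1, 1, 0]), (186, [0, 0]), (240, [0, 0]), (95, [2, 0]), (54, [2]), (141, [0, 2]), (187, [1, 2, 0]), (240, [0, 0, 0]), (40, [2, 1, 0]), (127, [2, 2, 1]), (215, [1, 0, 2]), (59, [1])]

/-- Generators of a level. -/
def pX2 : List (List ℕ) := [[1, 0, 2, 0, 2, 0, 1, 2, 1, 0, 1, 0, 2, 0, 1, 2, 1, 0, 2, 1, 0], [1, 0, 2, 0, 2, 1, 2, 1, 0, 1, 2, 1, 2, 0, 1, 2, 0, 1, 2, 0, 2, 0], [2, 1, 2, 0, 1, 2, 0, 1, 0, 1, 2, 0, 1, 0, 1, 2, 0, 1, 2, 1, 2]]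

/-- Representatives as words in the generators. -/
def pR2 : List (List ℕ) := [[], [0], [1], [2], [0, 0], [1, 0], [2, 0], [0, 1], [1, 1], [2, 1], [0, 2], [1, 2], [2, 2], [0, 0, 0], [1, 0, 0], [2, 0, 0], [1, 1, 0], [2, 1, 0], [0, 2, 0], [1, 2, 0], [1, 0, 1], [2, 0, 1], [1, 1, 1], [2, 1, 1], [0, 2, 1], [1, 2, 1], [2, 2, 1], [1, 0, 2], [0, 1, 2], [1, 1, 2], [2, 1, 2], [1, 2, 2], [2, 0, 0, 0], [2, 1, 0, 0], [0, 2, 0, 0], [1, 2, 0, 0], [2, 1, 1, 0], [1, 2, 1, 0], [2, 2, 1, 0], [1, 0, 2, 0], [0, 1, 2, 0], [1, 1, 2, 0], [0, 2, 0, 1], [2, 1, 2, 1], [2, 0, 1, 2], [2, 1, 1, 2], [0, 2, 1, 2], [0, 1, 2, 2]]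

/-- The sifts. -/
def pE2 : List (ℕ × List ℕ) := [(1, []), (2, []), (3, []), (4, []), (5, []), (6, []), (7, []), (8, []), (9, []), (10, []), (11, []), (12, []), (13, []), (14, []), (15, []), (9, []), (16, []), (17, []), (18, []), (19, []), (10, []), (14, []), (20, []), (21, []), (11, []), (22, []), (23, []), (24, []), (25, []), (26, []), (15, []), (27, []), (1, []), (28, []), (29, []), (30, []), (6, []), (31, []), (0, []), (0, []), (24, []), (32, []), (17, []), (28, []), (33, []), (34, []), (35, []), (18, []), (19, []), (23, []), (36, []), (2, []), (37, []), (38, []), (32, []), (39, []), (4, []), (40, []), (41, []), (29, []), (23, []), (12, []), (35, []), (42, []), (6, []), (24, []), (25, []), (4, []), (31, []), (37, []), (13, []), (27, []), (33, []), (40, []), (7, []), (36, []), (10, []), (43, []), (21, []), (15,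 []), (2, []), (30, []), (33, []), (8, []), (35, []), (36, []), (44, []), (31, []), (26, []), (45, []), (46, []), (21, []), (37, []), (47, []), (17, []), (40, []), (12, []), (43, []), (34, []), (5, []), (45, []), (42, []), (3, []), (46, []), (13, []), (8, []), (47, []), (41, []), (45, []), (0, []), (39, []), (44, []), (18, []), (11, []), (26, []), (32, []), (5, []), (29, []), (7, []), (16, []), (43, []), (44, []), (22, []), (27, []), (38, []), (20, []), (38, []), (3, []), (14, []), (16, []), (30, []), (47, []), (20, []), (1, []), (46, []), (22, []), (34, []), (19, []), (41, []), (9, []), (28, []), (39, []), (42, []), (25, [])]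

/-- The last generators in terms of the middle ones. -/
def pMem : List (List ℕ) := [[0, 0, 0, 2, 2, 0, 2], [0, 0, 2, 2, 0, 2, 0, 2, 2], [0, 1, 2, 2, 1, 2, 1]]

end Cfsg.Agent.Spor.U62U43
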