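import Cfsg.Agent.Lib.Spor.USixTwo.Group
import Cfsg.Agent.Lib.Spor.UFourThree.Group
import Cfsg.Agent.Lib.Spor.Cos.PairBound
import Cfsg.Agent.Lib.Spor.Cos.SubList
import Cfsg.Agent.Lib.Spor.U62U43.Data
import Cfsg.Agent.Lib.Spor.U62U43.PairData
import Cfsg.Agent.Lib.Spor.U62U43.Tabs

/-! The maps of `PSU₄(3)` into `PSU₆(2)`: the data. -/

set_option autoImplicit false

open Cfsg.Agent.Spor.Cos

namespace Cfsg.Agent.Spor.U62U43

/-- The small group. -/
abbrev G43 : Type := UFourThree.G43

/-- The large group. -/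
abbrev G62 : Type := USixTwo.G62

/-- The action of the large group. -/
abbrev A62 : Act := USixTwo.actA

/-- The action of the small group. -/
abbrev A43 : Act := UFourThree.actA

/-- The points of the large group that force the identity. -/
abbrev F62 : List ℕ := USixTwo.frame

/-- The points of the small group that force the identity. -/
abbrev F43 : List ℕ := UFourThree.frame

/-- The tables of the images. -/
def hTab : ℕ → Tab
  | 0 => hTab0
  | 1 => hTab1
  | _ => hTab2

/-- The images of the generators in one class. -/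
def hData (k : ℕ) : SubList.Data :=
  ⟨hGens.getD k [], hTab k, ⟨.leaf 0, 1, 0⟩, ⟨.leaf 0, 1, 0⟩, ⟨.leaf 0, 1, 0⟩, 0, 0, 0⟩

/-- The action of the images. -/
def hAct (k : ℕ) : Act := (hData k).act A62.N

/-- The levels. -/
def pLev : ℕ → PairBound.PLev
  | 0 => ⟨pX0, pR0, pX1 ++ pX2, pE0⟩
  | 1 => ⟨pX1, pR1, pX2, pE1⟩
  | _ => ⟨pX2, pR2, [], pE2⟩

/-- The check of one representative of a level in one class. -/
noncomputable def chkPair (k l j : ℕ) : Bool := (pLev l).chk A43 (hAct k) F43 F62 j

end Cfsg.Agent.Spor.U62U43
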