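import Cfsg.Agent.Lib.Spor.U62U43.Defs

/-! The facts about the words. -/

set_option autoImplicit false
set_option maxRecDepth 100000
set_option maxHeartbeats 4000000

open Cfsg.Agent.Spor.Cos Cfsg.Agent.Spor.Cos.Triple

namespace Cfsg.Agent.Spor.U62U43

/-- A word repeated. -/
def powF (w : List ℕ) (k : ℕ) : List ℕ := (List.replicate k w).flatten

/-- The two elements generating the small group. -/
abbrev twoSY : List (List ℕ) := [wS, wY]

theorem small_facts :
    sameW A43 F43 (powF wS 7) [] = true ∧ agree A43 F43 wS [] = false ∧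
    sameW A43 F43 (wT ++ wS) (powF wS 2 ++ wT) = true ∧ sameW A43 F43 (wT ++ wY) (wY ++ wT) = true ∧
    sameW A43 F43 (powF wY 3) [] = true ∧ sameW A43 F43 (powF (wS ++ wY) 5) [] = true ∧
    sameW A43 F43 (powF (wS ++ (wY ++ wY)) 8) [] = true ∧
    (∀ j < 3, sameW A43 F43 [j] (subW twoSY (genSY.getD j [])) = true) := by decide +kernel

theorem large_facts :
    sameW A62 F62 (powF ws 7) [] = true ∧ agree A62 F62 ws [] = false ∧
    sameW A62 F62 (wt ++ ws) (powF ws 2 ++ wt) = true ∧
    sameW A62 F62 (wm ++ ws) (powF ws 3 ++ wm) = true ∧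
    (ws.all fun x => Nat.blt x 3) = true ∧ (wt.all fun x => Nat.blt x 3) = true ∧
    (zs.all fun w => w.all fun x => Nat.blt x 3) = true := by decide +kernel

theorem class_facts : ∀ k < 3, sameW A62 F62 (subW (hGens.getD k []) wS) ws = true ∧
    sameW A62 F62 (subW (hGens.getD k []) wY) (zs.getD (zRep.getD k 0) []) = true ∧
    (hGens.getD k []).length = 3 := by decide +kernel

theorem list_facts : zs.length = 12 ∧ ∀ i < 12, zCls.getD i 0 < 3 ∧
    sameW A62 F62 (subW (hGens.getD (zCls.getD i 0) []) (zWords.getD i [])) (zs.getD i []) = true ∧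
    ((zWords.getD i []).all fun x => Nat.blt x 3) = true := by decide +kernel

/-- The two classes of a pair. -/
def pairOf (p : ℕ) : ℕ × ℕ := [(0, 1), (0, 2), (1, 2)].getD p (0, 0)

/-- The word of order eleven for a pair and an exponent. -/
def elevenW (p l : ℕ) : List ℕ :=
  subW [ws, powF wm l ++ (zs.getD (zRep.getD (pairOf p).1 0) [] ++ (powF wm l).reverse),
    zs.getD (zRep.getD (pairOf p).2 0) []] ((elevens.getD p []).getD l [])

theorem eleven_facts : ∀ p < 3, ∀ l < 6, sameW A62 F62 (powF (elevenW p l) 11) [] = true ∧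
    agree A62 F62 (elevenW p l) [] = false := by decide +kernel

end Cfsg.Agent.Spor.U62U43
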