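import Cfsg.Agent.Lib.Spor.Cos.RepSearch

/-! Representatives along a base for the search of a centraliser. -/

set_option autoImplicit false
set_option maxRecDepth 100000

namespace Cfsg.Agent.Spor.U62U43

/-- A level. -/
def sLev0 : Cos.RepSearch.RLev := ⟨3, none, [(0, [2, 1, 2, 0, 2, 1, 0, 2, 1]), (1, [1, 2, 1, 0, 1, 0, 2, 0, 2, 0]), (2, [0, 2, 1, 2, 0, 2, 0, 1, 2, 0]), (3, []), (4, [2, 0, 1, 0, 2, 1, 0, 2, 0]), (5, [0, 2, 1, 0, 1, 2, 0]), (6, [1, 0, 2, 0, 2, 0, 1, 2, 0, 1]), (7, [1, 2, 0, 1, 2, 1, 2, 0, 2, 0]), (8, [0, 2, 1, 2, 1, 2, 1, 0, 1, 2, 0]), (9, [2, 0, 1, 0, 2, 1, 0]), (10, [1, 2, 1, 2, 0, 1, 2, 0]), (11, [1, 0, 2, 0, 1, 2, 0]), (12, [2, 0, 2, 1, 2,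 1, 0, 1]), (13, [1, 2, 1, 0, 1, 2, 1, 2, 0]), (14, [1, 2, 1, 2, 0, 1, 0]), (15, [0, 1, 2, 0, 2]), (16, [0, 2, 0, 2, 0, 1, 2, 1, 2, 0, 2]), (17, [0, 2, 0, 2, 0, 2, 0]), (18, [2, 0, 2, 1, 0, 1, 2, 1, 0, 1, 0]), (19, [0, 2, 0, 2, 0, 2, 1, 0, 2, 1]), (20, [2, 0, 2, 1, 2, 1, 0, 1, 0]), (21, [0, 1, 2, 0, 2, 0, 1, 2, 0, 1]), (22, [0, 2, 0, 2, 0, 1, 0, 2]), (23, [0, 2, 1, 2, 1]), (24, [0, 2, 0, 1, 2, 1, 2, 0, 2, 0]), (25, [2, 1, 2, 0, 1, 0, 2, 1]), (26, [0, 1, 2, 1, 0, 1, 2, 1, 0, 2]), (27, [1, 2, 1, 0]), (28, [2, 0, 2, 0, 2, 0, 1, 2, 0, 1]), (29, [0, 1, 0, 2, 0, 2, 0, 1, 0]), (30, [1, 0, 1, 2, 1, 0]), (31, [1, 0, 2, 0, 1, 2, 1, 0]), (32, [1, 0, 2, 1, 2, 0]), (33, [2,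 1, 0, 2, 1, 2, 0, 1]), (34, [1, 2, 0, 1, 2, 0, 1, 0, 2]), (35, [2, 1, 2, 0, 2]), (36, [1, 2, 0, 2, 0, 2]), (37, [2, 0, 2, 1]), (38, [0, 2, 0, 2, 1, 0, 2, 1]), (39, [0, 1, 2, 1, 2, 0, 1, 0, 2]), (40, [2, 0, 1, 2, 1, 2, 1, 0, 2, 0, 1, 0]), (41, [2, 0, 2, 0, 1, 0, 2, 1, 2, 1, 0]), (42, [0, 1, 0, 2, 0]), (43, [1, 2, 1, 2, 1, 0, 1, 0]), (44, [0, 1, 2, 0, 2, 1, 0, 2, 0, 1, 0]), (45, [0, 1, 2, 1, 2, 0, 2, 1]), (46, [1, 2, 0, 2, 0, 2, 1, 2, 0]), (47, [0, 2, 0, 1, 2, 0, 2, 1]), (48, [1, 0, 1, 2, 1, 2, 1, 0, 1, 0]), (49, [0, 2, 0, 1]), (50, [0, 2, 0, 1, 2, 1, 2, 0, 2]), (51, [2, 0, 2, 1, 2, 0, 1]), (52, [0, 1, 0, 2, 1, 0, 2, 0, 2]), (53, [0, 2, 1, 2, 0, 1, 2, 1, 0, 1]),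 (54, [1, 2, 0, 2, 1, 2, 1, 0, 1]), (55, [1, 2, 0, 2, 1, 2, 1, 0, 2, 0]), (56, [2, 0, 2, 1, 2, 0, 2, 1]), (57, [0, 1, 2, 0, 2, 0, 1, 0, 2]), (58, [2, 0, 2, 0, 1, 2, 0, 1]), (59, [2, 1, 2, 0, 2, 0]), (60, [2, 0, 2, 1, 0, 2, 1]), (61, [1, 0, 1, 2, 0, 2, 0, 1, 0]), (62, [0, 2, 1, 2, 0, 2, 0, 1, 0]), (63, [0, 1, 2, 0, 1, 2, 0, 2]), (64, [0, 2, 1, 0, 1, 2, 0, 1]), (65, [1, 2, 1, 0, 1, 2, 1, 2, 0, 1]), (66, [0, 2, 0, 2, 0, 2, 1, 0, 2, 0, 2]), (67, [0, 2, 1, 2, 0, 2, 1, 2, 1]), (68, [2, 0, 1, 0]), (69, [2, 0, 1, 2, 0, 2, 0]), (70, [2, 0, 1, 0, 2, 0, 1, 2, 0, 1]), (71, [2, 1, 0, 1, 2, 0, 2, 0, 2, 0]), (72, [2, 0, 2, 1, 2, 0, 1, 0, 2, 0, 2]), (73, [0, 1, 2, 0, 1, 2, 1,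 2, 0, 1]), (74, [1, 2, 0]), (75, [2, 1, 0, 2, 0, 1, 0, 2, 0, 2]), (76, [2, 1, 2, 1, 2, 1, 0, 2, 0]), (77, [0, 1, 2, 1, 0, 2]), (78, [0, 2, 0, 1, 2, 1, 2, 1, 0, 1]), (79, [0, 1, 0, 2, 0, 2, 0, 1]), (80, [0, 2, 0, 1, 2, 1, 0, 1, 0]), (81, [2, 1, 0, 2, 1, 2, 0]), (82, [0, 1, 2, 0, 2, 0, 1, 2, 0]), (83, [1, 0, 2, 1, 0, 2, 0, 2, 0, 1]), (84, [0, 2, 0, 1, 2, 0, 1, 0]), (85, [0, 1, 2, 1, 2, 1, 0, 1, 0]), (86, [1, 2, 1, 2, 1, 0, 1, 2, 1, 0, 1, 0]), (87, [1, 0, 2, 0]), (88, [0, 2, 1, 0, 1, 2, 0, 2, 0, 1, 0]), (89, [2, 1, 2, 1, 2, 1, 0, 1]), (90, [0, 2, 1, 2, 1, 0]), (91, [1, 2, 0, 2, 0]), (92, [2, 0, 1, 2, 1, 0, 1, 2, 1, 0, 2]), (93, [1, 2, 0, 2, 0, 2, 0]), (94, [2, 0,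 2, 1, 2, 1, 2, 1, 0, 1]), (95, [2, 1, 0, 2, 0, 1, 2, 0, 2, 1]), (96, [2, 1, 2, 0, 2, 1, 2, 0, 1]), (97, [2, 0, 2, 0, 1, 2, 0]), (98, [1, 2, 1, 0, 2, 1, 2, 0, 2, 0]), (99, [0, 1, 2, 0, 2, 1, 2, 1, 0, 1, 0]), (100, [2, 0, 2, 1, 2, 1, 0, 1, 2, 0, 1]), (101, [1, 2, 1, 0, 2, 0, 1, 2, 0]), (102, [1, 2, 0, 2, 0, 1, 2, 0, 1]), (103, [2, 0, 2, 0, 2, 1, 0, 2, 1]), (104, [2, 0, 2, 1, 0, 2, 1, 2, 0, 2, 0]), (105, [2, 1, 2, 1, 2, 1, 0, 1, 2, 0]), (106, [0, 1, 0, 2, 0, 2, 0, 1, 2, 0, 1]), (107, [2, 1, 2, 0, 1, 2, 1, 2, 0]), (108, [1, 2, 0, 2, 1, 0, 2, 1]), (109, [2, 1, 0, 1, 0]), (110, [1, 0, 2, 0, 1, 0, 2, 0]), (111, [2, 0, 2, 1, 0, 2, 0, 2]), (112, [1, 0, 1, 2, 1]), (113,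 [1, 2, 0, 2, 0, 1, 0, 2, 1]), (114, [2, 0, 2, 0, 2, 0, 2, 0]), (115, [1, 0, 1, 2, 1, 2, 0, 2, 0, 1, 0]), (116, [2, 1, 2, 1, 2, 1, 0, 1, 0]), (117, [1, 2, 1, 2, 0]), (118, [2, 1, 2, 0, 1, 0]), (119, [2, 1, 0, 2, 0, 2, 0]), (120, [2, 1, 0, 2, 1, 0, 2, 0, 1, 0]), (121, [1, 0, 2, 1, 0, 1, 2, 0, 1]), (122, [1, 0, 1, 2, 0, 1, 2, 1, 0, 1, 0]), (123, [0, 2, 1, 2, 0, 1, 2, 1, 0, 1, 0]), (124, [2, 0, 1, 0, 2, 0]), (125, [0, 2, 0, 2, 0, 1, 2, 1, 2, 0, 2, 0]), (126, [2, 1, 0, 2, 1, 0, 2, 0, 2, 0, 2]), (127, [1, 2, 0, 2, 1, 0, 1, 2, 0, 2]), (128, [0, 2, 1, 2, 1, 2, 1, 0, 1, 0]), (129, [2, 0, 2, 0, 2, 1, 0, 1]), (130, [2, 0, 2, 1, 2, 0, 2, 0]), (131, [2, 0, 1, 2, 0, 1, 0, 2,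 1, 0, 2, 0]), (132, [2, 0, 2, 0, 2, 1, 2, 1, 0]), (133, [2, 0, 2, 1, 0]), (134, [0, 2, 1, 2, 0, 1, 2, 1, 0, 2]), (135, [0, 2, 0, 1, 0, 2, 1, 2, 1, 0]), (136, [0, 2, 1, 0, 1, 2, 1, 0, 1, 0]), (137, [2, 1, 0, 1, 2, 0, 1, 0, 2, 0]), (138, [2, 0, 2, 1, 0, 2, 0, 1, 2, 0, 1]), (139, [1, 2, 0, 1, 2, 1, 0, 1, 0]), (140, [1, 0, 2, 1, 0, 2, 0, 2, 0, 2]), (141, [0, 2, 1, 2, 1, 2, 0, 2, 0, 1, 0]), (142, [0, 2, 0, 1, 2, 0, 2, 1, 0, 2, 1]), (143, [0, 2, 0, 2, 1, 2, 0]), (144, [2, 1, 2, 0, 2, 1, 2, 0, 2]), (145, [0, 1, 2, 0]), (146, [2, 1, 2, 0, 2, 0, 2, 0]), (147, [1, 2, 1, 2, 0, 2, 1, 0, 2, 0]), (148, [1, 0, 2, 0, 2, 0, 1, 0]), (149, [1, 0, 1, 0, 2, 1, 0]), (150, [0, 1, 0,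 2, 1, 0, 1, 0]), (151, [0, 1, 0, 2, 1, 2, 0, 2, 0]), (152, [2, 0, 2, 0, 1, 0, 2, 0]), (153, [2, 1, 2, 1, 2, 1, 0, 2, 0, 1, 0]), (154, [2, 1, 2, 0, 2, 1, 0, 2, 0]), (155, [0, 2, 1, 0, 1, 2, 1, 0, 2]), (156, [2, 0, 1, 2, 0, 2, 0, 1, 2, 0]), (157, [1, 2, 0, 1, 0, 2, 1, 0, 2, 0]), (158, [0, 1, 2, 0, 1, 0]), (159, [1, 0, 2, 1, 0, 2, 0]), (160, [2, 1, 2, 0, 2, 0, 1, 0, 2]), (161, [2, 0, 1, 2, 0, 1]), (162, [2, 1, 2, 1, 0, 1, 2, 0]), (163, [2, 1, 2, 1, 0, 1]), (164, [2, 1, 2, 0, 1, 0, 2, 0, 2]), (165, [0, 1, 2, 0, 2, 1, 2, 0, 2]), (166, [1, 2, 0, 1, 2, 0, 2, 1, 0]), (167, [0, 1, 2, 0, 2, 1, 2, 0, 2, 1]), (168, [1, 2, 0, 2, 1, 0, 1]), (169, [1, 2, 0, 1, 0, 2]), (170,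 [1, 2, 0, 1, 2, 0, 2]), (171, [2, 1, 0, 1, 2, 0, 1]), (172, [2, 1, 2, 0, 2, 0, 1, 0]), (173, [2, 1, 0, 1, 2, 0, 2]), (174, [2, 1, 0, 1, 2, 0, 1, 0]), (175, [0, 2, 0, 2, 0]), (176, [2, 0, 2, 0, 2, 1, 2, 0]), (177, [2, 0, 2, 1, 0, 2, 0]), (178, [0, 2, 0]), (179, [1, 0, 1, 2, 1, 2, 0]), (180, [1, 2, 1, 0, 1, 2, 1, 0, 2, 0]), (181, [0, 1, 2, 0, 2, 1, 2, 0]), (182, [1, 2, 1, 0, 2, 1, 2, 0, 1]), (183, [2, 0, 1, 2, 1, 0, 1, 0]), (184, [2, 0, 1, 2, 1, 2, 1, 0, 1]), (185, [1, 0, 2, 0, 2, 0, 1]), (186, [1, 0, 1, 0]), (187, [0, 2, 1, 0, 2, 0, 1, 0, 2]), (188, [1, 2, 0, 1, 2, 1, 2, 0]), (189, [2, 1, 0, 1, 0, 2, 0, 1, 0]), (190, [0, 1, 0, 2]), (191, [1, 2, 1, 2, 0, 1, 2, 1,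 0, 1, 0]), (192, [0, 2, 1, 2, 1, 0, 1]), (193, [0, 2, 1, 2, 0, 1, 0, 2, 0, 2]), (194, [1, 2, 0, 2, 1, 2, 0, 2]), (195, [1, 0, 1, 2, 1, 2, 1, 0, 1]), (196, [0, 2, 1, 2, 1, 2, 0, 1]), (197, [2, 0, 1, 2, 0, 1, 2, 1, 2, 0]), (198, [2, 0, 1, 2, 0]), (199, [1, 0, 1, 2, 0, 2, 0, 2, 0]), (200, [0, 1, 2, 1, 2, 1, 0, 2, 0, 1, 0]), (201, [2, 0, 2, 0, 2, 1, 2, 0, 1]), (202, [2, 1, 2, 1, 0, 1, 0, 2, 0, 1, 0]), (203, [2, 1, 2, 1, 0, 2, 1, 2, 0]), (204, [0, 1, 2, 1, 2, 0, 1, 2, 0]), (205, [1, 2, 0, 1, 2, 0]), (206, [2, 1, 0, 2, 0, 1]), (207, [0, 2, 1, 0, 1, 2, 1, 2, 0, 2, 1]), (208, [2, 1, 2, 0, 1, 0, 2]), (209, [1, 0, 2, 1, 0, 2, 0, 1, 2, 0]), (210, [0, 1, 2, 1, 2, 0, 2, 0,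 1, 0]), (211, [0, 2, 0, 2, 0, 1, 0, 2, 1, 2, 0]), (212, [1, 2, 1, 0, 2, 1, 2, 0]), (213, [1, 2, 0, 1, 0, 2, 0, 1, 0]), (214, [2, 1, 2, 0, 1, 2, 1, 0, 1, 0]), (215, [0, 1, 0, 2, 1, 0, 1, 2, 0, 1]), (216, [1, 0, 2, 1, 2, 0, 1, 2, 1, 0, 1]), (217, [0, 2, 0, 1, 0, 2, 0, 1, 2, 1, 0]), (218, [1, 0, 1, 2, 1, 0, 2, 0, 1]), (219, [0, 1, 2, 0, 2, 1, 0]), (220, [1, 0, 2, 1, 2, 1, 0]), (221, [1, 0, 2, 1, 0, 1, 2, 0, 1, 0]), (222, [1, 2, 0, 2, 1, 0]), (223, [2, 0, 1, 0, 2, 0, 1, 2, 1, 0]), (224, [1, 0, 1, 0, 2, 0, 2, 1]), (225, [0, 2, 1, 2, 1, 0, 1, 2, 0, 1]), (226, [0, 2, 0, 1, 2, 1, 0]), (227, [1, 0, 2, 0, 1]), (228, [0, 2, 1, 0, 2, 0, 2, 0]), (229, [0, 1, 2, 1, 2, 0]),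 (230, [2, 1, 0, 2, 1]), (231, [2, 1, 2, 0, 1, 2, 1, 0, 2]), (232, [2, 0, 1, 0, 2, 1, 2, 1, 0]), (233, [2, 1, 0, 1, 2, 1, 0, 1, 0]), (234, [1, 2, 0, 1, 0, 2, 0, 2]), (235, [1, 0, 2, 0, 1, 0, 2, 0, 2]), (236, [2, 0, 2, 1, 0, 1, 2, 0, 1]), (237, [2, 0, 1, 0, 2, 1, 2, 1, 0, 1, 0]), (238, [1, 0, 2, 1, 2, 1, 2, 1, 0, 1]), (239, [2, 1, 0, 2, 0, 1, 2, 0, 1]), (240, [0, 2, 0, 2, 1, 2, 0, 2, 0, 2]), (241, [2, 0, 2, 1, 0, 2, 0, 1, 0]), (242, [2, 1, 0, 2, 0, 2, 0, 2]), (243, [1, 2, 0, 1, 2, 0, 1, 2, 1, 0, 1]), (244, [0, 2, 1, 0, 1, 2, 0, 2, 0, 2, 0]), (245, [1, 0, 2, 1, 2, 0, 1, 2, 0, 1, 0]), (246, [2, 1, 2, 0, 2, 1, 2, 0, 2, 1]), (247, [2, 0, 2, 1, 2, 0, 2, 1, 2, 0, 1]),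 (248, [2, 1, 0, 1, 2, 1, 2, 0]), (249, [0, 2, 1, 2, 1, 2, 0, 2, 1, 2, 0]), (250, [1, 2, 0, 2, 1, 2, 0]), (251, [1, 2, 1, 0, 1, 0, 2, 0, 1, 0]), (252, [2, 0, 2, 1, 2, 1, 0, 2, 0]), (253, [0, 1, 2, 1]), (254, [2]), (255, [0, 2, 1, 0]), (256, [2, 0, 2, 0, 2]), (257, [2, 0, 1]), (258, [2, 0, 1, 2, 0, 2, 1]), (259, [1, 0, 1, 0, 2, 1, 2, 1, 0, 1, 0]), (260, [1, 0, 2, 1]), (261, [0, 1, 0, 2, 1, 2, 1, 0, 1]), (262, [1, 2, 1, 0, 2, 1, 0, 2, 0, 1, 0]), (263, [2, 0, 1, 0, 2, 0, 2, 0, 1, 0]), (264, [2, 0, 2, 0, 1, 2, 1, 2, 1, 0, 1]), (265, [0, 1, 2, 0, 1]), (266, [0, 2, 1, 0, 1, 0, 2, 1, 0]), (267, [1, 0]), (268, [2, 1, 2, 1, 0, 1, 0]), (269, [0, 2, 0, 2, 0, 1]), (270, [0,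 1, 0, 2, 1, 2, 0, 1]), (271, [1, 0, 2, 1, 2, 0, 1, 0, 2]), (272, [0, 2, 1, 2, 0]), (273, [2, 0, 2, 0, 2, 0]), (274, [1, 0, 2, 1, 2, 1, 0, 2, 0, 1, 0]), (275, [2, 0, 2, 0, 1, 2, 1, 2, 0, 2]), (276, [1, 2, 1, 0, 2, 0, 1, 0]), (277, [1, 0, 2, 0, 2]), (278, [0, 1]), (279, [2, 0, 1, 2, 0, 1, 0]), (280, [0, 1, 0, 2, 1, 2, 0, 2, 0, 2]), (281, [0, 2, 0, 2, 0, 2]), (282, [2, 1, 0, 2, 1, 0, 1, 0]), (283, [0, 2, 0, 2, 0, 1, 0, 2, 1]), (284, [0, 1, 0, 2, 1, 0]), (285, [0, 2, 1, 0, 2, 0, 2]), (286, [0, 2, 0, 1, 0, 2, 0, 1, 0]), (287, [2, 1, 0, 2, 0, 2, 0, 1]), (288, [2, 1, 0, 1, 0, 2, 0, 2, 0]), (289, [2, 0, 1, 2, 1, 2, 0, 2]), (290, [0, 2, 0, 2, 1, 2, 0, 1]), (291, [1, 0,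 2, 1, 0, 2, 0, 2]), (292, [1, 2, 1, 0, 1, 2, 0, 1]), (293, [2, 1, 2, 0, 2, 0, 2]), (294, [1, 2, 1, 2, 1, 0, 1]), (295, [1, 2, 0, 2, 0, 1, 0]), (296, [1, 0, 2, 0, 2, 0, 2]), (297, [0, 1, 2, 0, 1, 2, 0, 1, 0, 2]), (298, [0, 2, 1, 2, 0, 2]), (299, [1, 0, 2, 1, 0, 1, 2, 0]), (300, [1, 2, 0, 1, 2, 1, 2, 1, 0, 1, 0]), (301, [1, 2, 1, 2, 0, 1]), (302, [2, 1, 0, 2, 1, 0, 1, 2, 0]), (303, [1, 2, 1, 2, 1, 0, 2, 0, 1, 0]), (304, [0, 2, 0, 1, 2, 0]), (305, [1, 0, 2, 0, 2, 1, 2, 1, 0]), (306, [2, 1, 0, 1, 2, 0, 2, 1, 0]), (307, [1, 2, 0, 1, 2, 0, 1, 0]), (308, [1, 0, 1, 2, 0]), (309, [2, 0, 2, 1, 0, 1]), (310, [2, 1, 2, 1, 2, 0, 1, 0, 2]), (311, [0, 1, 2, 1, 2, 1, 0]), (312,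 [0, 2, 0, 1, 0, 2]), (313, [1, 0, 1, 0, 2, 1, 2, 1, 0]), (314, [2, 0, 2, 0, 2, 0, 1]), (315, [2, 1, 0, 1, 0, 2, 1, 0]), (316, [1, 2, 1, 2, 0, 2, 1, 0, 2, 1]), (317, [2, 1, 2, 1, 0, 2, 0, 2, 0]), (318, [0, 2, 1, 2, 0, 2, 0, 2, 0]), (319, [1, 0, 2, 0, 2, 0]), (320, [2, 0, 2, 1, 0, 1, 2, 0]), (321, [0, 2, 0, 2, 1, 2, 1, 0]), (322, [2, 1, 0, 2, 0, 1, 0, 2]), (323, [0, 1, 2, 0, 1, 2, 1, 2, 0]), (324, [1, 0, 1]), (325, [1, 0, 1, 0, 2, 0, 2]), (326, [0, 2, 1, 0, 2, 0]), (327, [2, 1, 2, 0, 1]), (328, [0, 1, 2, 1, 0, 1, 2, 0, 1]), (329, [0, 2, 0, 2, 0, 1, 2, 0, 1]), (330, [0, 2, 0, 2, 1, 2, 0, 2, 1]), (331, [1, 2, 0, 2, 0, 1, 0, 2]), (332, [0, 2, 0, 2]), (333, [1, 2, 0,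 1, 2, 1, 0, 1]), (334, [0, 2, 1, 0, 1, 0, 2, 1, 2, 1, 0]), (335, [2, 1, 2, 1, 0, 2, 0, 1, 0]), (336, [1, 2, 1, 0, 1, 2, 0, 2]), (337, [2, 1, 2, 1, 2, 0, 1, 2, 0, 1]), (338, [2, 0, 1, 2, 1, 2, 1, 0]), (339, [1, 0, 1, 2, 0, 1, 0]), (340, [2, 0, 1, 2, 1, 2, 1, 0, 1, 0]), (341, [1, 0, 1, 2, 1, 0, 2, 0, 1, 0]), (342, [0, 1, 2, 0, 2, 1, 2, 0, 2, 0]), (343, [2, 1, 0, 2, 0, 1, 0]), (344, [1, 2, 0, 2, 1, 0, 2, 0, 2, 0]), (345, [2, 1, 2, 1]), (346, [2, 0, 1, 2, 1, 2, 0, 2, 0]), (347, [2, 0, 2, 0, 1, 0, 2]), (348, [1, 2, 1, 2, 0, 2, 1, 2, 0]), (349, [1, 2, 0, 2, 1, 2, 1, 0, 1, 0]), (350, [2, 1, 0, 2, 0, 2, 1, 2, 0, 1]), (351, [0, 1, 2, 1, 0, 2, 1, 2, 0, 2, 0]), (352, [2,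 1, 2, 1, 0, 1, 2, 0, 2]), (353, [0, 2, 0, 1, 0, 2, 1]), (354, [0, 1, 2, 0, 2, 1]), (355, [2, 0, 2, 1, 2, 0, 2, 1, 2, 1]), (356, [2, 1, 2, 0]), (357, [1, 0, 2, 1, 2, 0, 1]), (358, [0, 2, 1, 2, 0, 2, 0, 2]), (359, [0, 1, 2, 1, 2, 1, 0, 1]), (360, [0, 1, 2, 0, 2, 0, 1, 0]), (361, [2, 1]), (362, [2, 1, 0, 2, 1, 2, 0, 2, 0]), (363, [0, 2, 1, 2, 0, 2, 0]), (364, [0, 2, 1, 0, 2, 0, 1, 0]), (365, [2, 1, 0, 2, 1, 2, 1, 0, 1]), (366, [1, 2, 0, 2, 1, 2, 0, 2, 0]), (367, [2, 1, 0, 1, 2, 1, 0, 2, 0]), (368, [0, 1, 2, 1, 0]), (369, [2, 1, 2, 0, 2, 1, 2, 1, 0, 1]), (370, [2, 1, 0, 1, 2, 1, 0, 2]), (371, [1, 0, 2, 1, 2, 0, 1, 2, 1, 2, 0]), (372, [1, 0, 2, 0, 2, 1, 0, 2, 1]),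 (373, [1, 0, 2, 1, 0, 1, 2, 1, 2, 0]), (374, [2, 1, 2, 0, 1, 2, 1, 2, 1, 0, 1, 0]), (375, [1, 2, 0, 1, 0, 2, 1]), (376, [1, 2, 1, 0, 1, 0, 2, 1]), (377, [2, 1, 2, 1, 2, 0, 2, 0]), (378, [0, 1, 2, 1, 0, 2, 0, 1]), (379, [1, 0, 1, 0, 2, 0, 2, 0]), (380, [2, 0, 2, 0, 1]), (381, [0, 1, 0]), (382, [0, 2, 1, 2, 1, 0, 1, 0]), (383, [0, 2, 0, 2, 0, 1, 2, 0]), (384, [2, 0, 2, 1, 0, 1, 2, 0, 1, 0]), (385, [0, 2, 1, 2, 0, 2, 1, 2, 0, 1]), (386, [1, 2, 1, 2, 1, 0, 2, 1, 2, 0]), (387, [1, 0, 1, 0, 2, 0, 1, 0]), (388, [2, 1, 0, 1, 2, 1, 2, 0, 1]), (389, [1, 2, 1, 0, 1, 2, 1, 0, 2]), (390, [2, 0, 1, 0, 2, 0, 2, 0, 1, 2, 0, 1]), (391, [2, 1, 2, 1, 2, 1, 0, 2, 1, 2, 0]), (392,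 [1, 0, 2, 1, 0, 1, 0]), (393, [1, 0, 2, 1, 2, 0, 2, 0]), (394, [0, 2, 0, 2, 0, 1, 0, 2, 0]), (395, [2, 1, 0, 1]), (396, [2, 0, 1, 2, 0, 2, 1, 0, 2, 0, 1, 0]), (397, [1, 0, 2]), (398, [1, 2, 0, 1, 0, 2, 1, 2, 0, 1]), (399, [0, 1, 2, 1, 2, 0, 1]), (400, [1, 0, 2, 0, 1, 2, 0, 1, 0]), (401, [1, 0, 1, 0, 2, 1, 2, 0, 1]), (402, [1, 0, 1, 0, 2, 0, 2, 0, 1, 0]), (403, [0, 1, 2, 1, 2, 0, 2]), (404, [0, 1, 2, 1, 0, 1, 0, 2, 0, 2, 0]), (405, [1, 2, 1, 0, 2, 0, 2, 0]), (406, [1, 2, 1, 0, 2, 0]), (407, [0, 1, 2, 1, 2, 1, 0, 1, 2, 0, 1]), (408, [0, 1, 2, 1, 0, 2, 0]), (409, [1, 2, 1, 2, 1, 0, 1, 2, 0, 1]), (410, [2, 0, 1, 2, 1, 2, 0]), (411, [2, 1, 0, 1, 0, 2, 1, 2, 0]), (412,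 [1, 0, 1, 2, 1, 0, 2]), (413, [1, 0, 1, 2, 0, 2, 1, 0]), (414, [1, 0, 1, 2, 0, 1, 0, 2, 0]), (415, [2, 1, 2, 0, 1, 2, 1, 2, 0, 2, 0]), (416, [2, 0, 2, 1, 2, 0, 1, 2, 1, 0, 1, 0]), (417, [0, 1, 0, 2, 0, 2, 1]), (418, [0, 1, 2, 0, 2, 1, 0, 2, 1]), (419, [0, 2, 1, 2, 0, 1, 0, 2]), (420, [2, 0, 2, 1, 2, 1]), (421, [0, 1, 2, 1, 0, 2, 0, 1, 0, 2]), (422, [0, 2, 0, 2, 1, 0, 2, 0, 2, 0]), (423, [2, 1, 0, 1, 2, 1, 2, 0, 2, 1]), (424, [1, 2, 0, 1, 0, 2, 0]), (425, [0, 2, 1, 2, 0, 1, 2, 1, 2, 0]), (426, [0, 2, 1, 2, 0, 1, 2, 0, 1, 0]), (427, [1, 2, 1, 2, 1, 0, 2, 0]), (428, [2, 0, 2, 1, 2, 0, 2, 0, 1, 0]), (429, [0, 2, 1, 0, 1, 0]), (430, [0, 1, 0, 2, 1, 0, 2, 0, 1, 2, 0]),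 (431, [1, 2, 0, 1, 2, 1, 0, 2]), (432, [2, 1, 2, 1, 0, 1, 2, 1, 0, 1, 0]), (433, [1, 0, 2, 1, 0, 2, 0, 2, 0]), (434, [1, 0, 2, 0, 1, 2, 0, 1]), (435, [1, 2, 0, 1, 2, 1, 2, 0, 1]), (436, [2, 1, 2, 0, 1, 0, 2, 1, 0, 2, 0]), (437, [2, 0, 2, 0, 1, 2, 1, 2, 0, 1]), (438, [1, 0, 2, 1, 2, 0, 2, 0, 2]), (439, [2, 0, 2, 1, 0, 2, 0, 2, 0, 2]), (440, [0, 1, 2, 1, 0, 1, 0]), (441, [1, 2, 1, 2, 0, 2, 0]), (442, [1, 2, 1, 2, 0, 1, 2, 1, 0, 2]), (443, [2, 1, 0, 2, 0, 1, 2, 0]), (444, [1, 0, 1, 2, 0, 1, 0, 2]), (445, [1, 2, 0, 2, 1, 0, 2, 0, 1, 0]), (446, [1, 2, 1, 2, 0, 2, 1]), (447, [2, 0, 2, 0, 2, 0, 2, 1, 2, 0]), (448, [2, 1, 0, 2, 1, 2, 1, 0, 1, 0]), (449, [0, 2, 1, 2, 1,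 0, 1, 2, 0, 2]), (450, [2, 0, 1, 0, 2, 1]), (451, [1, 2, 0, 2, 1]), (452, [1, 2, 0, 2]), (453, [0, 1, 2, 1, 0, 1, 2, 1, 2, 0]), (454, [1, 0, 1, 2, 0, 1]), (455, [1, 0, 1, 2, 0, 2, 0]), (456, [2, 1, 2, 0, 1, 2, 0, 1]), (457, [1, 2, 1, 0, 2, 0, 1]), (458, [2, 0, 2, 1, 2, 0]), (459, [1, 0, 1, 0, 2, 1, 2, 0]), (460, [0, 2, 0, 2, 1, 0, 2, 0]), (461, [2, 0]), (462, [2, 0, 2, 1, 0, 1, 2, 1, 0, 2]), (463, [1, 2, 0, 2, 1, 2, 0, 1]), (464, [0, 2, 1, 2, 0, 2, 1]), (465, [2, 0, 1, 0, 2, 1, 2, 0]), (466, [1, 0, 1, 2, 1, 0, 2, 0]), (467, [1, 0, 2, 1, 2, 1, 0, 1, 0]), (468, [2, 1, 0, 2, 0, 2, 0, 1, 0]), (469, [1, 2, 1]), (470, [0, 2]), (471, [2, 1, 0]), (472, [0, 2, 1, 0, 2,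 1, 2, 0]), (473, [1, 2, 0, 2, 0, 1, 2, 0]), (474, [1, 2, 1, 0, 2, 0, 1, 2, 0, 1]), (475, [2, 1, 2, 0, 2, 1]), (476, [2, 1, 2, 0, 2, 1, 2, 0, 2, 0]), (477, [2, 0, 2, 1, 2, 0, 2]), (478, [1, 2, 0, 1, 0]), (479, [0, 1, 0, 2, 1, 0, 2, 0]), (480, [0, 1, 2, 0, 1, 0, 2, 1, 0, 2, 0]), (481, [0, 2, 0, 1, 0, 2, 1, 2, 0, 1]), (482, [1, 0, 1, 0, 2, 1, 2, 1, 0, 1]), (483, [2, 0, 1, 2, 0, 1, 0, 2]), (484, [1, 0, 1, 0, 2, 0]), (485, [2, 0, 1, 0, 2, 0, 2, 0, 1]), (486, [1, 2, 1, 0, 1, 2, 0]), (487, [2, 0, 2, 0, 2, 1, 0, 2, 0, 2]), (488, [0, 2, 0, 1, 2, 1, 2, 0, 1]), (489, [1, 0, 2, 1, 2, 0, 1, 2, 1, 0, 2]), (490, [1, 0, 1, 2, 0, 2]), (491, [2, 1, 0, 2, 0]), (492, [0, 2, 1, 2,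 0, 1]), (493, [0, 2, 1, 0, 1]), (494, [2, 0, 2, 1, 0, 1, 2, 0, 2, 0, 2, 0]), (495, [0, 1, 0, 2, 0, 1, 2, 1, 0]), (496, [2, 1, 2, 0, 2, 0, 1, 2, 0]), (497, [2, 1, 2, 0, 2, 1, 2, 1, 0, 2, 0]), (498, [2, 0, 2, 0, 1, 2, 0, 1, 0]), (499, [2, 0, 1, 2, 1, 2, 0, 1, 0, 2]), (500, [2, 0, 2, 0, 2, 1, 0, 2, 0]), (501, [0, 2, 0, 2, 1, 2, 0, 2, 0, 1, 0]), (502, [2, 1, 2, 0, 1, 2, 0, 1, 0]), (503, [2, 0, 1, 2, 1, 0, 1]), (504, [1, 2, 1, 0, 2, 0, 1, 0, 2]), (505, [2, 0, 2, 1, 0, 2, 0, 2, 0]), (506, [2, 1, 2, 1, 0, 2, 1, 0, 2, 0]), (507, [2, 0, 1, 2, 0, 2, 1, 2, 0]), (508, [2, 0, 2, 0, 1, 0]), (509, [2, 1, 0, 2, 0, 1, 0, 2, 0]), (510, [0, 1, 0, 2, 0, 1, 0, 2, 0]), (511, [1, 2,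 1, 2, 0, 2, 0, 1, 0]), (512, [2, 1, 2, 0, 1, 2, 0]), (513, [1, 2, 0, 2, 1, 0, 1, 2, 0]), (514, [2, 1, 2, 1, 2, 1, 0, 1, 2, 0, 1]), (515, [0, 2, 1, 0, 2, 1]), (516, [1, 0, 2, 0, 1, 0]), (517, [1, 2, 0, 1, 2, 0, 1]), (518, [0, 2, 0, 2, 0, 1, 0]), (519, [1, 0, 2, 0, 2, 1, 2, 0, 1]), (520, [2, 1, 0, 2, 1, 0, 2, 0, 2, 0]), (521, [2, 1, 0, 2, 0, 1, 2, 1, 0]), (522, [0, 1, 0, 2, 1, 2, 1, 0]), (523, [1, 0, 1, 0, 2, 1, 0, 1, 0]), (524, [1, 2, 0, 2, 1, 2, 1]), (525, [0, 2, 1, 0, 2, 0, 1, 2, 0]), (526, [1, 2, 1, 0, 2, 1, 0, 2, 0]), (527, [1, 2, 1, 0, 1, 2, 0, 2, 0, 2, 0]), (528, [1, 2, 0, 1]), (529, [2, 0, 2, 1, 0, 1, 2, 0, 2]), (530, [1, 0, 1, 2, 0, 1, 0, 2, 1, 0, 2, 0]),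 (531, [0, 1, 2, 0, 2, 0, 2, 0]), (532, [0, 1, 2, 0, 2, 0]), (533, [1, 2, 0, 2, 0, 1, 0, 2, 0, 2]), (534, [1, 2, 0, 2, 0, 2, 1, 2, 1, 0]), (535, [0, 2, 1, 2, 1, 0, 2, 0, 1, 0]), (536, [1, 0, 2, 1, 0, 1, 2, 0, 2]), (537, [0, 2, 0, 2, 1]), (538, [1, 0, 1, 2, 1, 2, 0, 1]), (539, [0, 2, 1, 0, 2, 1, 2, 0, 2, 0]), (540, [1, 2, 0, 2, 1, 2, 0, 2, 1]), (541, [0, 1, 2, 0, 2, 1, 0, 1]), (542, [0, 1, 2, 0, 1, 0, 2]), (543, [2, 1, 2, 0, 2, 1, 0, 2, 0, 1, 0]), (544, [0, 2, 0, 1, 0, 2, 0, 2]), (545, [2, 0, 1, 2, 1, 2, 0, 2, 1]), (546, [0, 2, 1, 0, 2, 0, 2, 0, 1]), (547, [2, 0, 1, 0, 2, 0, 1, 0, 2, 0]), (548, [2, 0, 1, 0, 2, 0, 1, 0]), (549, [2, 1, 2, 0, 2, 1, 2, 0]), (550, [1,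 0, 2, 0, 2, 1, 0, 2, 0]), (551, [2, 1, 2, 1, 2, 0, 1, 0]), (552, [0]), (553, [0, 2, 0, 1, 0, 2, 1, 0, 2, 0]), (554, [2, 1, 0, 1, 2, 0]), (555, [1, 0, 1, 2, 1, 2, 0, 2, 1]), (556, [0, 1, 2, 0, 1, 0, 2, 0]), (557, [1, 0, 2, 0, 2, 1]), (558, [0, 1, 0, 2, 0, 1, 0]), (559, [2, 1, 0, 2]), (560, [1, 0, 1, 2, 1, 2, 0, 1, 2, 0]), (561, [2, 0, 2, 0, 1, 0, 2, 0, 2]), (562, [0, 1, 2, 0, 1, 2, 1, 0, 1, 0]), (563, [0, 2, 1, 0, 1, 2, 0, 1, 0, 2, 0]), (564, [1, 2, 1, 0, 1, 0, 2, 1, 2, 1, 0]), (565, [0, 2, 1, 0, 2, 0, 1, 2, 0, 1]), (566, [1, 2, 0, 2, 0, 2, 1, 2, 0, 1]), (567, [2, 1, 0, 2, 1, 0, 1, 2, 0, 1]), (568, [0, 2, 1, 0, 2, 0, 1, 0, 2, 0]), (569, [2, 1, 2, 1, 0, 1, 2, 0,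 1]), (570, [2, 0, 1, 2, 1, 0]), (571, [1, 0, 1, 2, 0, 2, 1]), (572, [2, 0, 1, 2, 1, 2, 0, 1, 2, 0]), (573, [0, 1, 2, 1, 0, 1]), (574, [2, 0, 1, 2, 1, 0, 2, 0]), (575, [2, 0, 2, 0, 1, 2, 1, 2, 0, 2, 0]), (576, [2, 0, 1, 2, 0, 2, 1, 2, 1, 0, 1, 0]), (577, [0, 2, 0, 1, 0, 2, 0]), (578, [1, 0, 1, 2, 1, 0, 1, 0]), (579, [0, 2, 0, 2, 1, 0, 2, 0, 2]), (580, [1, 0, 1, 0, 2, 1]), (581, [1, 2, 1, 0, 2, 0, 2, 0, 2]), (582, [2, 0, 2, 0, 1, 0, 2, 1, 2, 0]), (583, [0, 1, 2, 1, 0, 2, 1, 2, 0]), (584, [1, 2, 1, 0, 1, 2, 1, 0, 1, 0]), (585, [1, 2, 1, 0, 1]), (586, [2, 0, 1, 2, 1, 0, 2]), (587, [2, 0, 1, 2, 0, 1, 2, 0, 2]), (588, [2, 1, 0, 1, 0, 2, 1, 2, 1, 0, 1]), (589, [0, 1,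 0, 2, 1, 0, 2, 0, 2, 0]), (590, [0, 1, 0, 2, 0, 1, 2, 0, 1]), (591, [2, 0, 2, 0, 2, 0, 2, 1, 0, 2, 1]), (592, [0, 2, 1, 0, 2, 0, 2, 0, 2]), (593, [2, 0, 2, 1, 2, 0, 2, 0, 2]), (594, [2, 0, 2, 0, 1, 0, 2, 0, 1, 0]), (595, [1, 0, 1, 2, 1, 0, 1, 0, 2, 1]), (596, [0, 2, 0, 1, 0]), (597, [2, 0, 1, 2, 0, 2, 1, 0]), (598, [2, 0, 2, 0, 2, 1]), (599, [2, 0, 1, 0, 2]), (600, [1, 0, 1, 2, 1, 2, 1, 0]), (601, [1, 2, 1, 2, 1, 0, 1, 2, 0]), (602, [0, 1, 2, 1, 0, 1, 0, 2, 1]), (603, [2, 1, 0, 1, 2, 1, 2, 1, 0]), (604, [1, 0, 2, 0, 2, 0, 1, 0, 2, 1]), (605, [2, 1, 2, 1, 2, 0, 2, 0, 1, 0]), (606, [2, 0, 1, 2, 0, 2, 1, 0, 2, 1]), (607, [0, 2, 1, 0, 2, 0, 2, 0, 1, 0]), (608, [1,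 0, 2, 0, 1, 0, 2]), (609, [0, 2, 0, 2, 0, 2, 1, 2, 0]), (610, [0, 1, 0, 2, 0, 2]), (611, [1]), (612, [0, 1, 2, 1, 0, 2, 0, 1, 0]), (613, [2, 0, 1, 2, 0, 2]), (614, [1, 2, 1, 2, 0, 2, 1, 2, 1, 0, 2, 0]), (615, [0, 2, 1, 2, 1, 0, 2, 0]), (616, [2, 1, 0, 2, 1, 0, 2, 0]), (617, [1, 2, 1, 2, 0, 1, 2, 0, 1]), (618, [1, 2, 1, 0, 2]), (619, [0, 2, 1, 0, 2, 0, 1, 0, 2, 0, 2]), (620, [0, 2, 0, 1, 0, 2, 1, 2, 0]), (621, [2, 0, 2, 0, 2, 0, 1, 0]), (622, [0, 1, 0, 2, 1, 2, 1, 0, 1, 0]), (623, [0, 2, 1, 0, 1, 2, 1, 2, 0]), (624, [2, 1, 2, 1, 2, 0, 2, 1, 2, 0]), (625, [1, 0, 1, 2, 1, 2, 0, 1, 0, 2]), (626, [0, 2, 0, 2, 1, 0, 1]), (627, [2, 1, 2, 1, 2, 0, 1, 2, 0]), (628, [1,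 2, 1, 2, 1, 0]), (629, [1, 0, 2, 0, 2, 0, 1, 0, 2]), (630, [2, 0, 1, 0, 2, 0, 2]), (631, [2, 1, 2, 0, 2, 1, 2, 1]), (632, [0, 2, 0, 2, 1, 0, 1, 2, 0]), (633, [2, 0, 2, 1, 2, 1, 0]), (634, [0, 1, 0, 2, 0, 2, 0]), (635, [0, 1, 2, 0, 1, 0, 2, 1]), (636, [0, 1, 0, 2, 1, 2, 0]), (637, [2, 1, 2, 1, 2, 0, 2, 1, 0, 2, 1]), (638, [1, 2, 0, 2, 1, 0, 2, 0]), (639, [1, 0, 2, 0, 1, 2, 0, 2, 1]), (640, [0, 2, 0, 1, 2, 0, 1]), (641, [2, 1, 2, 1, 2, 0, 1]), (642, [2, 0, 1, 0, 2, 1, 2, 0, 1]), (643, [1, 2, 0, 2, 0, 2, 1, 0, 2, 0, 2]), (644, [2, 1, 2, 1, 0, 2, 0]), (645, [0, 1, 0, 2, 1]), (646, [1, 0, 2, 1, 2, 1, 0, 1]), (647, [1, 2, 0, 2, 0, 2, 0, 2, 1, 2, 0]), (648, [2, 1, 0,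 1, 2, 0, 2, 0, 1, 0]), (649, [0, 2, 1, 2, 1, 2, 1, 0, 1]), (650, [2, 1, 2, 1, 0]), (651, [0, 1, 2, 1, 2, 0, 2, 0]), (652, [2, 0, 1, 2, 0, 1, 2, 1, 0, 1]), (653, [1, 2, 1, 0, 1, 0]), (654, [0, 2, 1, 0, 1, 2, 0, 1, 0]), (655, [2, 0, 2, 0]), (656, [0, 2, 1, 0, 1, 2, 0, 2]), (657, [2, 0, 1, 2, 0, 2, 1, 0, 1]), (658, [1, 0, 2, 1, 0, 2, 0, 1, 0]), (659, [2, 0, 1, 2, 1, 2, 0, 1]), (660, [2, 1, 0, 2, 0, 2]), (661, [2, 0, 2, 0, 1, 0, 2, 1]), (662, [1, 0, 2, 1, 0]), (663, [2, 1, 2, 0, 1, 2, 1, 0, 1]), (664, [1, 2, 0, 2, 0, 1, 2, 1, 2, 0, 2, 0]), (665, [2, 1, 0, 1, 0, 2, 1]), (666, [2, 0, 2]), (667, [0, 1, 2, 0, 1, 2, 1, 0, 1]), (668, [2, 1, 0, 1, 0, 2, 1, 2, 1, 0]), (669,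 [1, 2, 1, 2, 0, 2]), (670, [0, 2, 1]), (671, [1, 2, 1, 2, 0, 1, 0, 2])]⟩

/-- A level. -/
def sLev1 : Cos.RepSearch.RLev := ⟨212, (some 3), [(0, [0, 2, 1, 2, 0, 1, 2, 0, 1, 0, 2, 1, 0, 2, 1, 0, 1, 2, 1, 2]), (1, [0, 1, 2, 1, 0, 2, 1, 2, 0, 2, 0, 1, 2, 1, 2]), (2, [0, 1, 2, 1, 2, 0, 1, 2, 1, 2, 0, 2, 0, 1, 2, 0, 2, 1, 0]), (4, [1, 2, 0, 2, 0, 1, 2, 1, 2, 0, 2, 1, 0, 1, 2, 1, 2]), (5, [1, 0, 2, 0, 1, 0, 2, 1, 2, 0, 1, 0]), (6, [1, 2, 1, 2, 0, 2, 1, 0, 1, 2, 0, 1, 0, 2, 0, 2, 0]), (7, [1, 0, 1, 2, 1, 0, 2, 0, 1, 0, 1, 2, 0, 1, 0, 2, 0, 2, 0]), (9, [1, 0, 2, 1, 2, 1, 0, 2, 1, 2, 0, 2, 1, 0, 1, 2, 1, 2, 0]), (11, [2, 0, 1, 2, 1, 2, 0, 2, 0, 2, 1, 2, 1, 2, 0, 1, 2,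 1, 0]), (14, [2, 0, 1, 2, 1, 2, 1, 0, 2, 1, 0]), (15, [0, 2, 0, 2, 0, 2, 1, 2, 1, 2, 0, 2, 0, 2, 0, 1]), (16, [2, 1, 0, 1, 2, 1, 0, 2, 0, 2, 0, 1, 2, 1, 0, 2, 0]), (18, [2, 1, 0, 1, 2, 0, 2, 1, 0, 2]), (19, [2, 1, 2, 0, 1, 0, 1, 2, 0, 2, 0, 2, 0, 2, 0, 2]), (20, [1, 2, 0, 1, 0, 2, 0, 1, 2, 0, 1, 0, 1, 2, 0, 1, 2, 1]), (23, [2, 0, 2, 0, 2, 0, 1, 0, 2, 1, 2, 1, 2, 0, 2, 0, 2]), (24, [1, 0, 1, 2, 1, 0, 2, 0, 1, 0, 2, 0, 1, 2, 0, 1, 2]), (26, [0, 2, 0, 1, 2, 0, 2, 1, 0, 2, 1, 2, 1, 0, 1, 2, 0]), (27, [1, 2, 0, 2, 0, 2, 1, 0, 2, 0, 2, 0, 2, 0, 1]), (28, [0, 1, 2, 1, 2, 0, 2, 1, 2, 0, 2, 0, 2, 0, 2, 1, 0, 1]), (30, [0, 1, 0, 2, 1, 2, 0, 2, 0, 2, 0, 1, 0, 2, 1, 0]),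 (31, [1, 2, 0, 1, 2, 1, 2, 0, 2, 0, 1, 2, 1, 0, 1, 2, 1, 2]), (33, [1, 0, 2, 0, 2, 1, 2, 1, 0, 1, 0, 2, 1, 0, 2, 1, 0, 1, 2]), (34, [1, 2, 1, 0, 1, 2, 1, 0, 2, 1, 2, 0, 2, 0, 2, 0, 2, 1, 0, 1]), (35, [1, 2, 0, 2, 0, 1, 2, 1, 2, 1, 0, 2, 1, 0, 1]), (37, [0, 2, 1, 2, 0, 2, 1, 2, 1, 0, 1, 2, 0, 2, 1, 0, 1, 2, 1]), (38, [2, 0, 1, 2, 0, 2, 0, 1, 0, 2, 0, 2, 1, 0, 2]), (42, [2, 1, 2, 0, 2, 0, 2, 1, 0, 2, 0, 2, 0, 2, 1, 2, 1, 2, 0, 2]), (43, [2, 1, 0, 1, 2, 1, 2, 1, 0, 2, 1, 0]), (44, [0, 2, 1, 2, 0, 1, 0, 2, 1, 0, 2, 1, 0, 2, 1, 2, 1, 2, 1, 0]), (46, [2, 0, 2, 1, 2, 0, 2, 0, 1, 2, 0, 2, 1, 2, 0, 1]), (47, [1, 2, 0, 1, 0, 1, 2, 0, 2, 1, 2, 1, 2, 0, 1, 0, 2, 1, 2]), (48,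 [0, 1, 0, 2, 1, 2, 0, 1, 2, 1, 2, 0, 1, 2, 1, 0]), (51, [1, 0, 1, 2, 0, 2, 1, 2, 0, 2, 1, 0, 2, 1, 2, 1, 2, 0, 1, 0]), (52, [1, 2, 0, 1, 2, 1, 2, 0, 2, 0, 1, 2, 1, 0, 1]), (54, [0, 1, 2, 0, 1, 0, 2, 0, 2, 1, 0, 2, 0, 1, 2, 1, 2]), (55, [0, 2, 1, 2, 0, 2, 0, 1, 0, 1, 2, 1, 2, 0, 2, 1, 0]), (56, [0, 1, 2, 1, 2, 1, 0, 2, 0, 2, 0, 2, 1, 0, 1, 2, 1]), (58, [0, 2, 1, 2, 0, 1, 0, 1, 2, 0, 2, 0, 1, 0, 1, 2, 1, 2, 0]), (59, [1, 0, 2, 0, 1, 2, 0, 1, 2, 1, 0, 1, 2, 0, 1, 0]), (61, [0, 2, 1, 0, 1, 2, 1, 0, 2, 1, 0, 2, 0, 2, 1, 0, 2, 0, 1, 0]), (62, [1, 0, 2, 0, 1, 2, 0, 2, 0, 2, 1, 2, 1, 0, 1, 2]), (63, [2, 0, 1, 2, 0, 1, 0, 2, 0, 2, 0, 1, 2, 1, 0, 2, 0]), (65, [0, 1, 2,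 0, 2, 0, 1, 2, 1, 2, 1, 2, 0, 2]), (66, [0, 1, 0, 2, 1, 0, 1, 2, 1, 2, 0, 1, 0, 2, 1, 0]), (68, [1, 2, 1, 2, 1, 0, 2, 0, 2, 1, 0, 1, 2, 1, 0, 1]), (69, [1, 2, 0, 2, 0, 2, 1, 2, 0, 2, 1, 2, 1, 0, 2, 1, 2, 1]), (70, [1, 2, 0, 1, 2, 1, 2, 1, 0, 2, 0, 1, 2, 0, 2]), (71, [0, 2, 0, 1, 2, 1, 0, 2, 0, 2, 0, 1, 2, 1, 0, 1, 2]), (72, [0, 1, 0, 2, 0, 1, 0, 2, 0, 1, 2, 1, 0, 2, 1, 2, 1, 0, 1, 2]), (73, [0, 2, 0, 2, 1, 0, 2, 1, 2, 0, 1, 2, 0, 2, 1, 2, 1, 2]), (74, [2, 0, 2, 0, 1, 0, 2, 1, 0, 1, 2, 0, 1, 0, 2, 0, 1, 2]), (75, [1, 0, 2, 0, 1, 0, 1, 2, 0, 2, 0, 1, 0, 1, 2, 1, 2, 1, 2]), (76, [1, 0, 2, 0, 2, 0, 2, 0, 1, 2, 1, 2, 1, 2, 0, 2, 1, 0, 1]), (77, [1, 2, 0, 1, 2, 1, 0,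 1, 2, 1, 2, 1]), (78, [1, 0, 2, 0, 1, 2, 1, 2, 1, 2, 0, 1, 0, 2, 0, 2, 1, 2]), (79, [0, 1, 2, 0, 1, 2, 1, 0, 1, 2, 1, 0, 2, 1, 0]), (81, [2, 0, 2, 1, 2, 1, 0, 1, 2, 1, 2, 0, 1, 2, 0, 2, 1, 2, 0]), (83, [1, 0, 1, 2, 1, 0, 1, 2, 0, 2, 0, 1, 2, 1, 2, 1]), (84, [1, 2, 0, 2, 1, 0, 2, 1, 0, 2, 0, 1, 2, 0, 2, 1, 0]), (85, [2, 0, 1, 2, 0, 1, 2, 0, 2, 0, 2, 1, 2, 1, 2, 0, 1, 2, 1, 0]), (86, [0, 1, 0, 2, 1, 2, 1, 2, 0, 1, 2, 0, 1, 0, 2, 0, 2, 1]), (88, [2, 1, 2, 1, 2, 0, 2, 0, 1, 0, 2, 1, 2, 1, 0, 1, 0, 2, 1]), (89, [0, 2, 0, 1, 0, 1, 2, 1, 0, 1, 2, 1, 0, 2, 1, 2]), (90, [0, 1, 0, 2, 1, 2, 0, 2, 0, 2, 0, 2, 1, 2, 1, 0, 2]), (92, [0, 1, 0, 2, 1, 2, 0, 1, 2, 0, 2, 0, 2, 0,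 2, 0, 2, 1]), (93, [0, 1, 2, 0, 1, 2, 1, 2, 1, 0, 2]), (94, [1, 0, 2, 0, 1, 2, 0, 2, 0, 1, 0, 2, 1, 0, 2, 1, 2]), (95, [1, 2, 0, 2, 0, 1, 0, 2, 1, 2, 0, 1, 2, 1, 2, 1, 2, 0]), (97, [0, 2, 1, 0, 1, 2, 0, 2, 0, 2, 1, 2, 0, 1, 2, 0, 1, 0, 2]), (99, [2, 1, 2, 1, 0, 2, 0, 2, 1, 2, 0, 1, 2, 1, 0]), (100, [2, 0, 2, 1, 2, 0, 1, 2, 0, 1, 2, 1, 0, 1, 2, 0, 2, 0, 1]), (101, [0, 1, 2, 1, 2, 1, 0, 2, 1, 2, 1, 0, 1, 2, 1, 2, 1, 0]), (102, [1, 0, 2, 0, 1, 2, 0, 2, 0, 2, 1, 0, 2, 1, 0, 2]), (103, [1, 2, 1, 2, 1, 0, 2, 0, 2, 0, 1, 2, 1, 0, 1]), (104, [1, 0, 2, 0, 2, 0, 2, 0, 1, 0, 2, 0, 2, 0, 2, 0, 1, 2, 1, 2]), (105, [2, 1, 0, 1, 2, 1, 2, 1, 2, 0, 2, 0, 2, 1, 0, 2, 1, 2]), (106,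 [0, 2, 0, 1, 2, 1, 0, 2, 0, 2, 0, 1, 2, 1, 0, 2]), (107, [2, 0, 1, 2, 1, 2, 1, 2, 0, 1, 2, 1, 2, 1, 2, 0, 2]), (108, [1, 0, 1, 2, 0, 2, 0, 1, 0, 2, 1, 0, 1, 2, 0, 1, 2, 1]), (109, [1, 2, 1, 2, 0, 2, 0, 2, 1, 0, 1, 2, 1, 0, 1]), (110, [0, 1, 2, 0, 1, 2, 1, 0, 2, 1, 0, 2]), (111, [1, 0, 2, 0, 2, 1, 0, 2, 0, 1, 2, 0, 2, 0, 2, 0, 2]), (112, [2, 1, 2, 1, 2, 0, 2, 0, 2, 1, 0, 2, 0, 2, 0, 2, 0, 1]), (113, [0, 1, 2, 0, 2, 0, 1, 2, 1, 2, 1, 2, 0, 1, 2]), (114, [1, 2, 1, 0, 1, 2, 0, 1, 2, 1, 2, 0, 2, 1, 0, 1, 2, 1]), (115, [0, 2, 0, 1, 0, 2, 0, 2, 1, 0, 1, 2, 0, 2, 0, 1, 0, 2, 0]), (117, [1, 2, 0, 1, 0, 2, 1, 0, 2, 1, 0, 1, 2, 0, 2, 1, 2, 1, 2]), (119, [0, 2, 1, 0, 2, 1,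 2, 0, 2, 0, 1, 0, 2, 0, 1, 2, 0, 2, 1, 2]), (120, [0, 1, 0, 2, 1, 2, 0, 2, 0, 2, 0, 2, 1, 0, 2, 1, 0, 1, 2]), (121, [1, 2, 0, 1, 2, 0, 2, 0, 1, 0, 2, 1, 2, 0, 2, 1, 0, 2, 0]), (122, [0, 1, 2, 1, 2, 1, 0, 2, 0, 2, 0, 1, 2, 1, 2, 1, 0]), (124, [2, 1, 2, 0, 1, 0, 2, 1, 2, 0, 2, 0, 2, 0, 1, 0, 2, 1, 0]), (125, [2, 1, 2, 0, 2, 1, 0, 2, 0, 2, 0, 2, 1, 0, 1, 0, 2, 0, 2]), (126, [2, 1, 0, 1, 2, 1, 2, 1, 2, 0, 2, 0, 2, 1, 0]), (128, [0, 1, 2, 1, 0, 2, 1, 2, 0, 2, 0, 1]), (129, [2, 0, 1, 2, 0, 1, 2, 1, 0, 2, 1, 0]), (130, [0, 1, 2, 0, 1, 0, 2, 0, 2, 0, 2, 1, 2, 0, 1, 0]), (131, [1, 0, 2, 0, 1, 2, 1, 2, 1, 2, 0, 1, 0, 2, 0]), (133, [2, 1, 2, 1, 0, 2, 0, 1, 2, 0, 2, 0, 1,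 0, 2, 1, 0]), (135, [2, 1, 2, 0, 1, 2, 0, 1, 2, 0, 2, 0, 1, 0, 2, 1, 2, 0, 2, 1]), (136, [2, 0, 1, 2, 0, 2, 0, 1, 0, 2, 0, 2, 1, 0, 1, 2]), (137, [0, 2, 0, 2, 0, 1, 0, 2, 1, 2, 0, 1, 2, 0, 1, 2]), (138, [1, 2, 0, 2, 0, 1, 2, 1, 2, 0, 2, 1, 0, 1]), (139, [1, 2, 0, 2, 1, 0, 2, 1, 2, 0, 1, 2, 0, 2, 0]), (140, [1, 0, 2, 0, 2, 1, 2, 0, 2, 0, 1, 2, 1, 0, 1, 2, 0, 2, 0]), (141, [0, 2, 1, 2, 0, 2, 0, 1, 0, 2, 1, 2, 1, 2, 0, 2, 1, 0, 2]), (142, [1, 0, 2, 0, 2, 1, 2, 0, 1, 2, 1, 0, 2, 1, 2]), (143, [0, 2, 1, 0, 1, 2, 1, 0, 1, 2, 1, 2, 1, 2, 0, 1, 0, 2, 1, 0]), (144, [2, 1, 0, 1, 2, 0, 1, 2, 0, 2, 1, 2, 1, 0, 1, 2, 0, 1, 0]), (145, [0, 1, 2, 1, 2, 1, 2, 0, 2, 1, 2, 0, 1,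 0, 2, 0, 2, 1]), (146, [0, 1, 0, 2, 1, 0, 2, 0, 1, 2, 0, 1, 0, 2, 0, 2, 0, 2, 1]), (147, [2, 1, 0, 2, 0, 2, 0, 1, 0, 1, 2, 0, 2, 0, 1, 2]), (148, [2, 0, 2, 1, 0, 2, 0, 1, 2, 0, 2, 1, 2, 1]), (149, [1, 0, 1, 2, 0, 1, 0, 2, 1, 0, 2, 1, 2, 0, 1, 2, 1, 0, 2, 1]), (150, [0, 1, 2, 1, 2, 0, 1, 2, 1, 0, 1, 2, 0, 2, 0]), (151, [2, 1, 0, 1, 2, 0, 1, 2, 0, 2, 0, 1, 2, 1, 2, 0, 1, 0, 2, 0]), (153, [2, 0, 1, 2, 0, 1, 2, 1, 2, 0, 1, 2, 1, 2, 1, 2, 0, 2]), (155, [0, 1, 2, 0, 2, 1, 0, 1, 2, 1, 2, 1, 2, 0, 2, 0, 1, 2, 0]), (156, [0, 1, 2, 0, 2, 1, 2, 1, 2, 0, 2, 0, 1, 2, 1, 2, 1, 0, 2, 1]), (157, [0, 1, 2, 0, 1, 2, 1, 2, 0, 1, 0, 2, 0, 1, 2, 1, 0, 2, 1, 0]), (158, [1, 2, 0, 2,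 0, 1, 0, 2, 1, 0, 2, 0, 1, 0, 1, 2, 0, 1]), (160, [1, 2, 1, 2, 0, 1, 2, 1, 0, 2, 1]), (161, [1, 2, 0, 1, 0, 2, 0, 2, 0, 2, 0, 1, 2, 1, 2, 1, 2, 0, 1, 0]), (162, [2, 1, 2, 0, 1, 2, 0, 2, 0, 2, 0, 2, 1, 0]), (164, [2, 0, 1, 0, 2, 0, 2, 1, 0, 2, 1, 0, 2, 0, 2, 1, 2, 1, 0]), (165, [2, 0, 2, 0, 2, 0, 1, 0, 1, 2, 0, 2, 0, 1, 2]), (166, [0, 1, 2, 0, 2, 1, 0, 2, 1, 2, 1, 2, 0, 1, 2, 0, 1, 2, 0]), (167, [1, 2, 1, 0, 1, 2, 0, 2, 0, 1, 2, 1, 0, 1, 2, 1, 2, 1, 0]), (169, [2, 1, 0, 1, 2, 0, 2, 1, 0, 1, 2]), (171, [1, 0, 2, 0, 1, 2, 0, 1, 2, 1, 0, 2, 0, 1, 0, 2, 0, 1]), (172, [2, 1, 0, 1, 2, 1, 2, 1, 2, 0, 2, 1, 2, 1, 0, 2, 1, 0, 1, 2]), (173, [1, 0, 1, 2, 0, 2, 0, 1, 2, 0,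 2, 1, 2, 1, 0, 2, 0, 1, 2, 1, 2]), (174, [1, 0, 1, 2, 0, 2, 1, 2, 1, 0, 2, 0, 2, 1]), (175, [2, 0, 1, 0, 2, 0, 2, 0, 2, 0, 1, 0, 1, 2, 0, 2, 1, 2, 1, 2]), (178, [0, 1, 2, 1, 0, 2, 1, 0, 2, 1, 2, 1, 2, 0, 2, 0, 2, 0]), (179, [2, 0, 2, 1, 0, 2, 0, 2, 1, 0, 2, 1, 2, 1, 2, 0, 1]), (180, [1, 2, 0, 1, 0, 1, 2, 1, 2, 0, 1, 2, 1, 2, 0, 2, 0, 2, 1]), (182, [0, 2, 1, 0, 1, 2, 0, 1, 2, 0, 1, 0, 2, 0, 1, 2, 0, 2, 0]), (183, [0, 2, 1, 2, 0, 2, 0, 1, 0, 1, 2, 1, 0, 2, 0, 2, 1, 0]), (184, [2, 1, 0, 2, 0, 1, 2, 1, 2, 1, 0, 2, 0, 2]), (187, [0, 2, 0, 1, 0, 2, 1, 0, 2, 0, 2, 1, 0, 2, 1, 2, 0]), (188, [2, 1, 2, 1, 0, 2, 0, 1, 2, 0, 2, 0, 2, 1, 2, 1, 0, 1, 2]), (190, [0, 2, 0, 2,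 0, 2, 0, 2, 0, 2, 0, 2, 1, 0, 2, 1, 0, 1]), (191, [0, 2, 0, 2, 0, 2, 1, 2, 0, 2, 1, 0, 2, 0, 1, 2, 0, 1, 0]), (192, [0, 1, 0, 1, 2, 0, 2, 0, 1, 2, 1, 2, 1, 2, 0, 2, 0, 2]), (194, [0, 2, 0, 1, 2, 0, 2, 0, 2, 0, 1, 2, 1, 2, 1, 0, 2, 0]), (195, [2, 0, 2, 1, 2, 0, 2, 0, 1, 2, 0, 2, 1, 2, 0, 1, 2, 1, 2]), (197, [0, 2, 0, 1, 0, 2, 1, 2, 1, 2, 0, 2, 1, 2, 0, 1, 0]), (198, [1, 2, 0, 2, 1, 0, 1, 2, 0, 1, 2, 1, 0, 2, 1, 2, 1, 2, 1, 0]), (199, [0, 1, 2, 0, 2, 0, 2, 0, 1, 2, 1, 2, 1, 0, 1, 2, 1]), (201, [0, 2, 0, 1, 0, 1, 2, 0, 1, 2, 0, 2, 1, 0, 2, 0, 1]), (202, [0, 1, 2, 1, 2, 0, 1, 2, 0, 1, 2, 1, 2, 0, 1, 2, 0, 2]), (204, [0, 2, 0, 1, 0, 2, 0, 2, 1, 2, 1, 2, 0, 2, 0, 2,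 0, 2]), (205, [2, 1, 2, 0, 1, 2, 0, 1, 2, 1, 0, 2, 1, 0, 1, 2]), (206, [2, 1, 0, 1, 2, 1, 2, 0, 2, 1, 2, 1, 0, 1, 2, 0, 1, 0]), (207, [0, 1, 2, 0, 1, 2, 1, 2, 1, 0, 1, 2]), (208, [2, 1, 0, 2, 0, 2, 0, 2, 0, 2, 0, 2, 0, 1, 0, 2, 1, 0, 1]), (209, [0, 2, 0, 1, 0, 2, 0, 2, 0, 1, 2, 1, 2, 0, 1, 0, 2, 1]), (210, [2, 1, 2, 0, 1, 2, 1, 0, 2, 1, 2, 0, 2, 0, 1]), (211, [0, 2, 1, 2, 0, 1, 2, 0, 1, 0, 2, 1, 0, 2, 1, 0, 1]), (212, []), (213, [2, 1, 0, 1, 2, 0, 1, 2, 1, 0, 2, 1, 0, 2, 1, 2]), (214, [0, 2, 0, 2, 0, 2, 1, 2, 1, 0, 2, 0, 2, 0, 2, 1]), (215, [0, 1, 2, 0, 2, 0, 2, 0, 1, 0, 2, 1, 2, 0, 2, 0, 1]), (217, [0, 2, 0, 1, 0, 1, 2, 1, 2, 1, 2, 0, 2, 0, 1]), (219, [2, 0,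 1, 2, 0, 1, 0, 1, 2, 0, 1, 2, 0, 1, 2, 1, 2, 0, 2]), (220, [1, 2, 0, 2, 0, 1, 2, 0, 1, 0, 1, 2, 1, 0, 2, 1, 2, 0]), (221, [2, 0, 1, 2, 0, 2, 1, 0, 2]), (222, [0, 2, 1, 0, 1, 2, 1, 0, 1, 2, 0, 2, 0, 1, 0, 2, 0, 1]), (224, [0, 1, 0, 2, 1, 0, 1, 2, 1, 2, 0, 2, 1, 2, 1, 0, 1, 2]), (225, [0, 2, 0, 1, 0, 2, 0, 2, 1, 0, 2, 1, 0, 2, 0, 1, 0, 1]), (226, [0, 1, 2, 0, 1, 0, 2, 0, 1, 2, 1, 2, 0, 1, 0, 2, 0]), (228, [1, 2, 0, 2, 0, 2, 1, 0, 2, 0, 1, 2, 0, 1, 2, 1, 0]), (229, [2, 1, 0, 1, 2, 1, 2, 1, 2, 0, 1, 2, 1, 2, 1, 2, 0, 2]), (230, [1, 2, 0, 2, 0, 2, 1, 0, 2, 0, 2, 0, 2, 0, 1, 2, 1, 2]), (231, [2, 1, 2, 1, 2, 0, 1, 2, 1, 0, 1, 2, 1, 2, 1]), (233, [2, 1, 0, 1, 2, 0, 1,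 2, 0, 2, 0, 2, 0, 2, 1, 2, 0, 1, 0]), (235, [2, 1, 0, 1, 2, 0, 2, 0, 1, 0, 2, 0, 2, 1, 0, 1, 2]), (236, [0, 1, 2, 0, 1, 0, 2, 1, 2, 1, 0, 1, 2, 0, 1, 0]), (237, [0, 2, 0, 1, 0, 2, 1, 2, 1, 0, 2, 0, 1, 0, 2, 1, 0]), (238, [2, 1, 2, 0, 2, 0, 2, 0, 2, 0, 1, 2, 0, 2, 1, 2, 1, 0]), (239, [0, 1, 0, 1, 2, 1, 2, 0, 2, 1, 2, 1, 0, 2, 1, 0, 2, 0, 2, 1]), (240, [0, 2, 0, 1, 0, 1, 2, 1, 0, 2, 1, 2, 1, 0, 1, 2, 1, 2, 1, 2]), (241, [0, 2, 1, 0, 2, 1, 2, 0, 2, 0, 1, 0, 2, 0, 1, 2, 0]), (242, [1, 2, 1, 2, 0, 1, 2, 1, 0, 1, 2, 0, 1, 2, 1, 0, 2, 1]), (243, [1, 0, 1, 2, 1, 0, 2, 0, 2, 0, 1, 2, 1, 2, 1]), (244, [1, 0, 2, 0, 2, 1, 2, 0, 1, 2, 1, 0]), (245, [1, 2, 0, 1, 2, 1, 0, 2,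 1, 2, 1]), (246, [1, 2, 0, 2, 0, 2, 0, 2, 0, 1, 2, 0, 1, 2, 1, 0]), (247, [0, 2, 0, 2, 0, 2, 0, 1, 2, 0, 2, 1, 2, 1, 0]), (248, [1, 2, 0, 2, 1, 2, 0, 1, 0, 2, 0, 1, 0, 2, 1, 0, 2]), (249, [0, 2, 0, 1, 0, 1, 2, 1, 0, 2, 1, 2, 1, 0, 1, 2, 1]), (250, [0, 1, 0, 1, 2, 0, 2, 1, 2, 1, 2, 0, 1, 2, 1, 0, 1, 2, 0, 1]), (251, [0, 2, 0, 2, 1, 0, 1, 2, 1, 0, 2, 1, 2, 1, 0]), (253, [1, 0, 2, 0, 1, 0, 1, 2, 0, 2, 0, 1, 2, 1, 2, 1, 2, 0]), (255, [0, 2, 1, 2, 1, 2, 0, 1, 2, 1]), (256, [2, 0, 2, 0, 2, 1, 0, 1, 2, 0, 2, 0, 1, 0, 1]), (257, [1, 2, 0, 1, 0, 2, 1, 2, 1, 0, 2, 0, 2, 0, 1, 0, 2, 0]), (258, [1, 2, 0, 2, 0, 2, 1, 2, 0, 2, 1, 2, 1, 0, 1, 2, 1, 2, 1]), (260, [1, 2, 0, 1,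 2, 0, 1, 0, 1, 2, 0, 2, 0, 1, 2, 1, 0, 1]), (261, [2, 1, 2, 0, 1, 2, 0, 1, 0, 2, 0, 1, 2, 1, 2, 0, 1, 0, 2, 0]), (262, [2, 0, 2, 0, 2, 1, 0, 2, 1, 0, 2, 1, 0, 1, 2, 0, 1, 0, 1, 2]), (264, [0, 2, 0, 2, 0, 2, 1, 2, 1, 2, 0, 1, 2, 0, 1, 2, 1, 0]), (265, [2, 1, 2, 0, 1, 0, 2, 0, 2, 1, 0, 2, 0, 2, 1, 2, 0, 1, 0, 2, 0]), (266, [2, 0, 2, 1, 0, 2, 1, 2, 1, 0, 2, 1, 0, 2, 1, 2, 1, 0]), (267, [0, 1, 0, 1, 2, 0, 2, 1, 0, 1, 2, 0, 2, 0, 2]), (269, [1, 2, 1, 0, 2, 1, 2, 1, 2, 0]), (271, [1, 2, 1, 0, 1, 2, 0, 2, 0, 2, 0, 1, 2, 1, 2, 1, 0]), (272, [0, 2, 0, 1, 2, 1, 2, 0, 1, 0, 2, 1, 2, 1, 0, 2, 0, 2, 1, 2]), (273, [0, 2, 0, 1, 2, 0, 2, 1, 0, 1, 0, 2, 0, 2, 1, 2, 1, 0, 1]),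 (274, [2, 0, 1, 2, 1, 2, 1, 0, 1, 2, 0, 2, 1, 0, 2, 0, 2, 0, 2, 0]), (275, [1, 0, 2, 1, 2, 0, 1, 0, 1, 2, 1, 2, 0, 1, 0, 2, 0, 1, 0]), (276, [1, 0, 1, 2, 1, 0, 1, 2, 0, 2, 0, 2, 1, 2, 1]), (277, [1, 2, 0, 1, 0, 1, 2, 0, 2, 1, 0, 2, 0, 2, 0, 1, 0, 2, 1, 0]), (278, [1, 2, 1, 2, 0, 2, 1, 0, 2, 0, 1, 2, 0, 1, 2]), (279, [2, 1, 2, 1, 0, 1, 2, 0, 2, 1, 2, 1, 0, 2, 0, 2, 1]), (280, [2, 0, 1, 0, 1, 2, 1, 2, 0, 2, 0, 2, 1, 0, 2, 0, 2, 0, 1]), (281, [2, 1, 2, 1, 0, 1, 2, 0, 1, 0, 2, 1, 0, 1]), (282, [1, 0, 1, 2, 0, 1, 0, 2, 1, 0, 1]), (283, [0, 1, 2, 0, 2, 0, 2, 0, 2, 1, 0, 2, 1, 2]), (284, [0, 1, 2, 0, 2, 1, 0, 1, 2, 0, 2, 0, 1, 0, 2, 0, 2, 0, 1]), (285, [0, 1, 0, 1, 2,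 0, 1, 2, 0, 2, 1, 0, 2, 0, 1, 0, 1]), (286, [1, 0, 1, 2, 0, 2, 0, 1, 2, 0, 1, 2, 0, 1, 0, 2, 0]), (287, [1, 0, 1, 2, 0, 2, 0, 1, 0, 2, 1, 0, 2, 1, 2, 0]), (289, [2, 1, 2, 0, 1, 2, 1, 0, 1, 2, 0, 1, 0, 1, 2, 0, 2, 1, 2]), (291, [1, 0, 2, 0, 2, 1, 2, 0, 1, 0, 1, 2, 1, 2, 1, 0, 1, 2]), (292, [2, 1, 0, 2, 0, 2, 0, 2, 0, 2, 0, 1, 0, 1, 2, 1, 2]), (293, [2, 1, 0, 2, 0, 2, 0, 2, 0, 2, 0, 1, 0, 1]), (294, [0, 2, 0, 2, 0, 2, 1, 2, 0, 1, 0, 2, 1, 2, 0, 2, 0, 2, 0]), (296, [2, 0, 2, 0, 2, 1, 0, 2, 1, 2, 0, 1, 2, 1, 0, 1, 2, 0, 1]), (297, [0, 2, 0, 1, 0, 1, 2, 0, 1, 0, 2, 1, 0, 2, 1, 0, 2]), (298, [1, 2, 1, 0, 2, 1, 0, 2, 0, 1, 0, 2, 1, 2, 0, 1, 2]), (300, [0, 1, 2, 0, 1,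 0, 2, 0, 1, 0, 2, 0, 1, 2, 0, 2, 0, 1, 0]), (301, [1, 2, 1, 0, 1, 2, 1, 2, 1, 0, 2, 0, 2, 0, 2, 1, 0]), (302, [2, 1, 0, 1, 2, 0, 1, 2, 0, 2, 0, 2, 1, 0, 2, 0, 1]), (303, [1, 2, 0, 2, 1, 0, 2, 0, 2, 0, 1, 2, 0, 2, 0, 2, 0]), (305, [2, 1, 0, 1, 2, 0, 2, 1, 2, 0, 2, 1, 0, 1, 0, 2, 0, 2, 0, 2]), (307, [0, 1, 0, 2, 0, 2, 1, 0, 2, 0, 1, 0, 2, 0, 1, 0, 2, 1, 0]), (308, [0, 1, 2, 0, 2, 0, 2, 0, 2, 1, 0]), (309, [2, 0, 2, 1, 2, 0, 2, 1, 0, 1, 2, 1, 2, 1, 0, 2, 1, 0, 2, 0]), (310, [2, 0, 1, 2, 0, 2, 1, 0, 1, 2]), (311, [2, 0, 2, 1, 2, 1, 2, 0, 2, 0, 1, 2, 0, 1, 2, 0, 2, 1]), (312, [1, 2, 1, 2, 1, 0, 1, 2, 1, 0, 2, 1]), (313, [1, 2, 0, 1, 0, 2, 1, 0, 2, 1, 0, 1, 2, 0, 2,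 1]), (314, [0, 1, 0, 2, 1, 2, 1, 2, 0, 2, 0, 1, 0, 1, 2, 1]), (315, [2, 0, 2, 1, 0, 1, 2, 1, 0, 2, 1, 2, 1, 0, 2, 1, 0, 2, 1, 0]), (316, [0, 2, 0, 2, 0, 1, 0, 2, 1, 2, 0, 1, 2, 0, 2]), (317, [2, 1, 2, 1, 2, 0, 1, 2, 0, 1, 0, 2, 1, 0, 2, 1, 2, 1, 2]), (318, [1, 2, 0, 1, 2, 0, 1, 0, 2, 1, 0, 2, 1]), (319, [1, 2, 0, 1, 2, 0, 1, 0, 2, 1, 0, 2, 1, 2, 1, 2]), (320, [1, 2, 0, 2, 1, 0, 1, 2, 0, 1, 2, 0, 1, 0, 2, 1]), (321, [1, 2, 1, 2, 1, 0, 1, 2, 1, 0, 2, 1, 2, 1, 2]), (322, [0, 1, 0, 1, 2, 0, 1, 2, 0, 2, 0, 2, 0, 1, 2, 0, 2, 0, 1]), (323, [2, 0, 2, 1, 0, 2, 0, 1, 2, 0, 1, 2, 1, 2, 1]), (325, [0, 1, 2, 1, 2, 1, 0, 2, 0, 1, 2, 1, 0, 1, 2, 1, 2, 1, 0]), (327, [1, 2, 1,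 2, 1, 0, 2, 1, 0, 2, 0, 1, 2, 0, 1, 2]), (328, [0, 1, 2, 1, 0, 1, 2, 0, 1, 0, 2, 1, 2, 0, 1, 2, 1]), (329, [0, 1, 2, 1, 0, 1, 2, 0, 1, 0, 1, 2, 0]), (330, [0, 1, 2, 0, 2, 1, 2, 1, 2, 0, 2, 0, 1, 2, 0, 2, 1, 2, 1]), (332, [2, 0, 2, 0, 2, 0, 2, 0, 2, 0, 1, 0, 1]), (333, [1, 0, 1, 2, 0, 2, 0, 2, 0, 2, 1, 2, 0, 2, 1, 2, 1, 0]), (334, [2, 0, 1, 2, 1, 0, 2, 0, 1, 0, 2, 1, 2, 0, 2, 1]), (336, [1, 2, 1, 0, 1, 2, 0, 2, 1, 2, 1, 0, 2, 1, 0, 1, 2, 1]), (337, [0, 2, 0, 2, 1, 0, 2, 0, 2, 0, 1, 2, 0, 2, 1, 0]), (338, [1, 2, 0, 1, 0, 1, 2, 1, 2, 0, 1, 0, 2, 0, 2, 1]), (339, [0, 2, 1, 2, 1, 0, 2, 0, 2, 1, 2, 1, 0, 2, 0, 2, 0, 1]), (341, [0, 2, 0, 1, 0, 2, 1, 2, 0, 2, 0, 1, 2,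 0, 2, 0, 1, 0]), (343, [0, 1, 0, 1, 2, 0, 2, 0, 2, 0, 2, 0, 1, 2]), (344, [1, 2, 1, 2, 1, 0, 2, 1, 0, 1, 2, 0, 1, 0, 2, 0, 2, 0]), (345, [1, 2, 0, 1, 0, 2, 0, 2, 1, 2, 1, 0, 1, 2, 0, 1, 0, 2]), (346, [2, 1, 0, 2, 1, 0, 2, 0, 1, 2, 0, 2, 1, 2, 1]), (347, [0, 2, 1, 2, 0, 1, 2, 0, 2, 0, 1, 2, 0, 1, 0, 2, 0]), (350, [1, 2, 1, 0, 2, 1, 2, 1, 2, 0, 2, 0, 1, 2, 0, 2, 1, 0, 2]), (351, [0, 2, 0, 2, 0, 1, 0, 2, 1, 0, 1, 2, 1, 2, 1, 0, 2, 1]), (352, [0, 2, 0, 1, 0, 2, 1, 2, 1, 0, 1, 2, 1, 0, 1, 2, 0, 1, 0]), (354, [0, 2, 0, 1, 0, 1, 2, 0, 1, 0, 2, 1, 2, 1, 0, 2]), (355, [1, 2, 0, 1, 0, 2, 1, 0, 1, 2, 1, 2, 0, 2, 1, 2, 1, 0]), (356, [2, 1, 0, 1, 2, 0, 1, 2, 1, 2, 0, 2, 0,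 2, 1, 0, 2, 1, 2]), (359, [2, 1, 0, 2, 0, 1, 0, 2, 1, 0, 1, 2, 0, 1, 0, 2, 0, 2]), (360, [0, 2, 1, 2, 0, 1, 0, 2, 0, 1, 0, 2, 0, 2, 0, 2, 0, 2, 0]), (362, [1, 2, 0, 1, 2, 0, 1, 0, 1, 2, 1, 0, 2, 0, 1, 2, 0, 2]), (363, [0, 2, 0, 1, 0, 2, 1, 2, 1, 0, 2, 0, 2, 1, 2, 1, 0, 1, 2]), (364, [0, 1, 2, 0, 1, 2, 1, 2, 0, 1, 0, 2, 0, 2, 1, 0, 2]), (366, [0, 2, 0, 2, 0, 2, 0, 1, 2, 1, 2, 1, 0, 1, 2, 0, 2, 0]), (367, [2, 1, 0, 2, 1, 0, 2, 1, 2, 0, 1, 0, 2, 0, 2, 0, 2, 1, 2]), (369, [0, 1, 2, 0, 2, 1, 0, 2, 0, 1, 2, 0, 1, 2, 0, 2, 1]), (370, [1, 2, 0, 1, 0, 2, 1, 0, 1, 2, 0, 2, 0, 2, 0, 2, 0]), (371, [1, 2, 1, 0, 1, 2, 0, 2, 0, 2, 0, 1, 2, 1, 2, 1, 0, 2, 1, 2]), (373, [1, 2,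 0, 1, 0, 1, 2, 0, 2, 0, 1, 0, 1, 2, 0, 1]), (374, [0, 1, 2, 1, 0, 2, 1, 0, 2, 0, 1, 2, 0, 2, 0, 2, 1, 2, 1, 2]), (378, [0, 1, 2, 0, 2, 0, 2, 1, 2, 1, 0, 2, 1, 0, 2]), (379, [0, 1, 0, 1, 2, 0, 2, 0, 1, 0, 1, 2, 0, 2, 0, 1, 0, 1]), (380, [2, 0, 1, 2, 1, 2, 0, 2, 1, 2, 1, 0, 1, 2, 0, 1, 0]), (382, [2, 1, 2, 0, 1, 0, 2, 1, 2, 0, 1, 0, 2, 0, 1, 2, 1, 2]), (383, [1, 0, 2, 1, 0, 1, 2, 1, 0, 2, 1, 2, 0, 1, 2, 0, 2, 0, 2]), (384, [1, 0, 2, 0, 2, 0, 2, 0, 1, 0, 1, 2, 1, 2, 0, 2, 0, 2, 0]), (387, [0, 2, 1, 2, 0, 2, 0, 2, 1, 2, 0, 1, 0, 1, 2, 1, 2, 0, 2, 0]), (388, [0, 2, 0, 2, 1, 0, 2, 1, 2, 0, 1, 2, 0, 2, 1]), (390, [2, 1, 2, 0, 2, 0, 2, 0, 2, 0, 1, 2, 0, 2, 1, 2, 1, 0,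 2, 1, 2]), (391, [2, 1, 2]), (392, [0, 2, 1, 2, 0, 2, 0, 1, 0, 2, 1, 2, 0, 1, 2]), (394, [1, 0, 1, 2, 1, 2, 0, 2, 0, 1, 2, 0, 1, 2, 0, 1, 2, 0, 1, 0]), (395, [1, 0, 2, 0, 1, 2, 0, 1, 2, 1, 0, 1, 2, 0, 1, 0, 2, 1, 2]), (397, [0, 2, 0, 1, 2, 1, 2, 1, 0, 2, 0, 2, 0, 2, 1, 0, 2, 0]), (398, [2, 1, 2, 0, 2, 0, 2, 1, 0, 1, 2, 1, 0, 2, 1, 2, 1, 0]), (399, [1, 0, 2, 0, 2, 0, 2, 0, 1, 2, 0, 2, 0, 2, 1]), (401, [0, 2, 1, 2, 1, 2, 0, 2, 0, 2, 1, 0, 2, 0, 1, 2, 0, 2]), (402, [2, 1, 0, 2, 1, 0, 2, 0, 2, 1, 0, 2, 1, 2, 1, 2, 0, 1]), (406, [1, 0, 1, 2, 1, 0, 1, 2, 0, 1, 0, 2, 0, 1, 2, 0, 2]), (407, [0, 2, 0, 1, 0, 2, 1, 2, 1, 0, 2, 0, 2, 1, 2, 1, 0, 2]), (408, [2, 1, 2, 0, 1,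 2, 1, 2, 1, 0, 2, 0, 2, 0, 2, 1, 0, 1, 2, 1]), (410, [2, 0, 2, 0, 2, 1, 2, 1, 2, 0, 1, 2, 0, 2, 0, 1, 0, 1]), (411, [2, 1, 0, 1, 2, 0, 2, 0, 2, 0, 1, 0, 2, 1, 0, 2, 1, 0, 2, 0]), (412, [1, 0, 2, 1, 2, 1, 2, 0, 1, 2, 1, 2, 0, 1, 2, 1, 2, 1]), (415, [0, 2, 0, 2, 1, 2, 0, 2, 0, 1, 2, 0, 1, 2, 0, 1, 2, 1, 2]), (416, [1, 2, 0, 2, 0, 1, 0, 2, 1, 2, 0, 1, 0, 1, 2, 1]), (418, [1, 0, 2, 1, 2, 1, 2, 0, 2, 1, 2, 1, 2, 0, 2, 1]), (419, [1, 0, 2, 0, 2, 1, 0, 2, 0, 1, 0, 2, 0, 1, 0, 1]), (420, [0, 2, 0, 1, 2, 0, 1, 2, 0, 1, 0, 2, 0, 2, 0, 2, 1, 0, 2]), (422, [0, 2, 0, 2, 1, 2, 1, 2, 0, 2, 1, 2, 0, 1, 2, 0, 1]), (423, [2, 1, 0, 1, 2, 1, 0, 1, 2, 0, 1, 2, 0, 1, 2, 1, 2, 0, 2]),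 (425, [1, 0, 2, 0, 2, 0, 2, 0, 2, 0, 2, 0, 2, 1]), (426, [0, 2, 1, 2, 0, 2, 1, 2, 0, 1, 0, 1, 2, 0, 1, 2, 1, 2, 1, 0]), (427, [2, 0, 1, 2, 1, 2, 0, 1, 0, 1, 2, 1, 2, 0, 2, 0, 1]), (429, [0, 1, 2, 1, 2, 0, 2, 1, 0, 2, 0, 2, 0, 2, 0]), (430, [2, 0, 2, 1, 0, 1, 2, 0, 1, 0, 1, 2, 1, 0, 1, 2, 0, 2]), (432, [2, 1, 2, 0, 1, 0, 2, 1, 2, 0, 1, 0, 2, 0, 1]), (433, [1, 2, 1, 0, 2, 1, 2, 1, 2, 0, 2, 1, 2]), (434, [1, 0, 2, 1, 2, 1, 2, 0, 1, 2, 0, 2, 0, 1, 2, 0, 1, 2]), (435, [2, 1, 2, 1, 2, 1, 0, 1, 2, 0, 2, 0, 2, 0, 1, 2, 1, 2, 1, 0]), (436, [0, 1, 2, 1, 0, 2, 0, 2, 0, 1, 2, 0, 2, 0, 2, 0, 2]), (437, [0, 1, 2, 0, 2, 0, 2, 0, 1, 0, 2, 1, 2, 0, 2, 0, 1, 2, 1, 2]), (438, [2,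 1, 2, 1, 2, 0, 1, 2, 1, 2, 0, 2, 0, 1, 2, 1, 0, 1]), (439, [2, 0, 1, 2, 1, 2, 1, 2, 0, 2, 0, 2, 1, 0]), (440, [0, 2, 0, 2, 0, 1, 2, 1, 0, 2, 0, 2, 0, 1, 2, 1]), (441, [0, 2, 1, 0, 2, 0, 2, 0, 1, 2, 0, 1, 0, 1, 2, 0, 2]), (442, [1, 0, 1, 2, 0, 1, 2, 0, 1, 0, 2, 1, 0, 2, 1, 2, 0]), (443, [0, 2, 1, 2, 1, 2, 0, 1, 2, 1, 2, 0, 1, 2, 0, 2, 1, 0, 2]), (445, [0, 1, 2, 0, 1, 2, 1, 2, 0, 1, 0, 2, 0, 2, 1, 0, 1, 2]), (447, [1, 2, 0, 1, 2, 1, 0, 2, 1, 0, 1, 2, 1, 0, 2, 1, 2, 1]), (448, [0, 1, 0, 1, 2, 1, 0, 2, 0, 2, 0, 2, 0, 2, 1, 2, 0, 2, 1]), (449, [0, 2, 1, 2, 0, 2, 0, 1, 0, 2, 1, 2, 1, 2, 0, 2, 1, 0, 1, 2]), (450, [0, 1, 0, 2, 1, 0, 1, 2, 1, 2, 0, 2, 1, 2, 1, 0, 2]),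 (452, [1, 2, 1, 0, 1, 2, 1, 2, 1, 0, 1, 2, 1, 0, 2, 1, 0, 1, 2]), (453, [0, 2, 0, 2, 1, 0, 2, 0, 2, 0, 2, 1, 2, 1, 2, 0, 1, 2]), (454, [1, 2, 0, 2, 0, 2, 1, 0, 2, 0, 1, 2, 0, 1, 2, 1, 0, 2, 1, 2]), (456, [0, 1, 0, 2, 0, 2, 1, 0, 2, 0, 2, 1, 2, 0, 1, 0, 2, 0]), (457, [0, 2, 0, 2, 1, 0, 2, 0, 2, 0, 2, 1, 2, 1, 2, 0, 2]), (458, [0, 2, 1, 2, 0, 2, 1, 0, 2, 1, 2, 1, 0, 1, 2, 1, 2, 0, 1, 2]), (459, [1, 0, 1, 2, 1, 2, 0, 2, 1, 0, 2, 1, 0, 2, 1, 0, 2, 0, 2]), (461, [1, 0, 2, 0, 1, 0, 2, 0, 2, 1, 0, 1, 2, 1, 0, 1, 2, 0]), (463, [0, 2, 0, 2, 1, 0, 2, 1, 0, 2, 0, 1, 2, 0, 2, 0, 2, 0]), (464, [2, 1, 2, 1, 2, 0, 2, 0, 2, 0, 2, 0, 1, 2, 0, 1, 2, 1, 0]), (465, [2, 0, 1, 2, 0,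 2, 0, 2, 0, 1, 0, 2, 1, 0, 2, 1, 0, 2, 0]), (466, [0, 2, 0, 1, 2, 1, 0, 2, 1, 0, 2, 1, 2, 0, 2, 1]), (467, [2, 1, 2, 1, 2, 0, 2, 0, 1, 2, 1, 2, 0, 2, 1, 0, 1]), (470, [1, 0, 1, 2, 1, 0, 2, 0, 1, 0, 2, 0, 1, 2, 0, 2]), (471, [0, 1, 2, 1, 2, 1, 0, 2, 1, 2, 1, 0, 2, 1, 0, 1, 2, 1]), (472, [0, 2, 1, 2, 1, 2, 0, 1, 2, 1, 2, 1, 2]), (474, [1, 2, 0, 2, 0, 2, 1, 2, 0, 2, 0, 2, 1, 2, 1, 2]), (475, [2, 1, 0, 2, 0, 2, 0, 1, 0, 1, 2, 0, 2, 0, 2]), (476, [2, 0, 2, 1, 0, 2, 1, 2, 1, 0, 2, 1, 0, 2, 1, 2, 1, 0, 2, 1, 2]), (479, [1, 0, 2, 0, 2, 0, 2, 0, 1, 0, 2, 0, 2, 0, 2, 0, 1]), (480, [0, 1, 2, 0, 1, 0, 2, 0, 2, 1, 0, 2, 0, 1]), (482, [2, 0, 2, 1, 2, 0, 1, 0, 2, 0, 2, 1, 2,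 0]), (483, [2, 0, 1, 0, 2, 0, 2, 0, 2, 0, 1, 0, 1, 2, 0, 2, 1]), (484, [0, 1, 0, 2, 0, 2, 0, 2, 0, 1, 0, 1, 2, 1, 0, 2, 0]), (486, [1, 2, 0, 2, 1, 2, 0, 1, 2, 0, 1, 2, 1, 0, 2, 0]), (487, [1, 0, 2, 1, 2, 1, 2, 0, 1, 2, 1, 2, 0, 2, 1, 2, 1]), (489, [0, 1, 0, 1, 2, 0, 2, 0, 2, 0, 2, 0, 2]), (490, [1, 2, 0, 2, 1, 0, 2, 0, 1, 0, 2, 1, 2, 0, 2, 0, 1, 0, 2]), (491, [2, 1, 2, 0, 2, 0, 1, 0, 1, 2, 1, 0, 1, 2, 1, 0]), (493, [2, 0, 2, 0, 2, 0, 2, 0, 2, 1, 0, 2, 0, 2, 0, 2, 0, 2, 1, 0]), (494, [1, 2, 1, 0, 1, 2, 1, 2, 0, 1, 2, 0, 1, 0, 1, 2, 0]), (498, [2, 1, 2, 1, 2, 0, 1, 2, 0, 1, 0, 2, 1, 0, 2, 1]), (499, [2, 0, 1, 0, 2, 1, 2, 0, 2, 0, 2, 1, 0, 2, 0, 2, 0, 1]), (500,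 [0, 2, 0, 2, 0, 2, 0, 1, 2, 0, 1, 2, 1, 0, 1, 2, 1]), (502, [0, 2, 0, 2, 0, 1, 0, 1, 2, 0, 2, 0, 1, 0, 2, 0, 1, 0, 2, 0]), (503, [2, 0, 1, 2, 1, 2, 0, 2, 0, 2, 0, 2, 1, 2, 0, 1, 0]), (504, [2, 1, 2, 1, 0, 2, 0, 1, 0, 2, 1, 2, 0, 1, 0]), (507, [0, 1, 2, 1, 0, 1, 2, 0, 1, 0, 1, 2, 0, 2, 1, 2]), (508, [2, 1, 2, 0, 1, 0, 1, 2, 0, 2, 0, 2, 0, 2, 0, 1, 2]), (510, [1, 0, 2, 0, 2, 1, 2, 1, 0, 1, 2, 0, 2, 1, 0, 2, 0, 1]), (511, [2, 1, 2, 1, 2, 0, 2, 1, 0, 2, 0, 2, 0, 1, 2, 0, 2, 0, 2, 0]), (512, [0, 2, 1, 2, 1, 2, 0, 2, 0, 1, 2, 1, 0, 2, 1]), (514, [2, 0, 2, 0, 2, 0, 2, 0, 2, 0, 1, 0, 1, 2, 1, 2]), (515, [2, 0, 1, 0, 2, 0, 1, 2, 1, 2, 1, 2, 0, 2, 1, 0, 1, 2, 0]), (517,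 [0, 2, 1, 2, 1, 2, 0, 2, 1, 0, 1, 2, 1, 0, 2, 1]), (518, [2, 0, 1, 2, 1, 2, 0, 1, 0, 1, 2, 1, 2, 0, 2, 0, 1, 2, 1, 2]), (519, [0, 2, 0, 1, 2, 1, 2, 1, 0, 1, 2, 0, 2, 0, 2, 1, 0, 2, 0]), (521, [2, 1, 2, 0, 1, 2, 1, 2, 0, 1, 2, 1, 0, 1, 2, 0, 2, 0]), (522, [1, 2, 1, 0, 1, 2, 0, 2, 1, 2, 1, 0, 1, 2, 1, 2, 1, 0]), (526, [0, 2, 1, 2, 0, 2, 1, 2, 1, 0, 1, 2, 0, 1, 2, 1, 2, 1, 0]), (527, [0, 2, 1, 0, 2, 0, 2, 0, 2, 0, 1, 0, 1, 2, 0, 2]), (528, [1, 2, 1, 0, 1, 2, 1, 2, 0, 2, 1, 2, 0, 2, 0, 1]), (530, [0, 1, 0, 1, 2, 0, 2, 1, 0, 1, 2, 0, 2, 0, 1, 2]), (531, [2, 0, 1, 2, 1, 2, 1, 0, 1, 2, 1, 2, 1, 0, 1, 2, 1]), (532, [0, 2, 0, 2, 1, 0, 1, 2, 1, 2, 1, 0, 2, 0, 2, 0, 2, 0]),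 (535, [0, 2, 0, 1, 2, 1, 2, 0, 1, 0, 2, 1, 2, 1, 0, 2, 0]), (536, [1, 2, 0, 1, 2, 1, 2, 0, 2, 1, 0, 1, 2, 1, 0, 1, 2, 1, 2]), (538, [0, 1, 2, 0, 2, 1, 0, 2, 0, 2, 0, 1, 2, 0, 2, 0]), (539, [2, 1, 0, 1, 2, 1, 2, 1, 0, 2, 1, 0, 2, 1, 2]), (540, [1, 2, 0, 2, 0, 2, 0, 2, 0, 2, 1, 0, 2, 1, 2, 0, 1, 0]), (542, [0, 2, 0, 1, 2, 0, 2, 0, 2, 1, 0, 1, 2, 1, 2, 1, 0, 2, 0]), (543, [1, 0, 2, 0, 1, 2, 1, 2, 0, 2, 1, 0, 2, 1, 0, 2, 1, 0, 1]), (545, [0, 1, 2, 1, 2, 1, 2, 0, 1, 0, 2, 1, 0, 2, 1, 2, 1]), (546, [2, 1, 2, 1, 2, 1, 0, 1, 0, 2, 0, 2, 1, 0, 1, 0, 2, 0, 1]), (547, [0, 1, 2, 0, 2, 0, 2, 1, 0, 2, 0, 2, 1, 0, 2, 0, 1]), (549, [2, 0, 2, 0, 2, 0, 2, 1, 2, 0, 1, 2, 0, 2, 0,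 1, 0, 2, 0]), (550, [0, 2, 0, 2, 1, 0, 1, 2, 1, 0, 2, 1, 2, 1, 0, 2, 1, 2]), (552, [0, 1, 2, 0, 1, 0, 2, 1, 2, 1, 0, 2, 0, 1, 0, 2, 0, 1]), (553, [1, 2, 1, 2, 0, 2, 0, 2, 0, 1, 2, 1, 0, 1]), (554, [0, 1, 0, 1, 2, 1, 2, 0, 2, 0, 1, 2, 0, 1, 2, 0, 1, 2, 0]), (555, [0, 2, 0, 1, 0, 2, 0, 2, 1, 2, 1, 2, 0, 2, 0, 2, 0, 1, 2]), (556, [2, 1, 0, 1, 2, 0, 1, 2, 1, 0, 2, 1, 0]), (557, [0, 2, 0, 2, 1, 0, 2, 0, 1, 2, 0, 2, 0, 2, 1, 2, 1, 0, 1, 0]), (558, [2, 1, 0, 1, 2, 0, 2, 1, 2, 0, 1, 2, 1, 2, 1, 0, 2, 0, 2]), (559, [2, 0, 2, 1, 0, 2, 0, 1, 2, 1, 2, 1, 0, 2, 1]), (560, [2, 0, 2, 0, 1, 2, 1, 2, 1, 0, 2, 0, 2]), (561, [1, 0, 1, 2, 0, 1, 2, 0, 1, 0, 2, 1, 0, 1, 2, 0, 1, 2,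 1]), (562, [2, 0, 2, 0, 2, 1, 2, 1, 2, 0, 1, 0, 2, 0, 2, 0, 1, 2]), (563, [2, 1, 2, 0, 2, 0, 1, 2, 1, 0, 2, 1, 0, 2, 1, 2, 0, 2, 1]), (565, [0, 1, 2, 0, 1, 2, 0, 2, 0, 1, 0, 2, 1, 2, 0, 2, 1]), (567, [0, 1, 0, 1, 2, 0, 1, 2, 1, 2, 0, 2, 0, 1, 0, 2, 0]), (568, [1, 2, 1, 2, 1, 0, 1, 2, 1, 2, 0, 2, 1, 2, 0, 2, 0, 2, 1]), (569, [0, 1, 2, 1, 2, 1, 2, 0, 2, 0, 2, 0, 1, 0, 1, 2, 0, 1]), (570, [1, 2, 1, 0, 1, 2, 1, 0, 2, 1, 0, 2, 0, 2, 0, 2, 0]), (572, [0, 2, 0, 1, 2, 0, 2, 0, 1, 2, 1, 0, 2, 1, 0, 2, 0, 2]), (573, [1, 2, 1, 2, 0, 2, 0, 1, 2, 0, 2, 1, 2, 0, 2, 0, 1, 2, 0, 1]), (574, [0, 1, 2, 0, 1, 2, 1, 0, 2, 0, 1, 0, 2, 0, 2, 1, 0, 2]), (576, [1, 2, 1, 0, 2, 0, 2, 0,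 2, 1, 2, 1, 0, 1, 2, 0, 1, 2, 1, 0]), (577, [2, 1, 2, 0, 2, 1, 2, 0, 2, 0, 1, 0, 2, 1, 2, 0, 1, 2]), (578, [0, 1, 0, 2, 1, 2, 0, 1, 0, 2, 0, 1]), (579, [2, 1, 2, 0, 1, 2, 0, 1, 2, 1, 2, 1, 0, 1, 2]), (581, [2, 1, 2, 0, 1, 2, 0, 1, 2, 1, 0, 2, 1, 0, 2]), (583, [0, 1, 0, 2, 1, 2, 0, 1, 0, 2, 0, 1, 2, 1, 2]), (584, [1, 0, 1, 2, 0, 1, 0, 2, 0, 1, 0, 2, 0, 1, 2, 1, 0, 2, 1, 0, 2]), (585, [2, 1, 2, 0, 2, 0, 1, 0, 1, 2, 1, 0, 1, 2, 1, 0, 2, 1, 2]), (586, [2, 0, 1, 0, 1, 2, 1, 0, 2, 0, 2, 0, 1, 2, 0, 1, 0, 2]), (587, [2, 0, 2, 0, 2, 1, 2, 1, 2, 0, 1, 0, 2, 0, 2, 0, 2]), (590, [1, 2, 0, 2, 0, 2, 0, 1, 2, 1, 2, 0, 2, 0, 2, 0]), (591, [1, 0, 2, 0, 2, 1, 2, 0, 2, 1, 2, 1,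 0, 1, 2, 1]), (592, [2, 1, 0, 2, 1, 0, 2, 0, 1, 2, 0, 1, 2, 1, 2, 1]), (594, [1, 2, 1, 0, 1, 2, 1, 2, 1, 0, 1, 2, 1, 0, 2, 1, 0, 2]), (595, [2, 1, 2, 1, 2, 0, 1, 0, 2, 1, 0, 2, 1, 0, 1, 2, 0, 2, 1]), (596, [2, 0, 1, 2, 1, 2, 1, 2, 0, 2, 1, 2, 1, 0, 2, 1, 0, 1, 2]), (599, [0, 2, 1, 2, 0, 1, 2, 0, 1, 0, 2, 0, 2, 1, 0, 1]), (600, [0, 1, 0, 2, 1, 0, 1, 2, 1, 0, 2, 1, 0, 2, 0, 1]), (602, [1, 2, 1, 2, 0, 1, 2, 1, 0, 2, 1, 2, 1, 2]), (603, [2, 1, 2, 1, 2, 1, 0, 1, 0, 2, 1, 2, 0, 1, 0, 2, 0, 2, 1]), (604, [1, 0, 2, 1, 2, 1, 2, 0, 1, 2, 0, 2, 0, 1, 2, 0, 2]), (606, [2, 1, 0, 1, 2, 1, 2, 0, 2, 0, 2, 1, 0, 2, 0, 1]), (607, [0, 1, 0, 2, 1, 0, 1, 2, 1, 0, 1, 2, 1, 2, 0, 1,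 0, 2, 0]), (609, [2, 0, 1, 0, 2, 0, 1, 0, 2, 1, 0, 2, 1, 0, 2, 0]), (610, [1, 0, 2, 0, 2, 1, 2, 0, 1, 0, 1, 2, 1, 2, 1, 0, 2]), (611, [0, 2, 0, 1, 2, 0, 1, 2, 0, 1, 0, 2, 0, 1, 0, 2]), (613, [0, 1, 2, 1, 2, 1, 0, 1, 2, 1, 2, 0, 2, 1, 0, 1, 2, 1]), (614, [1, 0, 1, 2, 0, 2, 1, 2, 1, 2, 0, 2, 0, 2, 0, 2, 0, 1]), (618, [1, 0, 2, 0, 1, 2, 0, 2, 0, 1, 0, 2, 1, 0]), (619, [0, 2, 0, 1, 0, 1, 2, 0, 1, 0, 2, 1, 2, 1, 0, 1, 2]), (620, [2, 1, 0, 1, 2, 0, 2, 0, 1, 0, 2, 0, 2, 1, 0, 2]), (622, [2, 0, 1, 2, 1, 2, 1, 0, 2, 1, 0, 2, 1, 2]), (623, [2, 1, 0, 2, 1, 0, 2, 1, 2, 0, 1, 0, 2, 0, 2, 0]), (624, [0, 1, 2, 1, 2, 1, 2, 0, 1, 0, 2, 1, 0, 1, 2, 1, 2, 1]), (627, [0, 1, 2, 0,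 1, 2, 1, 0, 2, 1, 0, 1, 2]), (628, [2, 0, 2, 0, 1, 2, 1, 2, 1, 2, 0, 2, 0, 2, 0, 1, 0, 1]), (630, [0, 1, 2, 1, 0, 2, 1, 0, 2, 0, 1, 2, 0, 2, 0, 2, 1]), (631, [2, 1, 0, 2, 0, 2, 0, 1, 0, 2, 1, 2, 1, 2, 0, 2, 0, 2]), (632, [0, 1, 0, 1, 2, 0, 2, 0, 2, 0, 2, 1, 2, 0, 2, 1, 0, 2]), (634, [1, 0, 2, 0, 1, 2, 0, 2, 0, 2, 1, 2, 1, 0, 2]), (635, [0, 1, 2, 0, 1, 2, 0, 1, 2, 0, 1, 2, 0, 1, 2, 1, 2, 0, 2]), (637, [0, 2, 0, 2, 0, 2, 1, 2, 1, 0, 1, 2, 0, 2, 0, 2, 1]), (638, [2, 1, 2, 1, 2, 0, 1, 2, 1, 0, 2, 1, 2, 1]), (639, [0, 2, 0, 2, 0, 2, 0, 1, 2, 0, 2, 1, 2, 1, 0, 2, 1, 2]), (641, [2, 1, 2, 1, 2, 1, 0, 1, 2, 1, 2, 0, 2, 1, 2, 0, 2, 0, 1]), (642, [2, 0, 1, 2, 0, 1, 2, 1,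 0, 2, 1, 0, 2, 1, 2]), (646, [0, 2, 0, 1, 0, 2, 1, 2, 1, 2, 0, 2, 1, 2, 0, 1, 0, 2, 1, 2]), (647, [2, 1, 0, 2, 1, 2, 0, 1, 0, 2, 0, 2, 1, 2, 0]), (648, [0, 1, 2, 0, 2, 0, 2, 1, 2, 1, 0, 2, 1, 0, 1, 2]), (650, [1, 2, 0, 1, 0, 1, 2, 0, 2, 1, 2, 1, 2, 0, 1, 0]), (651, [0, 1, 2, 1, 0, 2, 1, 2, 1, 0, 2, 1, 2, 0, 1, 0]), (652, [2, 1, 0, 2, 0, 2, 1, 2, 1, 2, 0, 1, 0, 2, 0, 2, 0, 2]), (655, [0, 2, 0, 1, 0, 1, 2, 1, 0, 1, 2, 1, 0]), (656, [0, 2, 1, 0, 2, 1, 2, 0, 2, 1, 2, 0, 1, 2, 0]), (658, [1, 0, 1, 2, 0, 1, 2, 0, 1, 2, 0, 1, 2, 0, 1, 0, 2, 0]), (659, [2, 1, 2, 0, 2, 0, 2, 1, 0, 2, 1, 2, 0, 1, 2, 0, 2, 1]), (660, [2, 1, 0, 2, 0, 2, 1, 0, 1, 2, 0, 2, 0, 1, 0, 1]), (662,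 [0, 2, 1, 2, 1, 2, 1, 0, 1, 0, 2, 0, 1, 0, 2, 1, 0, 2, 1]), (663, [1, 0, 1, 2, 1, 2, 1, 0, 2, 1, 2, 0, 1, 0, 2, 0, 2, 0, 1]), (665, [1, 0, 2, 1, 0, 2, 1, 0, 2, 0, 2, 1, 2, 0, 2, 0]), (666, [2, 1, 0, 2, 1, 0, 2, 0, 1, 2, 1, 2, 1, 0, 2, 1]), (667, [0, 2, 1, 0, 1, 2, 0, 1, 0, 2, 0, 1, 2, 0, 2, 0, 2, 0, 1]), (669, [2, 1, 2, 0, 2, 1, 2, 1, 2, 0, 1, 2, 1]), (670, [1, 2, 0, 2, 0, 2, 1, 2, 0, 2, 0, 2, 1])]⟩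

/-- A level. -/
def sLev2 : Cos.RepSearch.RLev := ⟨562, (some 212), [(0, [2, 0, 2, 0, 2, 0, 1, 2, 0, 2, 1, 0, 1, 2, 0, 2, 0, 1, 0, 2, 0, 2, 1, 0, 1, 0]), (4, [0, 1, 2, 1, 2, 1, 0, 2, 1, 2, 0, 2, 1, 2, 1, 0, 1, 2, 0, 2, 1, 2, 1, 2, 1, 0]), (5, [0, 2, 1, 2, 0, 2, 1, 2, 0, 1, 0, 2, 1, 0, 2, 1, 0, 1, 2, 1]), (19, [0, 1, 2, 0, 2, 1, 0, 2, 1, 2, 0, 1, 2, 1, 0, 1, 2, 1, 0, 2, 1, 0, 1]), (20, [0, 2, 0, 2, 1, 2, 0, 1, 2, 1, 0, 2, 1, 0, 2, 1, 2, 1, 2, 1, 0, 1, 2, 1, 2]), (26, [2, 1, 2, 0, 2, 1, 2, 0, 1, 0, 1, 2, 0, 2, 0, 1, 0, 1, 2, 1, 2, 0, 2, 1, 2]), (31, [1, 0, 2, 0, 2, 0, 2, 0, 2, 0, 2, 1, 2, 1, 0, 2, 0, 2, 1, 2, 1, 2, 0]), (34, [0, 2, 1, 2, 0, 2, 1, 2, 1, 2, 0, 1,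 2, 0, 1, 2, 0, 1, 0, 2, 0, 2, 1, 2, 1]), (35, [0, 2, 1, 2, 0, 2, 0, 2, 0, 1, 2, 1, 2, 0, 1, 0, 2, 1, 0, 1, 0]), (73, [0, 2, 1, 2, 0, 1, 0, 2, 0, 1, 2, 1, 2, 0, 2, 1, 0, 2, 0, 1, 0, 2, 1, 0]), (78, [0, 1, 0, 2, 0, 1, 2, 0, 1, 2, 0, 1, 2, 0, 1, 2, 0, 2, 0, 1, 2, 0, 1, 2, 1]), (79, [0, 2, 1, 0, 2, 1, 2, 0, 1, 2, 0, 2, 0, 1, 2, 0, 1, 0, 2, 1, 2, 0, 2, 0, 2]), (85, [0, 1, 2, 0, 2, 0, 2, 0, 1, 0, 2, 1, 2, 0, 2, 1, 0, 1, 0, 2, 0, 1, 2, 1, 2, 1, 0, 2]), (86, [0, 2, 1, 2, 0, 2, 0, 1, 0, 2, 0, 2, 0, 1, 2, 0, 1, 2, 0, 2, 1, 2, 1, 2, 0]), (94, [2, 0, 2, 0, 1, 0, 2, 1, 0, 2, 1, 0, 1, 2, 0, 2, 1, 2, 1, 0, 1, 2, 0, 1, 2]), (107, [1, 2, 1, 2, 0, 2, 0, 1, 2, 1, 0, 2, 1, 0, 1,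 2, 0, 1, 2, 0, 2, 0, 1]), (110, [1, 2, 0, 1, 0, 2, 0, 1, 0, 1, 2, 0, 2, 1, 2, 0, 2, 1, 0, 2, 0, 1, 0, 2, 1, 2, 0]), (128, [0, 1, 0, 2, 0, 1, 0, 2, 0, 1, 2, 1, 2, 0, 2, 0, 2, 1, 2, 0, 1, 0, 2, 1, 2]), (129, [0, 1, 0, 2, 1, 2, 1, 0, 2, 1, 0, 2, 1, 2, 1, 0, 2, 1, 2, 1, 2, 1, 0, 2, 0, 2]), (135, [1, 2, 1, 0, 2, 1, 0, 2, 0, 2, 0, 1, 2, 1, 0, 2, 0, 1, 2, 1, 0]), (136, [2, 1, 0, 2, 1, 0, 2, 0, 2, 1, 2, 0, 1, 0, 1, 2, 0, 1, 2, 1, 0, 2]), (144, [0, 2, 1, 2, 1, 2, 0, 2, 1, 0, 2, 1, 0, 2, 0, 2, 0, 1, 0, 2, 0, 2, 1, 2, 0]), (153, [2, 0, 2, 0, 2, 1, 2, 1, 2, 0, 2, 1, 0, 1, 2, 0, 2, 0, 1, 0, 2, 1]), (155, [1, 2, 1, 0, 2, 1, 2, 0, 2, 0, 2, 0, 1, 2, 1, 0, 2, 1, 2, 1, 0, 2, 0,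 1, 2]), (156, [2, 0, 1, 0, 2, 1, 2, 1, 2, 0, 1, 2, 0, 2, 0, 2, 0, 2, 0, 2, 0, 2, 1, 2, 1]), (167, [1, 2, 0, 1, 2, 1, 2, 0, 2, 1, 2, 0, 2, 0, 2, 1, 2, 1]), (169, [1, 2, 1, 0, 1, 2, 1, 2, 0, 1, 2, 0, 1, 2, 0, 1, 0, 2, 0, 2, 1, 2, 0, 1, 2, 0]), (183, [1, 0, 1, 2, 0, 1, 2, 1, 0, 1, 2, 1, 0, 2, 1, 2, 0, 1, 2, 0, 2, 1, 0]), (184, [1, 0, 1, 2, 0, 1, 2, 0, 2, 0, 1, 0, 2, 1, 2, 0, 2, 0, 1, 2, 0, 2, 1, 0, 1]), (190, [1, 2, 1, 2, 0, 1, 0, 2, 0, 1, 0, 2, 0, 2, 1, 2, 1, 0, 1, 2, 0]), (195, [2, 1, 0, 1, 2, 1, 0, 2, 1, 0, 2, 1, 2, 0, 2, 0, 2, 1, 2, 0, 2, 0, 2]), (198, [0, 1, 2, 1, 2, 0, 2, 0, 1, 2, 1, 0, 2, 1, 2, 1, 0, 2, 0, 2, 0, 2, 0, 1, 2, 1]), (199, [2, 0, 1, 0, 2, 0, 2,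 1, 2, 1, 0, 1, 2, 0, 1, 2, 0, 2, 1, 0, 2, 1, 2]), (204, [2, 1, 2, 0, 1, 2, 1, 0, 2, 0, 1, 2, 0, 2, 0, 2, 1, 2, 1, 0, 2, 1, 2, 0]), (205, [0, 1, 2, 1, 0, 1, 2, 0, 1, 2, 0, 1, 0, 1, 2, 0, 1, 2, 0]), (211, [2, 1, 2, 1, 2, 0, 2, 0, 1, 2, 0, 2, 1, 0, 2, 0, 1, 2, 1, 0, 2, 0, 2, 0, 2, 0]), (213, [1, 2, 0, 2, 1, 0, 2, 0, 2, 0, 2, 1, 2, 0, 1, 2, 0, 1, 2, 1, 0, 2, 1, 2]), (225, [1, 0, 1, 2, 0, 2, 0, 2, 0, 1, 0, 2, 1, 2, 1, 2, 1, 0, 1, 0, 2, 0, 2, 1]), (226, [0, 2, 1, 2, 0, 2, 0, 2, 0, 2, 0, 2, 1, 2, 1, 0, 1, 2, 0, 1, 2, 1, 2, 0, 1]), (237, [1, 2, 1, 2, 0, 1, 0, 2, 1, 0, 2, 1, 0, 1, 2, 0, 1, 2, 0, 2, 1, 2, 0]), (238, [0, 2, 1, 0, 2, 0, 1, 0, 1, 2, 1, 0, 2, 1, 0, 1, 2, 1,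 0]), (239, [1, 0, 2, 1, 2, 1, 0, 2, 1, 0, 1, 2, 1, 2, 0, 2, 0, 2, 0, 2, 0, 2, 1, 2, 0]), (244, [0, 1, 2, 1, 2, 1, 0, 1, 2, 1, 0, 2, 1, 2, 0, 1, 2, 1, 0, 1, 0, 2, 1, 2, 0, 2]), (253, [0, 2, 1, 0, 2, 0, 2, 0, 2, 1, 0, 1, 2, 1, 0, 1, 0, 2, 0, 2, 0, 2]), (255, [2, 1, 0, 1, 2, 0, 1, 2, 1, 0, 2, 0, 2, 1, 0, 2, 1, 0, 1, 2, 1, 0, 1, 2, 0]), (256, [2, 1, 0, 2, 1, 2, 0, 1, 2, 1, 0, 2, 0, 2, 1, 0, 2, 1, 2, 1, 2, 0, 2, 1, 0, 2]), (267, [2, 1, 0, 2, 0, 1, 2, 1, 2, 1, 0, 2, 0, 1, 2]), (269, [2, 1, 0, 2, 0, 1, 0, 1, 2, 1, 0, 2, 0, 2, 0, 2, 1, 2, 0, 1, 2, 1]), (279, [0, 1, 0, 2, 1, 2, 0, 1, 0, 2, 1, 2, 0, 1, 2, 1, 2, 1, 0, 2, 0, 2, 1]), (282, [2, 0, 2, 0, 2, 1, 2, 0, 1, 0, 2,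 1, 0, 2, 0, 2, 1, 0, 2, 1, 2, 0, 1, 2, 0]), (300, [0, 1, 2, 0, 1, 0, 1, 2, 1, 0, 2, 1, 2, 1, 0, 2, 1, 0, 1, 2, 1, 0, 2, 0, 1]), (301, [1, 2, 1, 0, 1, 2, 0, 1, 2, 0, 1, 0, 2, 1, 2, 0, 2, 1, 2, 0]), (307, [1, 0, 2, 0, 2, 1, 0, 1, 2, 0, 1, 2, 0, 2, 1, 2, 1, 0, 2, 0, 1, 2, 0, 1]), (308, [2, 0, 1, 2, 1, 0, 2, 0, 1, 0, 2, 0, 1, 0, 2, 0, 2, 0, 2, 0, 1, 0, 2]), (317, [1, 2, 1, 2, 1, 2, 0, 1, 2, 0, 1, 0, 2, 0, 2, 1, 0, 2, 1, 2, 0, 1, 2, 1, 0, 2]), (322, [0, 1, 2, 1, 0, 1, 2, 1, 0, 2, 0, 2, 0, 2, 1, 0, 2, 1, 0, 2, 1, 2, 0, 1, 2, 0, 1]), (323, [1, 0, 1, 2, 0, 1, 2, 1, 0, 2, 1, 2, 0, 1, 2, 1, 2, 1, 0, 1, 2, 1, 0, 1, 0]), (329, [2, 1, 0, 1, 2, 0, 2, 1, 0, 2, 1, 2, 1, 2, 0,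 2, 1, 0, 2, 0, 1, 2, 0, 2]), (330, [2, 0, 1, 0, 2, 0, 2, 0, 2, 0, 1, 0, 2, 1, 2, 1, 2, 0, 2, 0, 1, 2, 0, 1, 2]), (338, [1, 2, 0, 2, 1, 2, 1, 0, 2, 0, 2, 0, 1, 0, 2, 0, 2, 1, 2, 0, 1, 2]), (380, [2, 0, 2, 1, 0, 2, 0, 1, 2, 0, 2, 1, 2, 1, 2, 0, 1, 2, 0, 2, 1, 0, 1, 2]), (382, [1, 2, 1, 0, 2, 1, 0, 2, 0, 2, 1, 0, 2, 1, 0, 2, 1, 0, 2, 1, 0, 2, 0, 1, 0]), (391, [0, 1, 2, 1, 2, 1, 2, 0, 2, 1, 0, 1, 2, 1, 2, 0, 2, 1, 2, 0, 1, 2, 1, 2, 1, 0]), (392, [1, 0, 2, 0, 1, 2, 0, 2, 1, 2, 0, 2, 1, 0, 1, 0, 2, 1, 0, 2, 0, 1, 2, 1, 2]), (394, [2, 1, 0, 1, 2, 0, 1, 0, 1, 2, 1, 2, 0, 1, 2, 1, 0, 2, 1, 2, 1, 0, 2, 0, 2, 1, 0]), (401, [2, 1, 2, 0, 2, 0, 2, 0, 1, 2, 0, 1, 2, 1, 2, 0,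 1, 2, 0, 2, 1, 0, 2, 1]), (406, [2, 1, 2, 0, 1, 0, 2, 0, 2, 0, 2, 1, 2, 0, 1, 0, 2, 1, 2, 1, 0, 1, 2, 1, 0, 2, 0]), (407, [2, 1, 2, 0, 2, 1, 0, 2, 1, 2, 0, 1, 0, 2, 0, 2, 0, 1, 2, 0, 1, 2, 0, 2]), (415, [1, 0, 2, 0, 1, 2, 1, 0, 1, 2, 0, 1, 0, 1, 2, 1, 0, 1, 2, 1, 0, 2, 0, 1]), (416, [2, 1, 0, 1, 2, 0, 2, 1, 0, 2, 0, 2, 1, 2, 0, 2, 0, 1, 0, 2, 1, 2, 0, 2]), (425, [2, 0, 2, 0, 1, 2, 1, 2, 1, 2, 0, 1, 2, 1, 2, 0, 1, 2, 0, 1, 2, 1, 2, 0, 1, 0]), (430, [0, 2, 1, 0, 1, 2, 1, 2, 0, 2, 0, 1, 0, 2, 0, 1, 0, 2, 1, 2, 1]), (437, [2, 1, 2, 0, 1, 0, 2, 1, 2, 0, 2, 0, 2, 1, 2, 1, 0, 2, 0, 1, 0, 2, 0, 1, 0]), (442, [0, 1, 2, 0, 2, 1, 2, 0, 1, 0, 2, 0, 2, 1, 2, 1, 2, 0, 1, 0,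 2, 1, 0, 2, 1, 0, 1]), (443, [2, 1, 2, 1, 2, 0, 2, 0, 2, 1, 0, 1, 2, 1, 0, 2, 1, 2, 1, 0, 1, 2, 0, 2, 1]), (449, [1, 2, 1, 0, 2, 1, 2, 0, 2, 0, 2, 0, 1, 2, 1, 0, 1, 0, 2, 0, 1, 2]), (450, [1, 0, 2, 1, 2, 0, 1, 0, 2, 0, 2, 0, 2, 1, 0, 2, 0, 2, 0, 1, 2, 1, 0, 2, 1, 2, 0]), (458, [1, 0, 2, 1, 2, 1, 2, 0, 2, 1, 0, 1, 2, 0, 2, 0, 1, 0, 2, 1, 2, 1, 0, 2, 0]), (500, [0, 2, 1, 2, 0, 1, 0, 2, 0, 1, 2, 0, 2, 1, 2, 0, 2, 1, 0, 1, 0, 2, 0, 1, 0, 2, 1]), (502, [2, 0, 2, 0, 2, 1, 2, 0, 2, 0, 2, 1, 2, 0, 1, 2, 0, 1, 2, 1, 0, 1, 2]), (511, [2, 0, 2, 1, 2, 0, 1, 0, 2, 0, 2, 1, 2, 0, 2, 0, 1, 2, 0, 2, 1, 0, 1, 2]), (512, [2, 0, 2, 0, 2, 0, 1, 0, 1, 2, 1, 0, 1, 2, 0, 2, 0, 2, 0,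 1, 2, 0]), (514, [1, 0, 2, 0, 2, 0, 1, 0, 2, 1, 2, 1, 2, 0, 2, 1, 2, 1, 2, 0, 1, 0, 2, 0, 2, 0, 1]), (521, [0, 1, 2, 1, 2, 0, 2, 0, 2, 1, 0, 1, 0, 2, 0, 1, 0, 2, 1, 2, 1, 2, 0, 2, 1, 2, 0]), (526, [2, 1, 0, 1, 2, 1, 0, 2, 0, 1, 2, 0, 2, 0, 2, 0, 1, 2, 1, 0, 1, 0]), (527, [2, 1, 0, 2, 1, 0, 1, 2, 1, 2, 0, 2, 1, 0, 1, 2, 0, 1, 2, 0, 1, 0, 2, 0, 2]), (535, [1, 2, 1, 2, 0, 2, 0, 2, 1, 2, 0, 2, 1, 2, 1, 0, 2, 1]), (536, [1, 2, 0, 2, 0, 2, 0, 1, 2, 1, 0, 2, 1, 0, 1, 2, 0, 1, 0, 2, 1]), (545, [0, 2, 1, 2, 0, 1, 2, 1, 0, 2, 0, 1, 0, 1, 2, 0, 1, 2, 0, 1, 2, 1, 0, 1, 0]), (550, [1, 0, 2, 0, 1, 0, 2, 0, 2, 0, 1, 0, 2, 0, 2, 1, 2, 0, 1, 2, 0, 1, 2, 0]), (557, [1, 0, 1, 2,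 1, 2, 0, 2, 1, 0, 2, 0, 2, 1, 2, 1, 0, 1, 2, 1, 2, 0, 2, 0, 2]), (562, []), (563, [0, 1, 0, 1, 2, 0, 1, 0, 2, 1, 2, 1, 0, 2, 0, 2, 0, 2, 1, 2, 0]), (569, [0, 1, 2, 0, 1, 0, 2, 0, 1, 2, 0, 2, 1, 2, 1, 0, 2, 0, 1, 0, 2, 1, 2, 0]), (570, [2, 0, 2, 0, 2, 1, 2, 1, 0, 1, 2, 1, 2, 0, 2, 0, 1, 2, 0, 2, 1, 2, 1, 0, 1]), (578, [0, 2, 1, 2, 1, 2, 0, 2, 0, 1, 2, 1, 2, 0, 2, 0, 2, 0, 2, 0, 2, 0, 1]), (620, [2, 1, 0, 2, 1, 2, 0, 2, 0, 1, 0, 2, 0, 2, 0, 1, 2, 1, 2, 0, 2, 1]), (622, [0, 2, 1, 2, 0, 2, 1, 0, 2, 1, 0, 1, 2, 0, 1, 2, 0, 1, 0, 2, 1, 2, 1]), (631, [1, 0, 2, 0, 2, 1, 0, 2, 1, 0, 1, 2, 0, 1, 2, 1, 0, 2, 0, 2, 1, 2, 1]), (632, [1, 2, 0, 2, 0, 1, 2, 1, 2, 1, 0, 2, 1,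 2, 0, 1, 0, 2, 1, 2, 0, 1, 0]), (634, [0, 2, 0, 2, 0, 2, 0, 2, 0, 1, 0, 2, 0, 2, 0, 1, 2, 0, 2, 0, 2, 0, 2, 0, 2, 0]), (641, [1, 2, 0, 1, 0, 2, 0, 2, 1, 0, 1, 2, 0, 2, 1, 2, 1, 2, 0, 2, 0, 2]), (646, [0, 2, 0, 1, 2, 0, 1, 0, 2, 0, 1, 0, 2, 1, 0, 2, 0, 2, 0, 2, 0, 2, 0, 1, 0]), (647, [1, 2, 0, 1, 0, 2, 1, 0, 1, 2, 0, 1, 2, 1, 0, 2, 0, 2, 0, 2, 1]), (655, [0, 1, 0, 2, 0, 2, 0, 2, 0, 2, 0, 1, 2, 0, 1, 0, 2, 0, 1, 0, 2, 1, 0, 2, 0]), (656, [0, 1, 0, 1, 2, 1, 0, 2, 1, 0, 2, 1, 0, 1, 0, 2, 0, 1, 2, 1, 0, 2, 1, 2, 0]), (665, [1, 0, 2, 0, 1, 0, 1, 2, 0, 1, 2, 1, 0, 2, 1, 0, 2, 1, 0, 2, 1, 0, 2, 1, 2, 0]), (670, [1, 2, 0, 2, 1, 2, 0, 2, 1, 0, 2, 1, 2, 0, 2, 0, 2, 1, 2,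 0, 2, 1, 2, 0, 1, 2])]⟩

/-- A level. -/
def sLev3 : Cos.RepSearch.RLev := ⟨274, (some 562), [(2, [1, 0, 1, 2, 0, 1, 2, 1, 2, 0, 1, 0, 2, 1, 0, 2, 0, 2, 1, 0, 2, 1, 0, 1]), (24, [2, 1, 0, 2, 0, 2, 0, 2, 1, 0, 2, 1, 2, 0, 1, 0, 2, 0, 2, 1, 0, 2, 0, 1, 0, 2, 0, 1, 2, 1]), (30, [2, 1, 2, 0, 2, 0, 1, 2, 1, 0, 1, 2, 1, 0, 2, 0, 2, 1, 2, 1, 0, 2, 0, 2, 1, 2]), (59, [0, 2, 0, 2, 0, 1, 0, 2, 0, 1, 2, 1, 0, 1, 2, 1, 2, 0, 2, 0, 1, 2, 1, 2, 0, 1, 2, 0]), (65, [0, 1, 2, 0, 2, 1, 0, 2, 0, 1, 0, 2, 0, 1, 2, 0, 1, 0, 2, 0, 2, 0, 1, 2, 0, 2, 1, 0]), (77, [1, 0, 1, 2, 0, 1, 2, 0, 1, 0, 2, 0, 2, 0, 1, 0, 1, 2, 0, 1, 0, 2, 1, 2, 1, 0, 2, 1, 0, 1]), (97, [2, 0, 1, 2, 0, 1, 2, 1,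 0, 1, 2, 0, 1, 0, 2, 1, 0, 1, 0, 2, 1, 0, 1, 0, 2, 0, 2, 1]), (111, [0, 1, 2, 0, 1, 0, 1, 2, 0, 1, 0, 2, 1, 0, 1, 2, 1, 0, 2, 1, 0, 2, 1, 2, 0, 2, 0, 1]), (121, [2, 0, 1, 0, 2, 1, 2, 0, 2, 0, 2, 1, 0, 2, 1, 0, 2, 1, 2, 0, 2, 0, 2, 0, 2, 0, 2, 1, 0]), (131, [0, 1, 0, 2, 0, 2, 1, 2, 0, 1, 2, 0, 1, 2, 0, 2, 0, 2, 1, 2, 0, 2, 0, 1, 0, 2, 1, 0, 2]), (148, [1, 0, 1, 2, 0, 1, 2, 0, 2, 1, 0, 2, 0, 2, 0, 1, 0, 2, 1, 0, 2, 1, 0, 1]), (158, [0, 1, 0, 2, 0, 2, 1, 0, 2, 1, 0, 2, 1, 2, 0, 2, 1, 2, 0, 1, 2, 0, 1, 0, 2, 0, 1, 0]), (209, [1, 0, 2, 0, 2, 1, 2, 0, 1, 2, 0, 1, 2, 1, 0, 1, 2, 0, 1, 0, 2, 1, 0, 1, 0, 2, 1, 0]), (264, [1, 2, 1, 0, 2, 0, 1, 2, 1, 2, 0, 2, 1, 2, 1, 0,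 2, 0, 2, 0, 2, 0, 2, 1, 2, 1, 2, 0, 1]), (274, []), (289, [1, 0, 1, 2, 0, 1, 2, 0, 1, 0, 2, 0, 2, 0, 1, 2, 0, 2, 1, 0, 2, 1, 0, 1]), (309, [1, 2, 0, 2, 1, 2, 0, 1, 2, 0, 1, 0, 2, 0, 2, 0, 1, 2, 0, 2, 1, 0, 2, 1, 2, 0, 2, 1]), (334, [0, 2, 1, 2, 0, 1, 2, 1, 2, 0, 2, 0, 2, 1, 0, 1, 0, 2, 1, 2, 0, 2, 0, 2, 0, 1, 2, 0, 2, 1]), (344, [2, 0, 2, 1, 0, 2, 0, 2, 0, 2, 1, 0, 2, 1, 2, 0, 1, 2, 0, 2, 0, 2, 0, 1, 2, 0, 2]), (362, [0, 1, 0, 2, 0, 2, 1, 0, 2, 0, 2, 1, 2, 0, 2, 1, 0, 2, 1, 0, 2, 1, 0, 2, 1, 2, 0, 2, 0, 2, 1]), (374, [2, 1, 2, 1, 0, 2, 0, 1, 0, 2, 0, 1, 2, 1, 2, 0, 1, 2, 0, 2, 0, 2, 1, 0]), (408, [0, 1, 2, 0, 2, 1, 0, 2, 1, 0, 1, 2, 0, 2, 0, 1, 2, 0, 1, 0, 2,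 0, 1, 2, 0, 2, 1, 0]), (441, [1, 2, 1, 0, 2, 0, 1, 0, 2, 0, 1, 2, 0, 2, 0, 1, 0, 2, 1, 2, 0, 1, 2, 0, 2, 0, 2, 0, 1, 2]), (461, [1, 0, 1, 2, 0, 2, 0, 1, 0, 2, 1, 2, 1, 2, 0, 2, 1, 2, 1, 2, 0, 1, 0, 2, 0, 2, 1, 0, 1]), (487, [2, 1, 2, 0, 2, 0, 1, 2, 1, 2, 0, 2, 0, 1, 2, 1, 0, 1, 2, 1, 0, 2, 0, 2, 1, 2]), (493, [2, 0, 2, 0, 1, 2, 1, 2, 0, 2, 1, 0, 1, 2, 0, 2, 1, 2, 1, 0, 2, 0, 2]), (498, [1, 0, 1, 2, 0, 1, 2, 0, 2, 0, 1, 2, 0, 1, 0, 2, 1, 2, 1, 0, 2, 1, 0, 1]), (554, [1, 2, 0, 1, 0, 1, 2, 1, 2, 0, 2, 0, 2, 1, 0, 2, 0, 2, 1, 2, 1, 0, 2, 0, 1, 2, 0, 2, 0, 2, 0]), (627, [0, 1, 0, 2, 0, 2, 0, 2, 0, 2, 0, 2, 1, 2, 0, 2, 1, 0, 2, 0, 1, 2, 0, 2, 1, 2, 0, 2, 1, 0]), (639,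 [1, 2, 0, 2, 1, 2, 0, 1, 2, 1, 2, 0, 1, 0, 2, 1, 0, 2, 0, 2, 1, 0, 2, 1, 2, 0, 2, 1]), (660, [0, 1, 2, 0, 2, 1, 0, 2, 0, 2, 0, 1, 0, 2, 1, 0, 2, 0, 1, 0, 2, 0, 1, 2, 0, 2, 1, 0]), (666, [2, 1, 0, 1, 2, 0, 1, 2, 1, 2, 1, 0, 1, 2, 0, 2, 1, 0, 1, 2, 0, 2, 0, 2, 1, 0, 2, 1, 0, 1, 0])]⟩

/-- A level. -/
def sLev4 : Cos.RepSearch.RLev := ⟨215, (some 274), [(215, []), (345, [0, 1, 2, 1, 2, 0, 2, 0, 2, 0, 2, 1, 2, 1, 0, 1, 2, 0, 1, 0, 2, 1, 0, 1, 0, 2, 0, 1, 0, 2, 1]), (356, [2, 1, 0, 1, 2, 0, 1, 2, 1, 2, 0, 1, 0, 1, 2, 1, 0, 1, 0, 2, 0, 2, 1, 0, 1, 2, 0, 2, 1, 0, 2, 1, 2, 1, 0]), (397, [1, 2, 1, 0, 2, 0, 1, 0, 2, 0, 2, 1, 2, 1, 2, 0, 1, 0, 2, 1, 0, 2, 1, 2, 1, 2, 0,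 2, 1, 0, 2, 0, 1, 0]), (432, [0, 1, 2, 1, 2, 0, 1, 2, 0, 2, 1, 0, 1, 2, 0, 2, 0, 1, 0, 1, 2, 1, 0, 1, 0, 2, 1, 2, 1, 0, 2, 1, 0, 1, 2]), (491, [1, 2, 0, 1, 0, 2, 0, 1, 0, 1, 2, 0, 1, 0, 2, 1, 0, 1, 2, 1, 2, 0, 2, 0, 2, 0, 2, 1, 2, 1, 0]), (542, [0, 1, 0, 2, 0, 1, 2, 0, 2, 1, 2, 1, 2, 0, 1, 2, 0, 1, 0, 2, 1, 2, 1, 2, 0, 2, 0, 1, 0, 2, 0, 1, 2, 1]), (559, [1, 2, 0, 1, 2, 0, 1, 0, 1, 2, 0, 2, 0, 1, 0, 1, 2, 1, 0, 2, 1, 0, 2, 0, 2, 1, 0, 1, 2, 0, 2, 0])]⟩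

/-- The levels. -/
def sLevels : List Cos.RepSearch.RLev := [sLev0, sLev1, sLev2, sLev3, sLev4]

end Cfsg.Agent.Spor.U62U43
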