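import Cfsg.Agent.Lib.Spor.Cos.RepSearch

/-! Representatives along a base for the search of a centraliser. -/

set_option autoImplicit false
set_option maxRecDepth 100000

namespace Cfsg.Agent.Spor.U62U43

/-- A level. -/
def tLev0 : Cos.RepSearch.RLev := ⟨609, none, [(0, [2, 0, 2, 1, 0, 2, 0, 1, 0, 2, 0]), (1, [0, 2, 0, 2, 0, 2, 1, 2, 1, 2, 0]), (2, [2, 1, 2, 1, 2, 1, 0]), (3, [0, 2, 1, 2, 0, 2, 0, 2, 0]), (4, [2, 1, 2, 1, 2, 0, 2, 1, 0]), (5, [2, 0, 2, 0, 2, 1, 2]), (6, [2, 1, 2, 1, 0, 2, 1, 2, 1, 0]), (7, [1, 2, 1, 0, 2, 1, 0]), (8, [2, 1, 2, 0, 1, 0, 2, 1, 2, 0]), (9, [0, 2, 1, 2, 1, 0, 1, 2, 1]), (10, [0, 2, 1, 2, 1, 2, 0, 2, 1]), (11, [2, 0, 1, 0, 2, 1, 0, 1]),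 (12, [1, 2, 0, 2, 1, 0, 2, 0, 1]), (13, [2, 1, 0, 2, 0, 2, 1, 0]), (14, [1, 0, 1, 2, 1, 0, 1, 2, 1]), (15, [0, 2, 0, 1, 2, 0]), (16, [1, 0, 2, 0, 2, 1]), (17, [1, 2, 0, 2, 0, 2, 0, 1, 2, 1]), (18, [2, 0, 2, 0, 1, 2, 1, 2, 1]), (19, [0, 1, 2, 0, 2, 0, 1, 2, 0, 2, 0]), (20, [1, 0, 1, 2, 1, 0, 1]), (21, [0, 2, 1, 0, 1, 2, 1, 0, 2, 1, 0, 1]), (22, [1, 0, 2, 1, 0, 2, 0, 2, 0, 1]), (23, [0, 2, 0, 2, 1, 0, 2, 0, 2, 0]), (24, [0, 2, 1, 0, 2, 1, 0]), (25, [1, 0, 1, 2, 0, 2, 1, 2, 1]), (26, [1, 0, 1, 2, 1, 2, 0, 2, 1]), (27, [0, 2, 0, 1, 2, 1]), (28, [1, 2, 1, 0, 2, 0, 1, 0, 2, 0]), (29, [0, 2, 0, 2, 1, 0]), (30, [1, 2, 0, 1, 2, 1]), (31, [2, 1]), (32, [1, 2, 0, 2, 0]), (33, [2,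 1, 2, 1, 0, 2, 1, 2, 0]), (34, [0, 2, 1, 2]), (35, [0, 1, 2, 0]), (36, [1, 2, 0, 1, 2, 0, 1, 2, 0]), (37, [0, 2, 0, 2, 1, 0, 1, 0, 2, 1]), (38, [2, 1, 2, 0, 2, 0, 1, 2, 0, 2, 0]), (39, [2, 0, 2, 1, 2, 1, 0, 2, 1, 0]), (40, [2, 0, 1, 2, 1, 0, 1, 2, 0, 1]), (41, [1, 2, 0, 1, 2, 0, 2, 1, 0, 1]), (42, [1, 2, 1, 2, 0, 1, 2, 1]), (43, [1, 0, 2, 1, 0, 1, 2, 1, 0, 1]), (44, [0, 1, 2, 1, 2, 0, 1]), (45, [2, 1, 0, 2, 1, 0, 2, 1, 0]), (46, [1, 0]), (47, [2, 1, 2, 1, 2, 0, 2, 0, 2, 1]), (48, [2, 0, 1, 2, 0, 2, 1, 2, 1, 0]), (49, [2, 1, 0, 1, 2, 1]), (50, [2, 1, 2, 0, 2, 1]), (51, [1, 0, 2, 1, 2, 0]), (52, [2, 0, 1, 0, 2, 0, 1]), (53, [1, 0, 1, 2, 1, 0, 2, 1, 0, 1]), (54, [2, 0,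 2, 1, 0, 2, 0, 1]), (55, [1, 0, 1, 2, 0, 2, 1, 2, 0, 2, 1, 0]), (56, [1, 2, 0, 2, 1, 2, 1, 2, 0]), (57, [2, 0, 2, 1, 2, 0, 2, 0, 2, 1]), (58, [2, 1, 2, 1, 2, 0, 2, 1, 0, 1]), (59, [1, 0, 1, 0, 2, 1, 0]), (60, [1, 0, 2, 1, 0, 2, 0, 1, 0, 2, 0]), (61, [0, 1, 0, 2, 0, 2, 1, 0]), (62, [1, 2, 0, 2, 0, 2, 1, 0]), (63, [0, 1, 2, 0, 2, 0, 1, 2, 0]), (64, [1, 0, 1, 2, 1, 0, 2, 1, 2, 1, 0]), (65, [2, 0, 2, 0, 2, 1, 0, 1]), (66, [2, 1, 2, 0, 2, 1, 0, 2, 1, 0]), (67, [0, 2, 0, 2, 0, 2, 0, 1, 2, 0]), (68, [0, 1, 2, 0, 1, 2, 0, 1]), (69, [0, 2, 0, 2, 1, 0, 1, 2, 0]), (70, [2, 0, 2, 1, 2, 0, 2, 1, 0, 1]), (71, [1, 2, 0, 2, 0, 2, 1]), (72, [1, 2, 1, 2, 0, 2, 1, 0, 2, 1, 0]), (73, [1,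 2, 1, 2, 1, 0]), (74, [2, 0, 2, 0, 2, 0]), (75, [1, 2, 0, 2, 0, 1, 2, 1, 2, 1]), (76, [1, 2, 0, 1, 0, 2, 1, 0]), (77, [1, 2, 0, 1, 2, 1, 0, 1, 0, 2, 0]), (78, [0, 1, 2, 1, 0, 2, 1]), (79, [1, 0, 2, 1]), (80, [0, 2, 1, 0, 1, 2, 1, 2, 1]), (81, [2, 1, 2, 0, 2, 0]), (82, [0, 2, 1, 0, 2, 1, 0, 2, 1]), (83, [0, 2, 0, 2, 1, 0, 1]), (84, [0, 1, 2, 1, 0, 2, 1, 2, 0, 1]), (85, [1, 2, 0, 1, 2, 0, 2, 1, 2, 1, 0]), (86, [2, 1, 0, 2, 1, 0, 1, 2, 0, 1]), (87, [1, 0, 1, 2, 0, 2, 0, 2, 0]), (88, [1, 0, 2, 0, 1, 2, 1, 0]), (89, [2, 0, 2, 1, 2, 1, 0, 2, 1]), (90, [0, 2, 0, 2, 0, 1, 2, 1]), (91, [2, 1, 0, 1, 0, 2, 1, 0]), (92, [2, 1, 0, 1, 2, 1, 2, 0, 2, 1]), (93, [2, 1, 2, 1, 0, 1, 0,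 2, 1]), (94, [2, 1, 2, 0, 1, 2, 0, 1, 2, 1, 0]), (95, [1, 2, 1, 2, 1, 0, 2, 0, 2, 1]), (96, [2, 0, 2, 1, 2, 0]), (97, [1, 2, 1, 0, 2, 1, 0, 2, 1]), (98, [1, 2, 0, 1, 2, 1, 0]), (99, [1, 2, 1, 0, 1]), (100, [2, 1, 0, 2, 1, 0, 2, 0, 1]), (101, [1, 0, 1, 0, 2, 1, 0, 1]), (102, [2, 1, 0, 1, 2, 1, 0, 2, 1, 0, 1]), (103, [1, 2, 0, 2, 0, 1, 2, 0, 2, 0]), (104, [0, 1, 2, 1, 0, 2, 1, 0]), (105, [0, 2, 1, 2, 0, 1, 0, 2, 1, 2, 0]), (106, [2, 1, 2, 1, 0, 2, 0, 2, 1]), (107, [1, 2, 1, 2, 0, 2, 0, 2, 1, 0]), (108, [0, 2, 1, 0, 2, 0, 1, 0, 2, 0]), (109, [0, 1, 0, 2, 1, 2, 1]), (110, [1, 2, 1, 2, 0, 2, 1, 2, 1]), (111, [2, 1, 0, 2, 0, 1, 0, 2, 0, 1]), (112, [1, 2, 1, 0, 2, 0, 2, 0]),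 (113, [2, 1, 2, 1, 0, 2, 1, 2]), (114, [0, 1, 0, 2, 0, 1, 2, 0, 2, 0]), (115, [0, 2, 0, 2, 0, 2, 0, 2, 1]), (116, [2, 1, 0, 2, 1, 0, 1, 2, 1, 0, 1]), (117, [1, 0, 2, 0, 2, 0]), (118, [0, 1, 2, 1, 0, 1, 2, 1]), (119, [0, 2, 0, 2, 1, 2, 1, 0]), (120, [0, 1]), (121, [0, 1, 2, 1, 0, 2, 1, 2, 1, 0]), (122, [1, 2, 1, 0, 2, 1, 0, 1]), (123, [1, 0, 2, 1, 0, 2, 0, 2, 1, 0]), (124, [2, 1, 2, 1, 2, 0, 1, 2, 1]), (125, [2, 1, 0, 2, 0, 2, 1]), (126, [0, 2, 1, 2, 1, 0, 1]), (127, [2, 0, 2, 0, 2, 0, 2, 1]), (128, [2, 0, 2, 1, 2, 0, 1, 2, 0, 2, 0]), (129, [1, 0, 2, 0, 1, 2, 0, 2, 0]), (130, [2, 1, 0, 1, 2, 1, 0]), (131, [2, 1, 2, 0, 2, 1, 2, 1, 0, 2, 0]), (132, [2, 1, 0, 2, 1, 2, 0,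 2, 0, 2, 1]), (133, [1, 2, 1, 0, 1, 2, 0]), (134, [1, 0, 2, 1, 2, 1, 2, 0, 1]), (135, [1, 2, 1, 0, 2, 0, 2, 0, 1]), (136, [0, 2, 0, 1, 2, 1, 2, 1]), (137, [2, 1, 2, 0, 2, 1, 2, 0, 2, 0]), (138, [2, 0, 1, 2, 0, 2, 1, 0, 1]), (139, [0, 2, 1, 0, 2, 1, 0, 1]), (140, [2, 0, 2, 1, 2, 1, 0, 1]), (141, [2, 0, 2, 0, 2, 0, 2, 0, 2, 1]), (142, [0, 1, 0, 2, 0, 1, 0, 2, 0]), (143, [2, 0]), (144, [2, 1, 2, 1, 2, 0]), (145, [0, 2, 0, 2, 0, 2, 0]), (146, [1, 2, 1, 0, 1, 0, 2, 1]), (147, [2, 1, 2, 0, 1, 2, 1, 2, 0]), (148, [2, 0, 2, 1, 0]), (149, [0, 1, 2, 0, 1, 2, 1]), (150, [2, 1, 2, 1]), (151, [1, 2, 1, 0]), (152, [1, 2, 0, 2, 1, 2, 1]), (153, [2, 1, 2, 1, 0, 1, 2, 0, 1]), (154, [1,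 2, 1, 2, 0, 1, 2, 1, 2, 0]), (155, [1, 2, 1, 0, 1, 0, 2, 0]), (156, [1, 0, 2, 1, 2, 1, 0, 2, 1, 0]), (157, [2, 1, 2, 1, 2, 1, 0, 2, 1, 0]), (158, [1, 0, 1, 0, 2, 0, 1, 2, 0, 1]), (159, [0, 1, 2, 1, 2, 0, 2, 1, 0]), (160, [1, 2, 1, 2, 0, 2, 0, 2, 1, 2]), (161, [1, 0, 2, 1, 0, 1, 2, 1, 0]), (162, [2, 0, 2, 1, 0, 2, 1, 2, 0, 1]), (163, [1, 0, 2, 1, 2, 1, 0, 2, 1]), (164, [2, 1, 2, 1, 0, 1, 0, 2, 0, 1, 2, 0]), (165, [0, 1, 2, 1, 2, 0]), (166, [1, 2, 0, 2, 1, 0, 1, 2, 0]), (167, [0, 2, 0, 2, 1, 2, 1, 2, 0]), (168, [0, 1, 0, 2, 0, 2, 0, 1]), (169, [0, 2, 1, 0, 2, 1, 2]), (170, [1, 2, 0, 2, 0, 1, 2, 0]), (171, [1, 2, 0, 1, 0, 2, 1, 0, 2, 0, 1]), (172, [0, 1, 2, 0, 2, 0, 2,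 1, 0]), (173, [2, 1, 0, 2, 0, 1, 2, 0]), (174, [2, 0, 1, 0, 2, 0, 1, 2, 0, 1]), (175, [0, 1, 2, 1, 0, 1, 0, 2, 1, 0]), (176, [0]), (177, [2, 1, 0, 1, 2, 1, 2, 0, 2, 1, 0]), (178, [0, 1, 2, 0, 2, 0, 2, 0]), (179, [1, 0, 1, 0, 2, 0, 2, 0]), (180, [1, 2, 0, 2, 1, 2, 0, 2, 1, 0]), (181, [0, 1, 0, 2, 0]), (182, [1, 2, 1, 2, 1, 0, 2, 1, 2, 0]), (183, [2, 1, 0, 1, 2, 1, 2, 1]), (184, [1, 2, 1, 0, 2, 1]), (185, [0, 1, 0, 2, 1]), (186, [2, 0, 1, 0, 2, 1, 2, 1]), (187, [0, 1, 2, 1, 0, 2, 0, 2, 1, 2]), (188, [1, 2, 0, 1, 0, 2, 0, 2, 0]), (189, [2, 1, 0, 2, 0, 1, 2, 0, 1]), (190, [0, 1, 2, 1, 2, 0, 1, 2, 0]), (191, [2, 0, 2, 1, 0, 1, 2, 0, 1]), (192, [1, 0, 2, 1, 2, 1, 2, 1]), (193,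 [2, 1, 2, 1, 2, 0, 2, 1, 0, 2, 1, 0]), (194, [1, 2, 1, 2, 0]), (195, [0, 2, 1, 2, 1, 2]), (196, [1, 2, 0, 2, 0, 2, 0, 1, 2, 0]), (197, [2, 1, 0, 1, 2, 0, 2, 1, 2, 1, 0]), (198, [2, 0, 2, 0, 2, 0, 2, 0]), (199, [2, 1, 2, 0, 2, 0, 2, 1]), (200, [0, 1, 2, 1, 0, 1, 2, 0, 1]), (201, [2, 0, 1, 0, 2, 1, 2, 0]), (202, [0, 2, 0, 2, 0, 2, 1, 0, 1]), (203, [0, 2, 0, 1]), (204, [2, 1, 2, 1, 2, 0, 2, 1]), (205, [1, 2, 0, 2, 0, 2, 0, 2, 0]), (206, [2, 1, 2, 1, 0, 1, 2, 1]), (207, [1, 2, 1, 2, 0, 1, 2, 1, 0]), (208, [2, 0, 2, 1, 0, 2, 1, 2]), (209, [0, 2, 1, 0, 1]), (210, [2, 0, 2, 0, 2, 1, 2, 1, 0, 1]), (211, [0, 2, 0, 2, 0, 1, 2, 0, 2, 0]), (212, [2, 0, 2, 0, 1]), (213, [1, 2, 0,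 2, 0, 1, 2, 0, 1]), (214, [2, 0, 2, 1, 0, 2, 1, 0, 1]), (215, [1, 2, 1, 0, 2, 1, 2, 1, 0]), (216, [0, 1, 2, 1, 0, 2, 1, 0, 1]), (217, [0, 2, 0, 2, 1]), (218, [1, 2, 1, 0, 1, 0, 2, 0, 2, 1, 0]), (219, [0, 2, 1, 0, 1, 2, 0]), (220, [1, 0, 2, 0, 2, 0, 1, 2, 1]), (221, [2, 0, 1, 2, 0, 2, 1, 2, 0, 1]), (222, [2, 1, 0, 1, 2, 0]), (223, [2, 0, 2, 1]), (224, [1, 0, 2, 0, 1, 0, 2, 0, 2, 0, 1]), (225, [1, 0, 2, 1, 0, 2, 0, 1]), (226, [1, 2, 1]), (227, [1, 2, 1, 0, 1, 2, 1]), (228, [2, 0, 2, 1, 2, 1, 0]), (229, [0, 1, 0, 2, 0, 2, 0]), (230, [1, 0, 2, 0, 2, 1, 0, 2, 0, 2, 0]), (231, [1, 0, 2, 0, 2, 0, 2, 1]), (232, [0, 1, 2, 1, 0, 2, 0, 2, 0, 1]), (233, [2, 0, 1, 2, 1, 2, 1]), (234,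 [1, 2, 1, 0, 1, 0, 2, 0, 1, 2, 0]), (235, [2, 1, 2, 0, 2, 0, 1, 2, 1, 2, 1]), (236, [1, 2, 1, 2, 0, 1, 2, 0, 1, 2, 1, 0]), (237, [1, 0, 1, 2, 1, 0, 2, 1, 0]), (238, [2, 0, 1, 2, 0, 1, 2, 1, 0]), (239, [1, 2, 0, 2, 1, 0, 1]), (240, [0, 2, 1, 2, 1, 0, 1, 0, 2, 0, 1]), (241, [2, 1, 2, 0, 1]), (242, [2, 1, 2, 1, 0, 2, 1, 2, 1]), (243, [2, 1, 0, 2, 1, 2, 1, 0, 2, 0]), (244, [2, 1, 2, 1, 2, 1, 0, 1]), (245, [1, 2, 0, 1, 2, 1, 2, 0]), (246, [0, 2, 1, 2, 1, 2, 0]), (247, [2, 0, 2, 0, 2, 1, 2, 0]), (248, [1, 2, 1, 0, 2, 0, 2, 1, 0]), (249, [0, 2, 1, 2, 1, 0, 2, 0]), (250, [1, 0, 2, 0]), (251, [2, 0, 2, 0, 2, 0, 2, 1, 0, 1]), (252, [0, 1, 2, 0, 2, 1, 2, 0, 2, 1, 0]), (253, [2,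 1, 0, 2, 0, 2, 0]), (254, [0, 2, 1, 2, 0, 1, 2, 0]), (255, [2, 1, 2, 1, 0, 1, 2, 0]), (256, [2, 0, 1, 2, 0, 1, 2, 0]), (257, [0, 2, 1, 0, 1, 2, 1]), (258, [1, 0, 2, 0, 2, 1, 0, 1, 2, 0]), (259, [1, 2, 1, 0, 1, 2, 1, 0, 2, 1, 0]), (260, [1, 0, 1, 0, 2, 1, 0, 2, 0, 2, 0]), (261, [2, 1, 2, 1, 2, 1]), (262, [1, 0, 1]), (263, [2, 0, 2, 0, 2, 1, 0]), (264, [2, 0, 1, 2, 1, 0, 2, 1]), (265, [0, 1, 0, 2, 1, 0, 1, 2, 1]), (266, [0, 1, 2, 0, 2, 1, 2, 0, 1]), (267, [2, 1, 0, 2, 0, 1, 2, 1]), (268, [0, 2, 1, 0, 1, 2, 1, 0, 1]), (269, [1, 0, 1, 0, 2, 1]), (270, [0, 1, 2, 1, 0, 2, 1, 2, 0]), (271, [1, 2, 0, 2, 0, 1, 0, 2, 1]), (272, [2, 0, 2, 0]), (273, [1, 2, 1, 2, 1, 0, 1, 0, 2,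 1]), (274, [1, 0, 2, 1, 0, 1, 2, 0, 1]), (275, [1, 2, 0, 2, 1]), (276, [1, 0, 1, 2, 0, 1]), (277, [1, 0, 1, 2, 0, 1, 2, 0]), (278, [2, 0, 2, 1, 0, 1, 2, 1]), (279, [1, 2, 1, 0, 2, 1, 2, 0, 1]), (280, [0, 2, 1, 0, 1, 0, 2, 0, 1]), (281, [2, 1, 0, 2, 1, 2, 1]), (282, [2, 0, 2, 1, 2, 1]), (283, [0, 2, 1, 2, 0, 1, 2, 0, 2, 0]), (284, [1, 0, 1, 2, 0, 1, 2, 1]), (285, [1, 0, 2, 0, 1, 0, 2, 0, 1]), (286, [2, 0, 2, 1, 2, 0, 1]), (287, [2, 0, 1, 0, 2, 1]), (288, [2, 1, 2, 1, 2, 0, 2, 0, 1, 2, 0]), (289, [2, 1, 0, 1, 0, 2, 0]), (290, [0, 1, 0, 2, 1, 2, 0]), (291, [0, 2, 0, 1, 0, 2, 0, 1]), (292, [2, 0, 1, 0, 2, 1, 0, 2, 0, 1]), (293, [2, 1, 2, 0, 1, 2, 0, 1, 2, 0]), (294, [0,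 2, 1, 2, 1, 0, 2, 1]), (295, [1, 0, 1, 2, 0, 2, 1, 0]), (296, [1, 2, 1, 0, 2, 1, 2, 1]), (297, [2, 1, 2]), (298, [1, 2, 0]), (299, [1, 2, 0, 2, 0, 2, 1, 2]), (300, [2, 1, 0, 2, 1, 2, 1, 0, 1]), (301, [1, 0, 2, 1, 0, 2, 1, 2, 0]), (302, [2, 1, 2, 0, 2, 0, 2, 1, 2]), (303, [1, 2, 1, 0, 1, 2, 0, 1]), (304, [0, 2, 0, 2, 0, 2, 0, 2, 0]), (305, [0, 2, 1, 2, 0, 2, 0, 2, 1]), (306, [0, 2, 1, 0, 2, 1]), (307, [2, 1, 0, 2, 1, 2, 0, 1]), (308, [1, 0, 2, 0, 2, 0, 2, 0]), (309, [0, 1, 0, 2, 1, 2, 0, 2, 0]), (310, [2, 1, 2, 0, 2, 1, 0, 2, 1, 2]), (311, [2, 1, 0, 1, 2, 1, 0, 2, 0]), (312, [0, 1, 0, 2, 1, 0, 2, 1, 2]), (313, [0, 2, 0, 1, 2, 1, 0, 2, 0]), (314, [2, 1, 0, 1, 0, 2, 1]),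 (315, [1, 2, 0, 2, 1, 2, 0, 1]), (316, [2, 0, 2, 0, 1, 2, 1, 2, 0, 1]), (317, [1, 2, 0, 1, 0, 2, 1]), (318, [0, 1, 2, 1, 0, 1, 0, 2, 1]), (319, [2, 0, 2, 0, 2, 1, 2, 1, 0]), (320, [0, 2, 0, 2, 1, 2]), (321, [1, 0, 2, 1, 2, 0, 2, 0, 2, 1]), (322, [1, 2, 1, 0, 2, 0, 2, 1, 2]), (323, [1, 0, 1, 2, 0, 2, 1, 2, 1, 0]), (324, [1, 2, 0, 2, 1, 0, 1, 2, 1]), (325, [0, 1, 0, 2, 0, 1, 2, 0]), (326, [1, 0, 1, 2, 1, 2, 0, 2, 1, 0]), (327, [0, 2, 1, 0, 2, 1, 2, 0]), (328, [1, 0, 2, 1, 0, 2, 1, 2, 1, 0]), (329, [1, 2, 1, 2, 1, 0, 2, 1, 2, 1, 0]), (330, [0, 1, 2, 0, 2, 1, 2, 1, 2, 0]), (331, [0, 2, 0, 2, 1, 2, 0, 2, 0, 2, 1]), (332, [0, 1, 2, 0, 1, 2, 0]), (333, [1, 0, 1, 0, 2, 0, 2,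 0, 1, 2, 0]), (334, [2, 0, 2, 1, 2, 1, 2, 0, 1]), (335, [2, 1, 0, 1, 2, 0, 1]), (336, [1, 2, 1, 0, 2, 0, 1, 2, 0]), (337, [2, 1, 0, 2, 0, 1, 0, 2, 1, 0]), (338, [1, 0, 1, 2, 1, 0, 2, 0]), (339, [0, 1, 0, 2, 0, 1, 2, 0, 1]), (340, [0, 1, 2, 0, 2, 0, 2, 1, 0, 1]), (341, [0, 1, 0, 2, 0, 1]), (342, [0, 1, 2, 1, 0, 1, 2, 1, 0]), (343, [0, 1, 2, 0, 1]), (344, [1, 0, 2, 1, 2, 1, 0]), (345, [2, 0, 2, 1, 0, 2, 0, 2, 0]), (346, [2, 1, 0, 2, 1, 0]), (347, [2, 0, 1, 0, 2, 1, 0, 2, 1, 2]), (348, [1, 2, 1, 0, 2, 0]), (349, [0, 1, 2, 1, 0, 1]), (350, [2, 1, 0, 1, 0, 2, 1, 2, 0]), (351, [0, 1, 2, 0, 1, 2, 1, 0]), (352, [2, 1, 2, 1, 0, 2, 0, 1, 2, 0]), (353, [1, 2, 0, 1, 2, 0, 2, 0]),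 (354, [2, 1, 0, 2, 0, 2, 1, 0, 1, 2, 0]), (355, [1, 2, 0, 2, 0, 2, 1, 2, 0]), (356, [0, 2, 0, 2, 0]), (357, [1, 2, 1, 0, 2, 1, 2, 0]), (358, [1, 2, 1, 0, 1, 0, 2, 0, 1]), (359, [2, 1, 2, 1, 0, 2, 1]), (360, [1, 0, 1, 0, 2, 0, 2, 1, 0]), (361, [1, 0, 2, 1, 0, 2, 0, 2, 0]), (362, [2, 0, 1, 2, 1, 0]), (363, [1, 0, 1, 2, 1, 0]), (364, [1, 2, 0, 1]), (365, [0, 1, 0, 2, 1, 2, 1, 0]), (366, [1, 2, 1, 0, 1, 2, 1, 0]), (367, [2, 0, 2, 1, 2, 0, 2, 1, 0]), (368, [2, 0, 1, 2, 1]), (369, [0, 2, 1, 0, 2, 0, 1]), (370, [0, 1, 2, 1, 0, 1, 0, 2, 0]), (371, [0, 2, 1, 2, 1, 0, 1, 2, 0, 1]), (372, [2, 0, 2, 1, 2, 1, 2, 0, 2, 1, 0]), (373, [1, 2, 0, 1, 2, 1, 2, 1, 0]), (374, [1, 0, 2, 1,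 2, 1, 0, 1]), (375, [1, 0, 1, 2, 0, 1, 2, 0, 2, 0]), (376, [1, 2, 0, 1, 2, 1, 0, 2, 0, 2, 0]), (377, [2, 0, 1, 0, 2, 1, 0]), (378, [2, 1, 0, 1, 0, 2, 0, 2, 1, 0]), (379, [1, 2, 1, 2, 0, 2, 0, 1, 2, 0]), (380, [1, 0, 1, 2, 1]), (381, [2, 0, 1, 2, 0, 1, 2, 0, 1]), (382, [2, 1, 0, 1, 2, 1, 0, 1]), (383, [2, 0, 1, 0, 2, 0, 1, 2, 0]), (384, [0, 1, 2, 1, 2, 1, 0, 2, 0, 2, 1]), (385, [0, 2, 0, 2, 1, 2, 0]), (386, [1, 0, 2, 0, 1]), (387, [1, 0, 2, 0, 1, 2, 0, 1]), (388, [1, 2, 0, 2, 0, 2, 1, 0, 1]), (389, [1, 0, 1, 2, 1, 0, 1, 0, 2, 0]), (390, [1, 2, 1, 0, 2, 0, 2, 1]), (391, [2, 1, 0, 2, 0, 1]), (392, [0, 2, 1, 2, 1]), (393, [0, 1, 2, 1, 0]), (394, [0, 1, 2, 0, 2, 1, 2, 1]),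 (395, [2, 1, 2, 0, 2, 1, 0, 1, 2, 1]), (396, [2, 0, 1, 2, 1, 2, 0, 1]), (397, [1, 2, 1, 2, 0, 1, 2, 0]), (398, [0, 2, 1, 0, 2, 1, 2, 1, 0, 1]), (399, [2, 1, 0, 1, 2, 1, 2, 1, 0]), (400, [0, 1, 2, 0, 2, 0, 2, 1, 2]), (401, [1, 0, 1, 2, 1, 0, 2, 1, 2, 0]), (402, [1, 0, 2, 0, 2, 1, 0]), (403, [1, 0, 1, 0, 2, 0]), (404, [2, 0, 2, 0, 2, 1, 2, 1, 2, 0]), (405, [2, 1, 2, 0, 1, 0, 2, 1]), (406, [0, 1, 0, 2, 1, 2, 0, 2, 1, 0]), (407, [1, 0, 2, 1, 2, 1, 0, 2, 0]), (408, [1, 0, 2, 1, 2, 0, 2, 1, 0]), (409, [0, 1, 0, 2, 1, 2, 1, 0, 2, 0]), (410, [2, 0, 1, 0, 2, 0, 2, 0]), (411, [1, 2, 0, 2, 1, 2]), (412, [2, 0, 1, 2, 1, 0, 1, 0, 2, 0]), (413, [2, 0, 2, 1, 0, 2, 1]), (414, [1, 2,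 0, 2, 1, 2, 0, 2, 0]), (415, [2, 1, 2, 1, 0, 2, 1, 0]), (416, [2, 1, 0, 2, 1, 0, 2, 0, 2, 1, 0]), (417, [0, 2, 0, 1, 0, 2, 0, 2, 0, 1]), (418, [2, 1, 0, 2, 0, 1, 0, 2, 0]), (419, [2, 0, 2, 0, 1, 0, 2, 1]), (420, [1, 0, 2, 0, 2, 0, 1, 2, 0]), (421, [2, 1, 2, 0, 1, 2, 1, 0]), (422, [2, 1, 2, 1, 0]), (423, [0, 1, 2, 1, 2, 0, 1, 2, 1, 0]), (424, [0, 2, 0, 2, 1, 2, 0, 2, 0]), (425, [2, 0, 1, 2, 1, 0, 1, 2, 1, 0]), (426, [2, 0, 1, 2, 1, 2, 0]), (427, [2, 1, 2, 0, 1, 0, 2, 1, 0]), (428, [2, 1, 2, 0, 2, 0, 2, 1, 0]), (429, [1, 0, 2, 1, 2, 1]), (430, [2, 1, 0, 1]), (431, [2, 1, 0, 2, 0, 2, 0, 2, 1]), (432, [2, 1, 2, 0, 1, 2, 1, 2, 1]), (433, [1, 2, 0, 2, 1, 2, 1, 0]), (434, [2,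 1, 2, 0, 2, 1, 0, 1]), (435, [0, 1, 2, 1, 2, 1, 0]), (436, [1, 2, 1, 2, 1, 0, 2, 1, 0]), (437, [1, 0, 1, 2, 1, 2, 0, 1]), (438, [2, 1, 0, 1, 0, 2, 0, 1]), (439, [2, 1, 2, 0, 2, 1, 2, 1, 0, 1]), (440, [1, 0, 1, 2, 1, 2, 1]), (441, [0, 1, 0, 2, 1, 0]), (442, [0, 2, 0, 2, 0, 2, 1]), (443, [0, 1, 0, 2, 1, 0, 1]), (444, [1, 2, 1, 0, 2, 1, 2]), (445, [1, 2, 1, 2, 0, 1]), (446, [0, 2, 1, 0, 2, 1, 0, 2, 1, 0]), (447, [2]), (448, [0, 1, 2, 0, 1, 0, 2, 1]), (449, [1, 0, 1, 2, 1, 2, 0, 1, 2, 1, 0]), (450, [0, 1, 2, 0, 1, 2, 0, 2, 0]), (451, [1, 0, 2, 0, 2, 1, 0, 1, 0, 2, 1]), (452, [2, 0, 1, 2, 0]), (453, [0, 2, 1, 0, 2, 0, 2, 1, 0]), (454, [1, 0, 1, 0, 2, 1, 0, 1, 2, 1]), (455,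 [1, 0, 2, 1, 0, 1, 0, 2, 1, 0]), (456, [0, 2, 0, 1, 0, 2, 1, 0]), (457, [1, 2, 1, 2, 1, 0, 1, 2, 1]), (458, [0, 2, 0]), (459, [1, 0, 1, 2, 0, 2, 0]), (460, [1, 2, 0, 2, 0, 1, 0, 2, 0, 1]), (461, [1, 2, 0, 2, 0, 2, 0]), (462, [2, 1, 2, 1, 0, 1, 0, 2, 0]), (463, [0, 2, 1, 2, 0]), (464, [2, 1, 2, 0, 2, 1, 2, 1, 2, 0]), (465, [2, 0, 1, 2, 0, 2, 0]), (466, [0, 2, 1, 2, 0, 2, 1, 0]), (467, [1, 2, 1, 0, 1, 2, 1, 0, 1]), (468, [0, 2, 1, 0]), (469, [0, 2, 1, 0, 2, 0, 2, 0]), (470, [2, 1, 2, 0, 1, 2, 0]), (471, [1, 0, 2, 0, 1, 2, 1]), (472, [0, 2, 1, 2, 0, 2, 0]), (473, [2, 1, 0, 2, 1, 0, 2, 1]), (474, [2, 0, 2, 1, 0, 1]), (475, [1, 0, 2, 1, 0, 2, 1, 0, 2, 1, 0]), (476, [2, 1,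 2, 1, 0, 1, 2, 1, 0]), (477, [2, 1, 2, 0]), (478, [1, 0, 1, 2, 0, 1, 2, 0, 1]), (479, [1, 2, 1, 2, 0, 2, 1, 0]), (480, [1, 2, 0, 2, 1, 2, 1, 0, 2, 0]), (481, [1, 0, 2, 0, 2, 0, 2, 1, 0, 1]), (482, [2, 1, 2, 1, 2]), (483, [1, 0, 2, 1, 2]), (484, [2, 1, 2, 0, 1, 2, 1]), (485, [2, 1, 0, 2, 1]), (486, [0, 2, 1, 0, 2, 1, 2, 0, 1]), (487, [0, 2, 1, 2, 0, 2, 1, 0, 2, 1, 0]), (488, [1, 0, 1, 0, 2, 1, 2, 1, 0]), (489, [0, 2, 1, 2, 1, 2, 0, 1]), (490, [1, 0, 2, 0, 1, 2, 0]), (491, [2, 1, 0, 1, 2, 0, 2, 0, 2, 0]), (492, [2, 1, 0, 2, 1, 2, 0]), (493, [2, 0, 1, 0, 2, 1, 2, 0, 2, 0]), (494, [1, 2, 1, 2, 1, 0, 1]), (495, [0, 2, 1]), (496, [1, 0, 2, 1, 0, 2, 1]), (497, [0, 2, 1, 0,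 2, 1, 0, 2, 0, 2, 1, 0]), (498, [0, 1, 2, 0, 2, 1, 2, 0, 2, 0]), (499, [0, 2, 1, 2, 1, 0, 2, 1, 0]), (500, [0, 2, 1, 2, 0, 1, 0, 2, 1, 0]), (501, [0, 2, 1, 2, 0, 2, 0, 2, 1, 0]), (502, [1, 0, 2, 1, 2, 0, 1]), (503, [0, 1, 0, 2, 0, 2, 0, 1, 2, 0]), (504, [2, 1, 0, 2, 0, 2, 1, 2]), (505, [0, 2, 1, 2, 1, 0]), (506, [1, 0, 1, 2, 1, 2, 0]), (507, [2, 0, 1, 0, 2, 0]), (508, [0, 1, 2, 0, 2, 1, 0]), (509, [0, 2, 1, 0, 2, 1, 2, 1, 0]), (510, [0, 1, 2, 1, 2, 0, 2, 1, 2, 1]), (511, [1, 0, 1, 2, 0, 2, 0, 2, 1, 0]), (512, [2, 1, 2, 0, 2, 0, 2, 0, 2, 0]), (513, [1, 0, 2, 0, 2, 1, 2]), (514, [1, 2, 1, 0, 2, 0, 1, 0, 2, 1, 0]), (515, [2, 1, 0, 2, 1, 0, 2, 0, 1, 0, 2, 0]), (516, [2,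 0, 1, 2, 0, 1]), (517, [0, 2, 1, 0, 1, 2, 1, 0]), (518, [1, 2, 0, 2, 1, 0]), (519, [1, 0, 1, 0, 2, 1, 2, 0]), (520, [0, 2, 0, 1, 0, 2, 0]), (521, [1]), (522, [1, 0, 2, 0, 1, 2, 1, 0, 2, 0]), (523, [1, 2, 1, 2, 1]), (524, [0, 2, 0, 2, 0, 1, 2, 0]), (525, [1, 0, 2, 1, 0, 1]), (526, [2, 1, 0, 1, 2, 1, 2, 0]), (527, [2, 0, 2, 0, 2, 1]), (528, [1, 0, 2, 1, 0, 1, 2, 1]), (529, [0, 2, 0, 2, 0, 2, 1, 0]), (530, [2, 0, 2, 1, 2, 1, 0, 2, 0]), (531, [1, 2, 1, 2, 0, 2, 0, 2, 1]), (532, [0, 2, 1, 0, 1, 0, 2, 1, 0]), (533, [0, 2, 1, 0, 1, 2, 1, 2, 0, 2, 1]), (534, [0, 2, 1, 0, 2, 0, 1, 0, 2, 1, 0]), (535, [0, 2, 1, 0, 1, 2, 0, 1]), (536, [1, 2, 0, 2, 0, 2, 0, 2, 1, 0]), (537, [2,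 0, 2, 1, 0, 1, 0, 2, 1]), (538, [1, 2, 1, 0, 1, 2, 1, 2, 1, 0]), (539, [0, 2, 0, 1, 2, 1, 0]), (540, [2, 0, 2, 1, 2, 1, 2, 0]), (541, [1, 0, 2, 0, 2, 0, 1]), (542, [2, 1, 0, 2, 1, 2]), (543, [2, 1, 2, 1, 2, 0, 1]), (544, [0, 2, 1, 0, 1, 0, 2, 0, 1, 2, 0]), (545, [1, 0, 2, 1, 0, 2, 1, 0]), (546, [0, 2, 0, 1, 0, 2, 1]), (547, [2, 0, 1, 2, 1, 2, 0, 2, 1, 2, 1]), (548, [2, 0, 2, 0, 1, 2, 0, 1]), (549, [2, 1, 0, 2, 0]), (550, [2, 0, 2, 0, 1, 0, 2, 0, 1]), (551, [2, 1, 0, 1, 2, 1, 0, 1, 2, 1]), (552, [2, 1, 2, 0, 2, 0, 2, 0]), (553, [0, 2, 1, 2, 1, 2, 0, 2, 1, 0]), (554, [0, 2, 0, 2, 0, 2, 1, 2]), (555, [1, 2, 1, 0, 2, 1, 0, 2, 1, 0]), (556, [2, 0, 2, 1, 2, 0, 2, 0]), (557,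 [2, 0, 1, 0, 2, 0, 2, 0, 1]), (558, [0, 2, 0, 1, 2, 0, 1]), (559, [2, 1, 2, 1, 2, 0, 1, 2, 0]), (560, [2, 0, 2, 1, 2, 1, 2]), (561, [2, 0, 2, 1, 0, 1, 0, 2, 0, 1, 2, 0]), (562, [2, 1, 0, 2, 1, 0, 1]), (563, [1, 2, 0, 1, 2, 1, 0, 2, 1]), (564, [0, 2, 0, 1, 2, 0, 2, 1, 0, 1]), (565, [0, 1, 2, 0, 2, 1, 0, 1]), (566, [1, 2, 0, 1, 0, 2, 1, 2, 0]), (567, [0, 2, 0, 1, 2, 0, 1, 2, 1, 0]), (568, [2, 1, 0, 2, 1, 2, 1, 0]), (569, [0, 1, 0, 2, 1, 0, 2, 0, 1]), (570, [0, 1, 2, 1]), (571, [2, 1, 0, 1, 0, 2, 0, 1, 2, 0, 2, 0]), (572, [1, 2, 1, 2, 0, 2, 1]), (573, [2, 0, 1, 0, 2, 0, 2, 0, 1, 2, 0]), (574, [2, 1, 0, 2, 1, 2, 0, 2, 1, 0]), (575, [2, 0, 2, 1, 0, 2, 1, 0]), (576, [2, 1,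 2, 1, 0, 1]), (577, [2, 1, 2, 0, 2, 1, 2, 1]), (578, [0, 1, 2, 1, 2, 1]), (579, [1, 2, 1, 2, 1, 0, 1, 2, 1, 0]), (580, [0, 1, 2, 1, 0, 2, 0, 2, 0]), (581, [0, 2, 1, 2, 1, 0, 2, 1, 2]), (582, [2, 0, 2, 0, 1, 2, 0, 2, 0]), (583, [0, 2, 0, 2, 0, 1]), (584, [1, 2, 0, 1, 2, 1, 2, 1]), (585, [2, 1, 0, 2, 1, 2, 1, 0, 2, 1]), (586, [1, 2, 1, 0, 2, 0, 2, 0, 2, 1]), (587, [0, 1, 2, 1, 2, 0, 2, 1]), (588, [1, 2, 1, 2]), (589, [0, 1, 2, 0, 2, 1, 2, 1, 0]), (590, [0, 2, 1, 2, 0, 2, 1, 0, 1]), (591, [1, 2, 0, 2, 1, 2, 1, 2, 0, 1]), (592, [1, 2, 0, 2, 1, 2, 1, 0, 1]), (593, [2, 1, 2, 1, 0, 1, 0, 2, 0, 1]), (594, [0, 2, 1, 2, 0, 1]), (595, [2, 0, 2, 0, 1, 2, 0, 2, 1, 0, 1]), (596, [1,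 2, 0, 1, 2, 0, 1]), (597, [2, 0, 2, 1, 0, 1, 2, 0]), (598, [0, 2, 1, 0, 1, 0, 2, 1]), (599, [1, 0, 2, 1, 0, 2, 1, 2]), (600, [2, 0, 1, 2, 1, 0, 2, 0]), (601, [0, 1, 2, 0, 2, 1, 0, 2, 0, 1]), (602, [2, 0, 2, 1, 0, 2, 0, 1, 0, 2, 1, 0]), (603, [0, 1, 2, 1, 0, 2, 0]), (604, [0, 2, 0, 2, 1, 2, 1, 0, 1]), (605, [1, 2, 1, 2, 1, 0, 1, 2, 0, 1]), (606, [1, 0, 2, 0, 1, 0, 2, 0]), (607, [2, 1, 0]), (608, [0, 1, 2, 1, 0, 1, 2, 1, 2, 0]), (609, []), (610, [1, 0, 1, 0, 2, 0, 1, 2, 0]), (611, [0, 2, 0, 2, 1, 0, 1, 2, 1]), (612, [1, 0, 1, 0, 2, 0, 1]), (613, [2, 0, 2, 0, 1, 2, 0]), (614, [2, 0, 2, 0, 2, 0, 1, 2, 0, 2, 0]), (615, [0, 1, 2, 1, 2, 0, 1, 0, 2, 1, 0]), (616, [1, 2, 1, 0,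 1, 2, 1, 2, 0]), (617, [1, 0, 2, 0, 1, 0, 2, 1, 0]), (618, [2, 1, 2, 1, 2, 1, 0, 1, 2, 0]), (619, [1, 0, 1, 2, 1, 0, 1, 2, 0, 1]), (620, [0, 2, 0, 1, 2, 0, 2, 0]), (621, [2, 1, 2, 0, 2, 1, 0]), (622, [2, 1, 0, 1, 2, 1, 0, 2, 1, 0]), (623, [2, 0, 1, 2, 1, 2, 1, 0]), (624, [2, 1, 2, 1, 0, 2, 0]), (625, [0, 2, 0, 2, 0, 2, 1, 2, 0]), (626, [1, 0, 2, 1, 2, 0, 2, 0]), (627, [2, 0, 2, 1, 2, 1, 2, 0, 2, 1]), (628, [1, 2, 0, 2, 0, 1, 2, 1]), (629, [0, 2, 1, 0, 2, 0, 2, 0, 1]), (630, [2, 1, 0, 1, 0, 2, 0, 1, 2, 0]), (631, [2, 0, 2, 0, 2, 0, 1, 2, 0]), (632, [2, 0, 2, 1, 2]), (633, [2, 0, 2, 0, 2, 0, 1, 2, 1]), (634, [2, 1, 2, 0, 2, 0, 1, 2, 0]), (635, [1, 0, 1, 0, 2, 0, 1, 2,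 0, 2, 0]), (636, [0, 1, 2, 0, 2, 0]), (637, [0, 2, 0, 1, 2, 1, 2, 0, 1]), (638, [2, 1, 2, 1, 2, 0, 1, 2, 1, 2, 0]), (639, [2, 1, 2, 1, 2, 1, 0, 2, 0, 2, 1]), (640, [1, 2, 1, 2, 0, 2, 1, 0, 1]), (641, [2, 1, 0, 2, 1, 0, 2, 1, 2, 0]), (642, [2, 0, 1, 2, 1, 0, 2, 1, 2, 0]), (643, [2, 1, 2, 1, 2, 0, 1, 2, 1, 0]), (644, [1, 2, 1, 2, 0, 1, 0, 2, 1, 0]), (645, [1, 0, 1, 2, 1, 0, 2, 0, 2, 0]), (646, [0, 2, 1, 2, 1, 2, 1]), (647, [1, 2]), (648, [1, 2, 0, 2, 1, 2, 0]), (649, [1, 2, 0, 1, 2, 0, 1, 2, 1, 0]), (650, [2, 0, 2, 0, 1, 2, 1]), (651, [1, 0, 2, 1, 0]), (652, [1, 2, 1, 0, 2, 1, 2, 1, 0, 2, 0]), (653, [1, 0, 1, 0, 2, 1, 2, 1]), (654, [0, 2, 0, 1, 0, 2, 0, 1, 2, 0, 1]), (655,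 [1, 2, 1, 0, 1, 0, 2, 1, 0]), (656, [2, 0, 2, 0, 2, 0, 2, 1, 0]), (657, [2, 1, 0, 2, 0, 2, 0, 1]), (658, [2, 0, 1]), (659, [1, 0, 1, 2, 1, 2, 1, 0]), (660, [2, 1, 0, 1, 2, 0, 1, 2, 0]), (661, [2, 1, 2, 0, 1, 2, 0, 2, 0]), (662, [1, 2, 1, 2, 1, 0, 1, 2, 0]), (663, [1, 0, 2, 1, 0, 1, 2, 1, 2, 1]), (664, [1, 2, 0, 2, 1, 0, 2, 1, 0]), (665, [2, 0, 1, 2, 1, 0, 2, 0, 2, 0]), (666, [1, 2, 0, 1, 2, 0]), (667, [1, 0, 1, 2, 0, 2, 0, 1, 2, 0]), (668, [2, 0, 2, 0, 1, 2, 1, 0, 2, 0]), (669, [1, 0, 1, 2, 0]), (670, [0, 1, 0, 2, 1, 0, 2, 0, 2, 0]), (671, [1, 2, 0, 2, 1, 0, 2, 1, 2])]⟩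

/-- A level. -/
def tLev1 : Cos.RepSearch.RLev := ⟨302, none, [(0, [2, 1, 0, 2, 0, 2, 0, 1, 0, 2, 0, 1, 0, 2, 1]), (6, [1, 2, 1, 0, 2, 1, 0, 2, 1, 0, 2, 0, 2, 0, 1, 2, 0, 1]), (7, [2, 1, 0, 2, 1, 0, 2, 0, 2, 0, 2, 1, 0, 1, 2]), (8, [2, 0, 1, 0, 2, 1, 0, 2, 1, 0, 2, 0, 2, 0, 2, 1, 0, 1, 2]), (19, [2, 0, 1, 2, 0, 2, 1, 2, 1, 2, 0, 2, 0, 1]), (20, [2, 1, 2, 1, 2, 0, 1, 2, 1, 2, 1, 0, 2, 1]), (21, [1, 0, 2, 0, 2, 0, 2, 0, 1, 2, 1, 0, 1]), (25, [2, 0, 2, 0, 2, 0, 1, 0, 2, 0, 1, 0, 2, 0, 1, 2, 0, 2]), (28, [2, 1, 0, 1, 2, 0, 2, 0, 2, 0, 1, 2, 1, 0, 1]), (29, [0, 1, 0, 2, 0, 1, 0, 2, 0, 1, 0, 2]), (30, [0, 1, 2, 0, 1, 0, 1, 2, 0, 2, 0, 2, 0, 2, 1, 0, 1, 2, 0]), (38, [1, 0,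 1, 2, 0, 2, 0, 1, 2, 0, 2, 0, 2, 1, 0, 2, 1, 2]), (41, [0, 2, 0, 2, 1, 2, 1, 2, 0, 2, 0, 1]), (42, [2, 1, 2, 1, 0, 1, 2, 1, 2, 0, 1, 0, 2]), (43, [2, 1, 0, 1, 2, 1, 0, 2, 1, 2, 0, 1, 2, 0, 2, 0, 2]), (55, [1, 2, 0, 2, 1, 2, 0, 2, 0, 1, 0, 1, 2, 1, 0, 2]), (60, [1, 2, 1, 2, 0, 1, 2, 0, 2, 0, 1, 2, 0, 1, 2, 1, 0, 2]), (62, [2, 1, 0, 2, 1, 0, 2, 0, 1, 2, 1, 2, 0, 2, 0]), (63, [1, 0, 2, 0, 1, 0, 2, 1, 2, 0, 1, 0, 2, 0, 1]), (64, [0, 2, 0, 1, 0, 2, 1, 2, 0, 1, 0, 2, 1, 0, 2]), (72, [0, 1, 0, 1, 2, 0, 2, 1, 0, 1, 2, 0, 2, 0, 1, 0, 1]), (74, [1, 2, 0, 1, 0, 2, 0, 2, 0, 2, 0, 2, 0, 1, 0, 2, 1, 0, 1, 0]), (85, [0, 1, 0, 1, 2, 1, 2, 0, 1, 2, 1, 2, 1, 0, 2, 1]), (86, [1, 0, 2,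 0, 2, 1, 2, 1, 2, 0, 2, 1, 0, 2]), (87, [1, 2, 0, 2, 0, 1, 0, 1, 2, 0, 2, 1]), (101, [1, 2, 1, 0, 2, 0, 1, 0, 2, 1, 0, 1, 2, 0, 2, 1, 0, 2, 1]), (102, [1, 0, 1, 2, 1, 0, 2, 0, 2, 0, 2, 0, 1, 2, 0, 1, 0]), (103, [1, 0, 2, 0, 1, 2, 1, 2, 1, 0, 2, 1, 0, 2, 0, 2, 0, 1, 0]), (104, [0, 1, 0, 2, 1, 0, 2, 0, 2, 1, 2, 1, 2, 0, 2, 0, 2, 0, 1, 0]), (105, [0, 2, 0, 1, 2, 0, 2, 1, 0, 2, 0, 2, 0, 1, 0]), (106, [0, 2, 0, 2, 1, 0, 1, 2, 1, 2, 0, 2, 0, 1, 0, 1]), (114, [1, 2, 0, 2, 0, 1, 0, 1, 2, 0, 2, 1, 2, 0, 1, 0]), (115, [0, 2, 0, 1, 0, 2, 1, 2, 0, 1, 0, 2, 0]), (116, [0, 2, 0, 1, 2, 0, 1, 2, 1, 2, 1, 0, 2, 1, 0, 1, 2]), (127, [2, 1, 0, 2, 1, 2, 0, 1, 0, 1, 2, 1, 2, 1, 0, 1]), (128,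 [1, 0, 2, 0, 2, 1, 2, 1, 2, 0, 2, 0]), (129, [0, 1, 2, 0, 2, 0, 1, 0, 2, 0, 1, 0, 2, 0, 1, 2, 0, 2]), (131, [0, 2, 1, 2, 0, 2, 1, 2, 0, 1, 0, 2, 0, 2, 1, 0]), (132, [2, 0, 1, 0, 2, 0, 1, 0, 2, 0, 1, 0]), (133, [1, 2, 0, 2, 0, 2, 1, 0, 1, 2, 1, 2, 1, 2, 0, 1]), (145, [0, 2, 0, 1, 2, 0, 2, 1, 0, 2, 1, 0, 2]), (147, [1, 0, 1, 2, 0, 2, 0, 1, 0, 2, 0, 1, 0, 2, 1]), (148, [2, 1, 0, 1, 2, 1, 2, 0, 1, 0, 2, 0, 1, 2, 1, 2, 0]), (149, [2, 1, 0, 2, 1, 0, 2, 0, 2, 0, 2, 0, 1]), (156, [1, 0, 1, 2, 1, 0, 2, 0, 2, 0, 2, 1, 0, 1, 2]), (170, [1, 0, 1, 2, 1, 0, 2, 0, 1, 2, 1, 2, 0, 2, 1, 0, 2]), (171, [1, 2, 0, 2, 1, 2, 0, 2, 1, 2, 1, 2, 0, 1, 0, 2, 0]), (172, [1, 0, 2, 0, 1, 2, 0, 2,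 0, 2, 0, 2, 0, 1, 0, 2, 0, 1]), (183, [2, 1, 2, 0, 2, 1, 0, 2, 1, 0, 1, 2, 0, 2, 0]), (184, [1, 2, 0, 1, 0, 2, 0, 2, 0, 2, 0, 2, 1, 0, 2, 1, 0, 1, 0]), (185, [0, 1, 0, 2, 1, 0, 2, 0, 2, 0, 2, 0, 1, 2, 0, 1, 2]), (189, [2, 1, 2, 0, 1, 0, 1, 2, 1, 0, 2, 1, 0, 1, 2, 0, 2, 0]), (192, [0, 2, 1, 0, 1, 2, 0, 1, 2, 1, 0, 2, 1, 2, 1, 2, 0, 2]), (193, [1, 2, 1, 2, 1, 0, 2, 1, 0, 1, 2, 0, 2, 0, 1, 2, 0, 1]), (194, [1, 0, 1, 2, 0, 1, 0, 1, 2, 1, 2, 0, 2, 1, 0, 1, 2, 0]), (202, [1, 2, 0, 1, 0, 2, 0, 1, 0, 2, 0, 2, 0, 1, 2, 0, 1, 0, 2]), (204, [1, 2, 0, 2, 1, 2, 0, 2, 0, 1, 0, 1, 2, 0]), (205, [0, 2, 0, 1, 0, 2, 1, 2, 0, 2, 0, 2, 1, 0, 2, 0]), (206, [0, 1, 2, 1, 0, 1, 2, 0, 2, 0,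 2, 0, 1, 0, 2, 1, 0]), (214, [1, 0, 2, 0, 2, 0, 2, 0, 1, 2, 1, 0, 1, 2, 0, 1, 0]), (215, [0, 2, 1, 0, 1, 2, 1, 2, 0, 1, 0, 2, 0, 1, 2, 1]), (216, [2, 1, 2, 0, 1, 2, 0, 2, 0, 2, 1, 0, 2, 0, 2, 1, 0, 1]), (227, [1, 0, 2, 1, 2, 0, 2, 1, 2, 0, 1, 2, 0, 1, 2, 1]), (228, [2, 1, 2, 1, 0, 2, 0, 2, 0, 2, 0, 2, 1, 2, 1, 2]), (229, [0, 1, 2, 0, 1, 0, 2, 0, 1, 0, 1, 2, 0, 1, 0, 2, 1, 0]), (231, [2, 0, 1, 2, 1, 2, 1, 2, 0, 1, 0, 2, 1, 0, 2, 1, 2, 1, 2]), (232, [1, 2, 0, 1, 0, 2, 0, 1, 0, 2, 0, 2, 1, 0, 1]), (233, [1, 0, 1, 2, 1, 0, 2, 0, 2, 0, 2, 0, 1]), (244, [1, 0, 1, 2, 1, 2, 0, 1, 0, 1, 2, 1, 2, 1, 0, 1]), (246, [0, 2, 0, 2, 1, 2, 1, 2, 0, 2, 1, 0, 1, 2]), (257, [1, 2, 0, 2,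 0, 1, 0, 1, 2, 0, 2, 0, 1, 0, 1, 2]), (258, [1, 2, 1, 0, 2, 0, 1, 2, 0, 2, 0, 1, 2, 0, 1, 2, 0, 1]), (259, [2, 1, 2, 0, 1, 0, 1, 2, 1, 2, 1, 0, 1, 2, 0, 2, 0]), (273, [2, 0, 1, 0, 2, 0, 1, 0]), (274, [1, 2, 1, 2, 0, 1, 2, 0, 2, 0, 1, 2, 0, 1, 2, 0]), (275, [1, 0, 2, 0, 1, 2, 0, 1, 2, 1, 2, 0, 1, 2, 1, 2, 0, 1]), (279, [0, 1, 0, 2]), (289, [1, 2, 0, 1, 2, 1, 2, 1, 0, 2, 1, 2, 1, 2]), (290, [2, 0, 2, 0, 1, 2, 0, 2, 0, 2, 1, 0, 2, 0, 2, 1]), (291, [0, 2, 0, 1, 2, 0, 2, 1, 0, 2, 0]), (296, [1, 2, 0, 2, 0, 1, 2, 0, 2, 0, 2, 1, 0, 2, 0, 2]), (297, [2, 1, 0, 1, 2, 0, 2, 0, 2, 0, 1, 2, 0, 1, 2]), (298, [0, 1, 0, 2, 1, 2, 0, 1, 2, 1, 2, 1, 0, 2, 1, 2, 1, 2]), (302, []), (316,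 [0, 1, 2, 1, 2, 1, 2, 0, 1, 2, 1, 0, 2, 1, 0, 1, 2, 0]), (318, [0, 2, 0, 1, 0, 1, 2, 0, 2, 1, 2, 0, 2, 1]), (329, [2, 0, 2, 0, 2, 1, 0, 2, 1, 2, 0, 1, 2, 0, 1]), (330, [0, 2, 1, 0, 1, 2, 0, 1, 2, 0, 2, 1, 0, 2, 1, 2, 0, 1, 0]), (331, [1, 2, 0, 1, 2, 0, 2, 1, 0, 2, 1, 0, 1, 2, 0]), (345, [2, 0, 1, 0, 2, 1, 2, 1, 0, 1, 2, 0, 1, 0, 1]), (346, [0, 1, 2, 0, 1, 2, 0, 2, 0, 2, 1, 0, 2, 0, 2, 1]), (347, [0, 2, 0, 2, 0, 2, 0, 2, 0, 1, 2, 0, 1, 0, 2, 1, 0, 1]), (349, [2, 1, 2, 1, 0, 1, 2, 0, 1, 0, 1, 2, 0, 1, 0, 2, 0, 1, 0]), (350, [0, 2, 1, 2, 1, 0, 2, 0, 1, 0, 2, 1, 2, 1, 0, 1, 2]), (351, [1, 0, 2, 1, 0, 2, 1, 2, 1, 0, 1, 2, 1, 2, 0, 2, 1, 2, 0]), (363, [1, 2, 0, 1, 2, 0, 2,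 1, 0, 2, 1, 0, 1, 2, 0, 2, 0, 1, 0]), (368, [0, 1, 2, 1, 0, 1, 2, 0, 2, 0, 2, 0, 1, 0, 2, 0, 2]), (370, [0, 2, 0, 2, 0, 1, 0, 2, 0, 2, 1, 2, 0, 1, 0, 2, 1]), (371, [0, 1, 0, 2, 0, 2, 0, 1, 0, 2, 1, 2, 0, 1, 0, 2, 0]), (372, [0, 1, 2, 0, 2, 1, 0, 2, 1, 2, 0, 1, 2, 0, 1]), (383, [1, 0, 1, 2, 0, 1, 2, 0, 1, 2, 1, 0, 1, 2, 1, 2, 1]), (384, [2, 0, 2, 1, 0, 1, 2, 0, 2, 0, 2, 0, 1, 0, 2, 1, 0]), (385, [0, 1, 0, 1, 2, 0, 2, 1, 2, 1, 0, 1, 2, 0, 2, 1, 0, 2]), (389, [1, 2, 0, 1, 0, 2, 0, 1, 0, 2, 0, 2, 0, 1, 2]), (392, [0, 1, 2, 1, 0, 2, 0, 1, 0, 1, 2, 0, 2, 1, 2, 0]), (393, [1, 0, 2, 1, 2, 0, 1, 0, 2, 0, 1, 2, 1, 2, 0]), (394, [0, 1, 2, 0, 1, 2, 1, 0, 2, 1, 0, 1, 2, 0, 2, 1,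 2, 0]), (402, [0, 1, 2, 1, 2, 0, 2, 0, 1, 0, 2, 0, 1, 0, 2, 0, 2, 0]), (404, [0, 2, 0, 2, 1, 2, 1, 0, 2, 0, 1, 2, 1, 0, 1]), (418, [2, 1, 0, 1, 2, 0, 1, 2, 1, 2, 1, 0, 2, 1, 0, 2, 0]), (425, [0, 2, 1, 0, 1, 2, 0, 1, 0, 2, 0, 2, 1, 0, 2, 1]), (429, [0, 1, 0, 1, 2, 0, 2, 1, 0, 2, 1, 0, 1, 2, 0, 2, 0]), (435, [0, 1, 2, 0, 1, 0, 2, 0, 2, 0, 2, 1, 0, 1, 2, 1, 0]), (445, [1, 2, 0, 2, 1, 0, 2, 0, 2, 0, 2, 1, 0, 2, 1, 0]), (446, [0, 2, 1, 2, 1, 2, 0, 1, 0, 2, 1, 0, 2, 1, 2, 1, 2]), (447, [1, 2, 1, 0, 2, 1, 2, 0, 1, 0, 2, 0, 2, 0, 2, 0]), (452, [1, 2, 1, 2, 0, 2, 0, 2, 0, 2, 1, 2, 1]), (453, [2, 1, 2, 0, 2, 1, 2, 1, 0, 1, 2, 0, 2, 1, 0, 2]), (454, [2, 0, 1, 2, 1, 0, 1, 2, 1,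 2, 0, 1, 0, 2, 0, 1, 2, 1]), (458, [0, 1, 0, 2, 1, 2, 1, 2, 0, 2, 0, 2, 0, 2, 1, 2, 1]), (472, [1, 2, 1, 0, 1, 2, 1, 0, 2, 1, 0, 1, 2, 0, 1, 2, 0, 1]), (473, [2, 0, 1, 2, 0, 2, 1, 2, 1, 2, 0, 2, 1, 0, 1, 2]), (474, [1, 2, 0, 2, 0, 2, 1, 0, 2, 0, 1, 0, 2, 1, 2, 1, 0, 1]), (478, [0, 2, 0, 1, 2, 0, 1, 0, 1, 2, 1, 2, 0, 1, 2, 1, 0, 2, 0]), (479, [0, 1, 0, 2, 1, 2, 0, 2, 0, 1, 0, 1, 2, 0, 2, 1]), (480, [0, 2, 1, 2, 1, 0, 2, 0, 1, 0, 2, 1, 2, 0, 1]), (487, [1, 0, 2, 1, 2, 0, 2, 0, 2, 0, 2, 0, 1, 2, 0, 1]), (495, [1, 2, 0, 1, 2, 0, 1, 0, 1, 2, 1, 2, 1, 2, 0]), (496, [2, 1, 0, 2, 0, 1, 2, 1, 2, 0, 1, 2, 1, 0, 2, 1, 0, 1]), (510, [0, 1, 0, 1, 2, 1, 0, 1, 2, 1, 2, 0, 1, 0, 2]),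 (517, [1, 2, 1, 2, 1, 0, 1, 2, 1, 0, 2, 1, 0, 2, 0, 1, 2]), (521, [1, 0, 2, 0, 2, 0, 2, 0, 1, 2, 0, 1, 2]), (531, [0, 2, 0, 2, 1, 2, 1, 2, 0, 2, 0, 1, 2, 0, 1, 0]), (532, [2, 0, 1, 0]), (533, [2, 0, 2, 0, 2, 0, 1, 0, 2, 1, 2, 0, 2, 1, 2, 1, 0, 2]), (537, [2, 0, 1, 2, 0, 1, 0, 1, 2, 0, 2, 1, 2, 0, 2, 1]), (540, [0, 2, 1, 2, 0, 2, 0, 1, 0, 1, 2, 0, 1, 2, 1, 0]), (541, [2, 1, 2, 0, 2, 0, 2, 0, 2, 1, 0, 2, 0, 2, 0, 2, 0]), (542, [0, 1, 2, 0, 2, 1, 0, 1, 2, 0, 1, 2, 0, 2, 0, 2, 1, 0]), (550, [2, 0, 1, 2, 0, 1, 2, 0, 2, 1, 0, 2, 0]), (552, [2, 0, 1, 0, 2, 1, 2, 1, 0, 1, 2, 1, 2, 0, 1, 0, 2]), (553, [0, 2, 0, 2, 1, 0, 1, 2, 1, 2, 0, 2, 1, 2]), (554, [1, 0, 2, 0, 2, 1, 2, 0,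 1, 2, 1, 2, 0, 2, 1, 2]), (562, [2, 1, 2, 1, 0, 2, 0, 1, 2, 1, 2, 1, 0, 2, 1]), (563, [1, 2, 0, 1, 2, 0, 2, 0, 1, 0, 2, 1, 0, 1, 2, 0]), (564, [0, 2, 0, 2, 0, 2, 0, 1, 0, 2, 1, 2, 0, 1, 2, 1]), (575, [1, 0, 2, 0, 2, 1, 2, 1, 2, 0, 2, 0, 2, 0, 1, 0]), (576, [1, 2, 1, 0, 2, 0, 1, 0, 2, 0, 1, 2, 1, 0, 1, 2, 0]), (577, [2, 1, 2, 0, 1, 0, 2, 0, 2, 0, 2, 0, 2, 0, 1, 0, 2, 1]), (579, [2, 1, 2, 0, 2, 1, 0, 1, 2, 0, 2, 0, 1, 0, 1]), (580, [2, 1, 2, 1, 0, 1, 2, 0, 1, 0, 1]), (581, [0, 1, 0, 2, 1, 0, 2, 0, 2, 1, 2, 1, 2, 0, 2, 0]), (595, [1, 0, 2, 1, 0, 2, 1, 2, 0, 1, 2, 0, 2, 0, 2]), (596, [0, 1, 0, 2, 0, 1, 0, 2]), (597, [0, 2, 1, 2, 0, 2, 1, 2, 0, 1, 0, 2, 0, 2, 0, 2]), (601,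 [0, 1, 0, 2, 0, 2, 0, 1, 2, 0, 2, 1, 0, 2, 0]), (604, [0, 2, 0, 1, 2, 0, 2, 0, 1, 2, 0, 2, 1, 2, 0, 2, 1]), (605, [1, 0, 1, 2, 1, 0, 2, 0, 1, 2, 1, 2, 0, 2, 0]), (606, [1, 0, 2, 0, 1, 2, 1, 2, 1, 0, 2, 1, 0, 2, 0]), (614, [2, 1, 2, 0, 2, 1, 2, 1, 0, 1, 2, 0, 2, 0]), (617, [2, 0, 1, 0, 2, 0, 1, 0, 2, 0, 1, 0, 2, 0, 1, 0]), (618, [2, 0, 2, 0, 1, 0, 1, 2, 0, 2, 0, 2, 0, 2, 1, 0, 1, 2, 0]), (619, [0, 1, 0, 2, 1, 0, 2, 0, 2, 1, 2, 1, 2, 0, 2, 1, 0, 2]), (631, [2, 1, 0, 1, 2, 0, 1, 0, 2, 1, 2, 0, 1, 0, 2, 0, 1]), (636, [2, 1, 2, 0, 2, 1, 2, 1, 0, 1, 2, 0, 2, 0, 2, 0, 1, 0]), (638, [0, 2, 0, 1, 0, 1, 2, 0, 2, 0, 1, 0, 2, 0, 2, 1]), (639, [2, 1, 0, 2, 1, 0, 2, 0, 2, 0, 2, 0,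 1, 2, 0, 1, 0]), (640, [1, 2, 0, 2, 0, 1, 2, 1, 0, 1, 2, 0, 1, 2, 0, 2, 1]), (648, [0, 1, 0, 2, 1, 0, 2, 1, 2, 0, 1, 0, 2, 0, 1, 2, 1, 2, 0]), (649, [2, 1, 2, 1, 2, 0, 2, 0, 2, 0, 2, 1, 2, 1, 2]), (650, [2, 0, 1, 0, 2, 1, 0, 2, 1, 0, 2, 0, 2, 0, 2, 0, 1]), (654, [0, 1, 0, 1, 2, 1, 2, 1, 0, 2, 0, 1, 0, 2, 1, 2, 0, 2]), (655, [2, 0, 1, 2, 0, 1, 2, 0, 2, 1, 0, 2, 1, 0, 2]), (656, [0, 1, 2, 1, 2, 0, 1, 0, 2, 0, 1, 2, 1, 2, 1, 2]), (663, [2, 1, 0, 2, 1, 0, 2, 0, 1, 2, 1, 2, 0, 2, 1, 0, 2]), (671, [1, 2, 0, 2, 0, 1, 0, 2, 0, 2, 0, 1, 0, 1, 2, 0])]⟩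

/-- A level. -/
def tLev2 : Cos.RepSearch.RLev := ⟨0, none, [(0, []), (25, [0, 2, 0, 1, 2, 1, 0, 1, 0, 2, 0, 1, 2, 0, 2, 0, 1, 2, 1]), (41, [2, 1, 0, 2, 1, 2, 0, 1, 0, 1, 2, 1, 2, 0, 1, 2]), (42, [0, 2, 0, 2, 1, 2, 1, 2, 0, 2, 1, 0, 2, 1, 0, 1, 2, 1, 0, 1, 0]), (43, [2, 1, 0, 2, 0, 1, 2, 1, 2, 0, 1, 2, 1, 0, 2, 0, 1, 2, 0, 1, 0, 2]), (74, [0, 1, 2, 1, 2, 1, 2, 0, 1, 0, 2, 0, 2, 0, 2, 0, 2, 0, 2, 1, 0, 2, 1, 2]), (127, [0, 1, 0, 2, 1, 2, 1, 2, 0, 2, 0, 2, 0, 2, 1, 2, 1, 2, 0, 1, 0]), (128, [2, 1, 2, 0, 1, 2, 0, 2, 0, 1, 2, 1, 0, 2, 0, 2, 0, 1, 2, 0, 2, 1, 2]), (129, [0, 1, 2, 1, 0, 2, 1, 2, 0, 2, 0, 2, 0, 2, 1, 2, 0, 1, 2, 1, 0]), (170, [1, 0, 1, 2, 0, 2, 0, 2, 1, 2,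 1, 2, 0, 1, 2, 0, 1, 2, 0, 1, 2, 1, 2]), (171, [0, 2, 0, 2, 1, 0, 2, 0, 1, 2, 1, 0, 2, 0, 1, 2, 1, 2, 0, 2, 1, 2]), (172, [2, 1, 0, 2, 0, 2, 1, 0, 1, 2, 1, 2, 1, 0, 1, 2, 0, 1, 2]), (202, [1, 0, 1, 2, 0, 2, 0, 1, 0, 1, 2, 1, 0, 2, 0, 2, 1, 2, 1, 0]), (227, [2, 1, 2, 0, 2, 1, 2, 1, 0, 2, 0, 1, 2, 1, 0, 2, 0, 1, 2, 0, 2, 0]), (228, [2, 1, 0, 1, 2, 1, 2, 0, 1, 2, 1, 2, 0, 1, 0, 2, 0, 1, 2, 0, 2, 1, 0]), (229, [0, 1, 2, 0, 1, 2, 1, 2, 1, 0, 1, 2, 1, 2, 1, 0, 2, 1, 0]), (246, [2, 1, 2, 0, 2, 1, 2, 0, 2, 0, 1, 2, 1, 0, 2, 0, 2, 1, 0, 2, 1, 2]), (279, [0, 1, 0, 1, 2, 1, 2, 0, 2, 0, 2, 0, 2, 1, 2, 1, 0, 1, 0]), (345, [2, 1, 0, 2, 0, 2, 0, 1, 2, 1, 2, 1, 2, 0, 1, 2, 1, 2, 0,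 2]), (346, [2, 0, 1, 2, 1, 0, 2, 0, 2, 1, 0, 2, 0, 2, 1, 2, 0, 2, 0, 1, 2, 1, 2]), (347, [1, 2, 1, 2, 1, 2, 0, 1, 0, 2, 0, 1, 0, 2, 0, 1, 0, 1, 2, 0, 1, 2, 1, 2]), (368, [0, 1, 2, 0, 1, 0, 2, 1, 2, 0, 1, 2, 1, 0, 2, 0, 2, 1, 0, 2, 0, 1]), (389, [0, 2, 1, 0, 2, 0, 1, 0, 2, 1, 2, 0, 1, 0, 2, 0, 1, 2, 0]), (404, [0, 1, 2, 0, 2, 0, 2, 0, 1, 2, 0, 1, 0, 2, 1, 2, 1, 2, 0, 1, 2]), (458, [1, 0, 2, 1, 0, 1, 2, 0, 2, 1, 2, 1, 2, 1, 0, 1, 2, 1, 2, 1]), (487, [2, 1, 0, 1, 2, 0, 1, 0, 2, 1, 2, 0, 1, 0, 2, 1, 0, 1, 2]), (510, [0, 1, 2, 1, 2, 0, 2, 0, 1, 2, 1, 0, 1, 0, 2, 0, 2, 1, 0, 1]), (531, [0, 2, 1, 2, 0, 2, 0, 2, 0, 2, 0, 2, 1, 2, 1, 2, 0, 1, 0, 2, 0, 1]), (532, [2, 1, 0, 1,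 2, 0, 1, 0, 2, 1, 2, 0, 1, 0, 2, 1, 0, 2, 1, 0, 1, 2, 1, 2]), (533, [2, 0, 2, 1, 2, 1, 0, 2, 1, 2, 1, 2, 1, 0, 2, 0, 2, 0, 1, 2]), (579, [1, 0, 1, 2, 0, 2, 0, 1, 2, 1, 2, 0, 2, 1, 0, 2, 0, 2, 0, 1, 2, 1, 2, 1]), (580, [2, 1, 0, 2, 1, 0, 1, 2, 1, 2, 1, 0, 1, 2, 0, 2, 0, 1, 2]), (581, [1, 0, 2, 0, 2, 0, 1, 2, 0, 2, 1, 0, 1, 2, 0, 2, 1, 0, 2, 0, 2, 0, 1]), (604, [1, 2, 1, 0, 1, 2, 0, 1, 2, 0, 2, 0, 2, 0, 1, 0, 2, 1, 0, 2, 1, 0]), (605, [1, 0, 2, 0, 1, 0, 2, 1, 2, 1, 2, 0, 2, 0, 2, 0, 2, 0, 2, 1, 2, 0]), (606, [0, 2, 0, 2, 1, 0, 2, 0, 1, 2, 1, 0, 2, 0, 1, 2, 0, 1, 2, 0, 2, 1, 2]), (631, [2, 1, 2, 1, 0, 1, 2, 1, 2]), (648, [1, 0, 2, 0, 1, 0, 2, 1, 0, 1, 2, 0, 1, 2, 1, 2,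 1, 0, 1, 2, 1, 0]), (649, [1, 0, 2, 1, 0, 2, 0, 1, 0, 2, 1, 2, 0, 1, 2, 1, 2, 1, 0, 1, 2, 0]), (650, [0, 1, 2, 1, 0, 1, 2, 1, 2, 1, 0, 2, 1, 0, 1, 2, 0, 1, 0, 2, 0, 1])]⟩

/-- A level. -/
def tLev3 : Cos.RepSearch.RLev := ⟨207, none, [(2, [1, 0, 2, 0, 2, 0, 1, 2, 1, 2, 0, 2, 1, 2, 1, 0, 1, 2, 0, 1, 2, 0, 2, 1, 2, 0, 2, 0, 1, 0]), (12, [0, 1, 2, 0, 1, 2, 1, 2, 0, 1, 0, 2, 0, 1, 2, 1, 2, 0, 2, 1, 0, 2, 1, 2, 1, 0, 2, 1, 0, 1]), (31, [1, 2, 1, 0, 2, 0, 2, 1, 2, 1, 0, 2, 0, 1, 0, 2, 0, 2, 0, 2, 0, 2, 1, 2, 0, 1, 2, 1, 2, 1]), (32, [0, 2, 1, 2, 0, 1, 2, 1, 0, 2, 0, 1, 0, 2, 0, 1, 0, 2, 0, 1, 0, 2, 0, 2, 1, 2, 1, 2, 0, 1]), (33, [2, 1, 2, 0, 2, 0, 1, 2, 0, 2, 0, 2, 0, 1, 0,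 2, 0, 2, 0, 2, 0, 1, 2, 1, 0, 2]), (37, [0, 1, 2, 0, 1, 2, 0, 2, 1, 0, 2, 1, 2, 1, 2, 0, 2, 1, 0, 2, 0, 2, 0, 2, 0, 2, 0, 2]), (39, [0, 2, 0, 2, 1, 2, 0, 1, 2, 1, 0, 2, 1, 0, 2, 0, 2, 0, 1, 2, 1, 2, 0, 2]), (53, [2, 1, 0, 2, 0, 2, 1, 0, 2, 0, 2, 1, 2, 1, 0, 2, 0, 2, 0, 2, 0, 2, 0, 1, 2, 1]), (54, [2, 1, 0, 2, 1, 2, 1, 2, 0, 1, 0, 2, 1, 2, 0, 1, 0, 1, 2, 0, 2, 0, 2, 0, 2, 1, 0]), (59, [1, 2, 0, 2, 1, 2, 1, 2, 0, 1, 0, 2, 0, 2, 1, 0, 2, 0, 2, 1, 0, 1, 0, 2, 1, 2, 1]), (61, [2, 0, 2, 1, 2, 1, 0, 2, 0, 2, 0, 1, 2, 0, 1, 2, 1, 0, 2, 1, 2, 0, 2, 0]), (65, [0, 1, 0, 2, 0, 2, 0, 2, 0, 2, 1, 0, 2, 0, 1, 0, 2, 0, 2, 0, 1, 2, 1, 2, 0, 2, 1]), (66, [1, 2, 0, 1, 2, 1, 0, 1, 2, 0,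 1, 2, 0, 2, 1, 0, 2, 0, 2, 1, 2, 1, 0, 1, 0, 2, 0, 1]), (67, [2, 1, 2, 0, 1, 0, 1, 2, 0, 1, 0, 2, 0, 2, 0, 2, 0, 1, 0, 2, 0, 2, 0, 2, 0, 1, 2, 1, 0, 2]), (71, [1, 2, 0, 1, 2, 1, 0, 2, 0, 2, 1, 0, 2, 0, 2, 0, 2, 0, 2, 1, 2, 0, 2, 0, 1, 2, 1, 0, 2, 1]), (73, [1, 2, 1, 0, 2, 0, 2, 0, 2, 0, 2, 0, 1, 2, 1, 2, 0, 2, 0, 1, 2, 0, 2, 0, 1, 2]), (84, [0, 1, 2, 0, 1, 2, 1, 0, 2, 1, 0, 2, 0, 2, 0, 2, 0, 2, 0, 1, 0, 2, 0, 2, 0, 2]), (94, [2, 1, 0, 1, 2, 1, 2, 0, 1, 2, 0, 2, 1, 2, 0, 1, 0, 2, 0, 2, 1, 0, 1, 2, 0, 1, 2, 1, 0, 1, 0]), (107, [2, 0, 2, 1, 0, 2, 0, 1, 2, 0, 2, 1, 2, 0, 1, 0, 1, 2, 1, 0, 1, 2, 0, 2, 1, 0, 1, 2, 1, 2, 0]), (108, [1, 2, 0, 1, 2, 1, 0, 1, 2, 0, 2, 1, 2, 1,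 0, 2, 1, 0, 1, 2, 1, 0, 2, 1]), (109, [1, 0, 1, 2, 0, 1, 2, 0, 2, 1, 2, 1, 0, 2, 0, 1, 0, 2, 1, 0, 1, 2, 1, 0, 2, 1, 2, 1, 0, 2]), (110, [1, 2, 0, 1, 0, 2, 1, 0, 2, 1, 0, 2, 1, 2, 0, 1, 0, 2, 1, 0, 1, 2, 1, 2, 0, 2, 0, 1, 2, 1]), (130, [0, 1, 2, 0, 1, 0, 1, 2, 1, 0, 2, 1, 0, 1, 2, 1, 2, 1, 0, 2, 0, 2, 1, 0, 1, 0, 2, 1, 0, 2]), (143, [1, 0, 2, 1, 2, 0, 1, 2, 0, 2, 1, 0, 1, 2, 0, 2, 1, 0, 2, 0, 1]), (144, [0, 2, 1, 0, 2, 1, 2, 1, 0, 1, 2, 0, 2, 0, 2, 1, 0, 1, 2, 0, 2, 1, 0, 1, 0, 2, 1]), (146, [1, 2, 1, 2, 1, 2, 0, 1, 0, 2, 1, 0, 1, 2, 0, 1, 2, 0, 1, 0, 2, 1, 0, 2, 0, 2, 1, 2, 1]), (176, [2, 0, 2, 0, 1, 0, 2, 1, 2, 1, 2, 0, 1, 0, 2, 1, 0, 1, 2, 0, 2, 0, 1, 2, 0, 2, 1,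 2, 0]), (190, [2, 1, 0, 1, 2, 0, 1, 2, 0, 2, 1, 0, 2, 0, 1, 2, 0, 2, 0, 2, 0, 2, 1, 0, 2, 0, 2, 1, 2, 1, 0]), (191, [1, 2, 0, 1, 0, 1, 2, 0, 2, 1, 0, 1, 2, 0, 2, 0, 2, 1, 0, 1, 2, 1, 2, 0, 1, 2, 0]), (195, [0, 2, 0, 1, 2, 1, 0, 2, 0, 1, 0, 2, 1, 2, 0, 1, 0, 2, 1, 2, 0, 2, 0, 2, 1, 2, 0, 1, 0, 2]), (196, [2, 0, 1, 2, 1, 0, 2, 0, 2, 0, 2, 0, 1, 0, 2, 0, 2, 0, 2, 1, 0, 2, 0, 2, 1, 2]), (197, [1, 0, 1, 2, 0, 1, 2, 1, 2, 0, 1, 2, 0, 2, 1, 2, 1, 0, 2, 0, 1, 0, 2, 1, 2, 1, 0, 2, 1, 0]), (207, []), (208, [1, 2, 1, 0, 2, 0, 2, 1, 2, 1, 0, 2, 0, 1, 2, 1, 2, 0, 1, 2, 0, 1, 2, 0, 1, 2, 1, 0, 1]), (209, [1, 2, 1, 0, 2, 1, 2, 1, 0, 1, 2, 0, 1, 2, 0, 2, 0, 1, 0, 2, 0, 2, 1, 0, 1, 0,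 2, 0, 2, 0]), (210, [1, 2, 1, 2, 0, 2, 0, 2, 1, 2, 1, 0, 1, 2, 0, 2, 1, 0, 1, 2, 1, 0, 2, 0, 1, 0, 2, 1, 0, 1, 0]), (230, [1, 2, 0, 1, 2, 1, 0, 1, 2, 0, 2, 1, 0, 2, 1, 0, 2, 0, 2, 1, 2, 1, 0, 1, 0, 2, 0, 1]), (243, [0, 1, 2, 1, 2, 0, 2, 1, 0, 1, 2, 1, 0, 2, 0, 1, 0, 2, 0, 2, 1, 2, 0, 2, 0, 2, 1, 0, 1, 2, 1]), (245, [0, 2, 1, 2, 0, 1, 2, 0, 1, 2, 0, 2, 0, 1, 2, 0, 1, 0, 2, 0, 1, 0, 2, 0, 2, 1, 0, 1, 0]), (256, [0, 2, 1, 2, 0, 2, 1, 0, 2, 0, 2, 1, 0, 1, 2, 0, 1, 0, 2, 1, 2, 1, 2, 0, 1, 0, 2, 0, 2]), (266, [1, 2, 1, 2, 0, 2, 0, 2, 1, 0, 2, 0, 2, 1, 2, 1, 0, 1, 0, 2, 1, 0, 2, 1, 2, 1, 0, 1, 2, 0, 2, 0]), (282, [2, 1, 2, 0, 2, 0, 2, 1, 2, 0, 2, 0, 2, 0, 1, 2, 0, 2, 0, 1,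 2, 1, 2, 1, 0, 2, 1, 0, 1, 0]), (292, [1, 0, 2, 1, 0, 2, 0, 2, 0, 2, 1, 0, 2, 1, 0, 2, 0, 1, 2, 0, 1, 2, 1, 2, 0, 1]), (315, [2, 1, 2, 1, 0, 1, 2, 1, 0, 1, 2, 0, 1, 2, 1, 0, 2, 1, 2, 1, 0, 1, 2, 1, 0, 2, 0]), (317, [0, 1, 0, 2, 1, 2, 1, 2, 0, 1, 0, 2, 1, 0, 1, 2, 1, 0, 2, 0, 1, 2, 0, 1, 0, 2, 0, 1, 2]), (328, [0, 2, 0, 1, 2, 1, 2, 0, 2, 1, 2, 1, 0, 1, 0, 2, 1, 2, 1, 0, 1, 0, 2, 1, 0, 1, 2, 0, 1]), (348, [0, 2, 0, 2, 1, 2, 0, 2, 0, 1, 2, 0, 2, 0, 1, 2, 0, 2, 1, 0, 2, 1, 2, 0, 1, 2, 0, 2]), (361, [2, 0, 2, 0, 1, 2, 1, 2, 0, 1, 0, 2, 1, 2, 0, 2, 1, 0, 2, 1, 2, 1, 0, 2, 1, 0, 1, 2, 0]), (362, [0, 2, 0, 1, 0, 1, 2, 0, 2, 0, 2, 1, 0, 2, 1, 0, 1, 2, 0, 2, 1, 0, 1, 0, 2, 1,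 0, 1, 0, 2, 0]), (373, [2, 0, 2, 0, 2, 0, 1, 0, 2, 0, 2, 0, 2, 0, 2, 0, 1, 2, 0, 1, 2, 1, 0, 2, 1, 0]), (374, [2, 0, 1, 2, 1, 0, 2, 0, 2, 0, 2, 0, 1, 0, 2, 0, 2, 0, 2, 0, 1, 0, 2, 1, 0, 1, 0, 2, 1, 2]), (375, [0, 1, 0, 2, 0, 1, 2, 0, 2, 0, 1, 2, 0, 2, 0, 2, 1, 0, 1, 2, 0, 2, 0, 2, 1, 0, 2, 0, 1, 2, 1]), (376, [1, 2, 1, 2, 0, 1, 0, 2, 1, 0, 1, 2, 1, 0, 2, 1, 0, 2, 1, 2, 1, 2, 0, 2, 1, 0, 1, 2, 0]), (395, [1, 0, 1, 2, 0, 1, 2, 0, 2, 1, 0, 2, 0, 1, 2, 1, 0, 1, 2, 0, 1, 2, 0, 2, 0, 1, 0, 2]), (396, [1, 0, 2, 1, 2, 1, 2, 0, 2, 0, 1, 0, 2, 0, 1, 0, 2, 0, 1, 0, 2, 0, 1, 2, 1, 0, 2, 1, 2, 0]), (397, [0, 2, 1, 2, 1, 2, 0, 2, 0, 2, 1, 0, 2, 0, 1, 0, 2, 0, 1, 0, 2, 0, 2, 1, 2,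 0]), (401, [2, 0, 1, 2, 1, 2, 0, 1, 2, 0, 2, 0, 2, 1, 0, 2, 1, 2, 1, 0, 1, 0, 2, 0, 2, 1, 2, 1, 0, 2]), (403, [1, 2, 0, 1, 2, 1, 0, 2, 0, 2, 1, 2, 0, 2, 0, 2, 0, 2, 0, 1, 2, 0, 2, 0, 1, 2, 1, 0, 2, 1]), (417, [1, 0, 2, 0, 1, 0, 1, 2, 1, 2, 0, 2, 0, 1, 2, 0, 2, 1, 0, 2, 1, 0, 1, 2, 1, 0, 2, 1]), (419, [2, 0, 1, 0, 2, 0, 2, 1, 0, 2, 0, 1, 2, 1, 0, 2, 0, 1, 2, 0, 1, 2, 1, 0, 2, 1, 0, 1]), (423, [0, 1, 2, 1, 0, 2, 1, 0, 2, 0, 1, 0, 1, 2, 0, 1, 0, 2, 1, 0, 1, 0, 2, 0, 1, 0, 2, 1, 2, 0, 1, 2]), (424, [0, 1, 0, 1, 2, 0, 1, 0, 2, 0, 1, 2, 1, 0, 1, 2, 0, 2, 1, 0, 1, 2, 1, 2, 0, 2, 0, 2, 1, 2, 1]), (430, [1, 0, 2, 1, 0, 1, 2, 0, 2, 1, 2, 1, 0, 2, 1, 2, 0, 2, 1, 0, 1, 2, 1, 2,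 1]), (431, [2, 0, 1, 2, 0, 1, 2, 0, 2, 0, 1, 0, 1, 2, 1, 2, 0, 2, 1, 2, 1, 0, 2, 1, 0, 2, 0, 2, 0]), (436, [1, 2, 0, 2, 1, 2, 1, 0, 2, 0, 1, 0, 1, 2, 0, 1, 2, 0, 1, 2, 0, 2, 1, 0, 1, 0, 2, 1, 0, 2, 0]), (437, [1, 0, 2, 0, 1, 2, 0, 2, 1, 0, 1, 2, 0, 2, 1, 0, 2, 1, 2, 0, 1]), (438, [1, 2, 0, 1, 2, 1, 0, 2, 1, 0, 2, 1, 2, 0, 2, 1, 2, 1, 2, 0, 2, 1, 0, 2, 0]), (448, [0, 1, 2, 0, 2, 0, 2, 0, 2, 1, 0, 1, 0, 2, 1, 2, 0, 1, 0, 2, 1, 2, 1, 2, 0, 1, 2]), (468, [1, 0, 2, 0, 2, 0, 1, 0, 2, 0, 2, 0, 1, 2, 0, 2, 0, 2, 1, 0, 1, 0, 2, 1, 0, 1, 2, 1, 0]), (481, [2, 0, 1, 2, 1, 2, 1, 2, 0, 1, 2, 0, 2, 0, 2, 0, 1, 2, 1, 2, 0, 1, 2, 1, 0, 2, 1, 0, 2]), (482, [2, 0, 1, 0, 2, 0, 2, 0, 1,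 0, 2, 1, 2, 1, 0, 1, 2, 0, 1, 0, 2, 0, 2, 1, 2, 0, 2, 1, 0]), (483, [2, 0, 1, 2, 0, 1, 2, 1, 2, 0, 1, 2, 1, 2, 1, 0, 2, 1, 0, 1, 2, 0, 2, 1, 2, 0, 2, 1, 0, 2, 1]), (493, [0, 2, 0, 1, 0, 2, 1, 0, 1, 2, 0, 1, 2, 0, 2, 1, 0, 1, 0, 2, 0, 1, 0, 2, 0, 1, 2, 0, 2, 1, 0, 1, 0]), (494, [1, 2, 1, 0, 2, 0, 2, 1, 0, 1, 2, 0, 2, 1, 0, 1, 0, 2, 0, 2, 0, 2, 1, 2, 0, 1, 0, 2, 1, 2]), (515, [1, 2, 1, 0, 2, 0, 2, 1, 2, 1, 0, 1, 2, 0, 1, 0, 2, 1, 2, 0, 1, 2, 0, 1, 2, 0, 1, 0, 2, 1]), (516, [1, 2, 1, 0, 2, 0, 2, 0, 2, 0, 1, 2, 1, 2, 1, 0, 2, 1, 0, 2, 0, 1, 2, 0, 2, 0, 1, 2, 1]), (522, [0, 2, 0, 2, 0, 1, 0, 2, 1, 2, 1, 0, 2, 1, 0, 2, 1, 0, 2, 1, 2, 0, 1, 0, 2, 1]), (523, [0, 1, 0, 2, 1,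 0, 2, 0, 1, 2, 0, 2, 1, 2, 1, 0, 2, 0, 2, 1, 2, 0, 1, 2, 0, 2, 1, 2, 1, 2, 0, 1]), (538, [2, 0, 2, 1, 0, 2, 1, 2, 0, 1, 2, 0, 2, 1, 0, 2, 0, 2, 1, 0, 2, 0, 2, 1, 2, 0, 2, 0]), (539, [0, 2, 1, 2, 0, 2, 0, 1, 0, 1, 2, 0, 2, 0, 2, 0, 1, 0, 2, 1, 0, 2, 1, 2, 0, 2, 1, 0, 1, 0]), (543, [2, 1, 2, 0, 1, 0, 1, 2, 1, 0, 1, 2, 0, 2, 1, 2]), (544, [2, 0, 2, 0, 1, 0, 2, 1, 0, 1, 2, 1, 2, 0, 2, 1, 0, 2, 0, 1, 2, 0, 1, 2, 0, 1, 2, 1, 2]), (545, [0, 1, 0, 2, 0, 2, 1, 2, 0, 2, 0, 2, 1, 0, 2, 1, 2, 0, 1, 2, 1, 2, 1, 0]), (549, [0, 1, 2, 1, 2, 0, 2, 0, 1, 2, 0, 2, 0, 2, 0, 2, 1, 0, 2, 0, 1, 2, 0, 2, 1, 0, 2, 1, 0, 1, 2]), (551, [1, 0, 1, 2, 0, 1, 2, 1, 0, 2, 1, 0, 2, 0, 1, 2, 1, 0, 2,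 0, 1, 2, 0, 2, 0, 1, 0, 2]), (555, [1, 2, 1, 2, 1, 0, 1, 2, 0, 2, 1, 2, 0, 1, 2, 1, 2, 0, 2, 1, 0, 1, 2, 0, 1]), (556, [1, 0, 1, 2, 1, 2, 0, 2, 0, 2, 0, 2, 1, 2, 0, 1, 2, 0, 2, 1, 0, 1, 2, 0, 1, 0, 2, 0, 2, 0]), (557, [1, 2, 0, 1, 0, 2, 1, 2, 0, 1, 2, 0, 1, 2, 0, 1, 2, 1, 2, 0, 1, 0, 2, 0, 2, 0]), (558, [0, 1, 0, 1, 2, 1, 0, 2, 1, 0, 1, 2, 0, 2, 0, 1, 0, 2, 1, 2, 0, 2, 1, 0, 2, 1, 2, 1, 0, 1, 2]), (568, [1, 2, 0, 1, 0, 1, 2, 1, 0, 1, 2, 0, 2, 0, 1, 0, 1, 2, 0, 1, 0, 2, 0, 2, 1, 0, 1, 0, 2, 1]), (588, [0, 2, 0, 1, 2, 1, 0, 1, 2, 1, 2, 0, 1, 2, 1, 0, 2, 1, 0, 1, 2, 1, 0, 1, 2, 1, 2]), (602, [0, 2, 0, 1, 2, 0, 2, 1, 2, 1, 2, 0, 2, 1, 2, 0, 1, 2, 0, 1, 2, 1, 0, 2, 1]), (603,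 [0, 1, 2, 1, 0, 2, 0, 1, 2, 0, 1, 0, 2, 1, 2, 0, 2, 0, 1, 0, 2, 0, 1, 2, 0, 2, 0, 1, 0, 2, 1]), (613, [0, 2, 0, 2, 0, 1, 2, 0, 1, 2, 1, 2, 0, 2, 1, 2, 1, 0, 1, 0, 2, 0, 2, 1, 0, 2, 1, 0, 2]), (615, [0, 1, 2, 1, 2, 1, 0, 2, 1, 2, 0, 1, 2, 0, 2, 0, 2, 1, 2, 0, 2, 0, 1, 0]), (616, [2, 0, 1, 2, 1, 2, 0, 1, 2, 1, 0, 1, 2, 0, 1, 0, 2, 0, 1, 2, 1, 2, 0, 2, 1, 0, 2, 1, 0, 1]), (635, [0, 2, 1, 0, 2, 0, 2, 0, 1, 0, 2, 1, 0, 1, 2, 0, 1, 2, 0, 2, 1, 2, 0, 1, 2, 0, 2, 0, 2, 1, 0]), (637, [1, 0, 2, 0, 1, 0, 1, 2, 1, 2, 0, 2, 0, 1, 2, 0, 1, 2, 0, 2, 1, 0, 1, 2, 1, 0, 2, 1]), (641, [2, 1, 2, 0, 2, 1, 0, 1, 2, 0, 1, 0, 1, 2, 1, 2]), (642, [0, 2, 1, 2, 1, 0, 2, 1, 0, 2, 1, 0, 1, 2, 1,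 2, 0, 2, 1, 2, 0, 1, 2, 1, 2, 0, 2, 1, 2, 1, 2]), (643, [0, 2, 1, 2, 0, 2, 0, 1, 0, 2, 0, 1, 0, 2, 0, 1, 2, 0, 2, 0, 2, 1, 2, 1, 2, 0]), (657, [1, 2, 1, 2, 0, 1, 0, 1, 2, 0, 2, 0, 1, 2, 0, 2, 0, 1, 0, 2, 1, 2, 1, 2, 0, 2, 1]), (658, [1, 2, 0, 1, 2, 1, 0, 1, 2, 0, 1, 2, 1, 2, 0, 2, 1, 0, 1, 2, 1, 0, 2, 1]), (659, [0, 2, 1, 0, 1, 2, 0, 1, 2, 1, 2, 0, 1, 2, 0, 2, 1, 2, 0, 1, 0, 2, 1, 2, 1, 0, 2, 0, 2]), (664, [2, 0, 2, 1, 0, 2, 0, 2, 1, 2, 0, 1, 2, 0, 2, 0, 1, 2, 1, 0, 1, 2, 0, 1, 2, 0, 2, 1, 2, 1]), (665, [2, 0, 2, 1, 0, 2, 0, 2, 0, 1, 0, 2, 1, 2, 0, 1, 2, 1, 0, 2, 0, 1, 0, 2, 0, 2, 1, 2]), (669, [1, 2, 1, 2, 0, 2, 0, 1, 2, 0, 1, 0, 2, 1, 0, 2, 1, 0, 1, 2, 0, 1, 0, 2,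 1, 2, 1, 2, 1]), (670, [0, 2, 0, 2, 0, 1, 2, 0, 2, 0, 2, 0, 1, 2, 0, 2, 1, 2, 0, 1, 2, 0, 2, 0, 1, 0, 2, 0, 2])]⟩

/-- A level. -/
def tLev4 : Cos.RepSearch.RLev := ⟨494, (some 207), [(54, [0, 1, 2, 1, 0, 2, 0, 2, 0, 1, 2, 1, 0, 2, 0, 2]), (73, [0, 2, 1, 2, 0, 1, 2, 1, 2, 1, 0, 2, 0, 2, 0, 1, 2, 1, 0, 2, 0, 2, 0, 2, 1, 0, 2, 1, 2, 0]), (130, [1, 2, 1, 0, 2, 1, 2, 1, 0, 2, 0, 1, 0, 2, 0, 1, 2, 1, 2, 0, 1, 2, 0, 2, 0, 1]), (176, [1, 2, 1, 0, 2, 0, 1, 2, 1, 2, 0, 1, 0, 2, 1, 2, 1, 0, 2, 1, 0, 1, 2, 0, 1, 2, 1]), (423, [1, 2, 1, 0, 2, 1, 0, 1, 2, 0, 1, 2, 1, 2, 0, 1, 0, 2, 1, 2, 1, 0, 2, 0, 1, 2, 1]), (494, [])]⟩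

/-- A level. -/
def tLev5 : Cos.RepSearch.RLev := ⟨448, (some 494), [(448, []), (493, [1, 2, 0, 2, 0, 2, 0, 2, 0, 1, 2, 1, 0, 2, 0, 2, 0, 1, 0, 2, 1, 2, 0, 2, 1, 2, 0, 1, 2, 0, 2, 0, 1, 0]), (539, [0, 1, 0, 2, 0, 2, 1, 0, 2, 1, 2, 0, 2, 1, 2, 0, 1, 0, 2, 0, 2, 0, 1, 2, 1, 0, 2, 0, 2, 0, 2, 0, 2, 1])]⟩

/-- The levels. -/
def tLevels : List Cos.RepSearch.RLev := [tLev0, tLev1, tLev2, tLev3, tLev4, tLev5]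

end Cfsg.Agent.Spor.U62U43
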