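import Cfsg.Agent.Lib.Spor.U62U43.SearchDefs

/-! A branch of the search in the centraliser of an element of order 3. -/

set_option autoImplicit false
set_option maxRecDepth 100000
set_option maxHeartbeats 4000000

open Cfsg.Agent.Spor.Cos

namespace Cfsg.Agent.Spor.U62U43

theorem searchT4_ok : ∀ j < 176, chkT 510 j = true :=
  of_blocks (size := 4) (b := 44) (by decide) (by decide) fun j hj => by interval_cases j <;> decide +kernel

end Cfsg.Agent.Spor.U62U43
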