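import Cfsg.Agent.Lib.Spor.U62U43.SearchS
import Cfsg.Agent.Lib.Spor.U62U43.SearchT0
import Cfsg.Agent.Lib.Spor.U62U43.SearchT1
import Cfsg.Agent.Lib.Spor.U62U43.SearchT2
import Cfsg.Agent.Lib.Spor.U62U43.SearchT3
import Cfsg.Agent.Lib.Spor.U62U43.SearchT4
import Cfsg.Agent.Lib.Spor.U62U43.SearchT5

/-! The centralisers of an element of order 7 and of an element of order 3 normalising it. -/

set_option autoImplicit false
set_option maxRecDepth 100000
set_option maxHeartbeats 4000000

open Cfsg.Agent.Spor.Cos

namespace Cfsg.Agent.Spor.U62U43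

theorem tLevels_ok : RepSearch.chkLevs A62 tLevels [] = true := by decide +kernel

theorem tLevels_card : (tLevels.map fun L => L.reps.length).prod = 9196830720 := by decide +kernel

theorem tTop_ok : ∀ i < 672,
    (RepSearch.skip A62 wt tLev0 [] i || [0, 279, 302, 404, 510, 609].contains i) = true :=
  of_blocks (size := 56) (b := 12) (by decide) (by decide) fun j hj => by interval_cases j <;> decide +kernel

theorem tLev_link : tLev0.link = none ∧ tLev0.reps.length = 672 ∧ tLev1.link = none ∧ tLev1.reps.length = 176 := by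
  decide +kernel

theorem searchT_ok : RepSearch.search A62 wt leafT tLevels [] [] = true := by
  obtain ⟨h0, n0, h1, n1⟩ := tLev_link
  refine RepSearch.search_of_children h0 fun i hi => ?_
  have ht := tTop_ok i (n0 ▸ hi)
  simp only [Bool.or_eq_true, List.contains_iff_mem, List.mem_cons, List.not_mem_nil, or_false] at ht ⊢
  refine ht.imp id fun hm => ?_
  have hj : ∀ j < 176, chkT i j = true := by
    rcases hm with rfl | rfl | rfl | rfl | rfl | rfl
    exacts [searchT0_ok, searchT1_ok, searchT2_ok, searchT3_ok, searchT4_ok, searchT5_ok]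
  show RepSearch.search A62 wt leafT (tLev1 :: [tLev2, tLev3, tLev4, tLev5]) [tLev0.b] (topT i) = true
  exact RepSearch.search_of_children h1 fun j h => hj j (n1 ▸ h)

end Cfsg.Agent.Spor.U62U43
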