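import Cfsg.Agent.Lib.Spor.U62U43.Pair0
import Cfsg.Agent.Lib.Spor.U62U43.Pair1
import Cfsg.Agent.Lib.Spor.U62U43.Pair2
import Cfsg.Agent.Lib.Spor.U62U43.Facts
import Cfsg.Agent.Lib.Spor.U62U43.Search
import Cfsg.Agent.S0283

/-! Three classes of subgroups isomorphic to `PSU₄(3)` in `PSU₆(2)`. -/

set_option autoImplicit false
set_option maxRecDepth 100000
set_option linter.style.haveILetI false

open Cfsg Cfsg.Agent.Spor.Cos Cfsg.Agent.Spor.Cos.Triple

namespace Cfsg.Agent.Spor.U62U43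

instance : Finite G43 := Nat.finite_of_card_ne_zero (by rw [UFourThree.card_G43]; norm_num)

instance : Finite G62 := Nat.finite_of_card_ne_zero (by rw [USixTwo.card_G62]; norm_num)

instance : IsSimpleGroup G43 :=
  Cfsg.Agent.S0283.result (F := UFourThree.K9) (q := 3) UFourThree.K9.card_eq 4 (by norm_num) (by norm_num)

theorem frame43_lt : ∀ p ∈ F43, p < A43.N := by decide

theorem frame62_lt : ∀ p ∈ F62, p < A62.N := by decide

theorem inv62 (s : ℕ) : USixTwo.gT s * USixTwo.gT s = 1 :=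
  USixTwo.det _ fun q _ => by rw [map_mul, USixTwo.homA.gen, A62.perm_sq]; rfl

theorem eq43 {v w : List ℕ} (h : sameW A43 F43 v w = true) : ev UFourThree.gT v = ev UFourThree.gT w :=
  eq_of_sameW UFourThree.homA UFourThree.det h

theorem eq62 {v w : List ℕ} (h : sameW A62 F62 v w = true) : ev USixTwo.gT v = ev USixTwo.gT w :=
  eq_of_sameW USixTwo.homA USixTwo.det h

/-- An element of order 7. -/
noncomputable def S43 : G43 := ev UFourThree.gT wS

/-- An element normalising it. -/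
noncomputable def T43 : G43 := ev UFourThree.gT wT

/-- An element of order 3 commuting with that. -/
noncomputable def Y43 : G43 := ev UFourThree.gT wY

/-- An element of order 7. -/
noncomputable def s62 : G62 := ev USixTwo.gT ws

/-- An element normalising it. -/
noncomputable def t62 : G62 := ev USixTwo.gT wt

/-- An element inducing a generator of the automorphisms on it. -/
noncomputable def m62 : G62 := ev USixTwo.gT wm

/-- A possible image. -/
noncomputable def z62 (i : ℕ) : G62 := ev USixTwo.gT (zs.getD i [])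

theorem facts43 : S43 ^ 7 = 1 ∧ S43 ≠ 1 ∧ T43 * S43 = S43 ^ 2 * T43 ∧ Commute T43 Y43 ∧ Y43 ^ 3 = 1 ∧
    (S43 * Y43) ^ 5 = 1 ∧ (S43 * (Y43 * Y43)) ^ 8 = 1 := by
  obtain ⟨h1, h2, h3, h4, h5, h6, h7, -⟩ := small_facts
  have e1 := eq43 h1
  have e3 := eq43 h3
  have e4 := eq43 h4
  have e5 := eq43 h5
  have e6 := eq43 h6
  have e7 := eq43 h7
  simp only [powF, ev_power, ev_append, show ev UFourThree.gT [] = 1 from rfl] at e1 e3 e4 e5 e6 e7
  refine ⟨e1, fun he => ?_, e3, e4, e5, e6, e7⟩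
  have hl : ∀ x ∈ wS, x < A43.n := by decide
  rw [agree_of_eq UFourThree.homA frame43_lt (w := []) hl (by simp) he] at h2
  exact Bool.noConfusion h2

theorem closure_SY : Subgroup.closure ({S43, Y43} : Set G43) = ⊤ := by
  obtain ⟨-, -, -, -, -, -, -, h8⟩ := small_facts
  rw [eq_top_iff, ← UFourThree.gen, Subgroup.closure_le]
  rintro _ ⟨j, hj, rfl⟩
  have e := eq43 (h8 j hj)
  rw [show ev UFourThree.gT [j] = UFourThree.gT j from mul_one _, ev_subW] at e
  rw [e]
  refine ev_mem _ fun x _ => ?_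
  rcases x with _ | _ | x
  · exact Subgroup.subset_closure (Or.inl rfl)
  · exact Subgroup.subset_closure (Or.inr rfl)
  · simp [ev]

theorem facts62 : s62 ^ 7 = 1 ∧ s62 ≠ 1 ∧ t62 * s62 = s62 ^ 2 * t62 ∧ m62 * s62 = s62 ^ 3 * m62 := by
  obtain ⟨h1, h2, h3, h4, h5, -, -⟩ := large_facts
  have e1 := eq62 h1
  have e3 := eq62 h3
  have e4 := eq62 h4
  simp only [powF, ev_power, ev_append, show ev USixTwo.gT [] = 1 from rfl] at e1 e3 e4
  refine ⟨e1, fun he => ?_, e3, e4⟩
  have hl : ∀ x ∈ ws, x < A62.n := fun x hx => Nat.le_of_ble_eq_true (List.all_eq_true.1 h5 x hx)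
  rw [agree_of_eq USixTwo.homA frame62_lt (w := []) hl (by simp) he] at h2
  exact Bool.noConfusion h2

theorem orderOf_s62 : orderOf s62 = 7 :=
  haveI : Fact (Nat.Prime 7) := ⟨by norm_num⟩
  orderOf_eq_prime facts62.1 facts62.2.1

theorem orderOf_S43 : orderOf S43 = 7 :=
  haveI : Fact (Nat.Prime 7) := ⟨by norm_num⟩
  orderOf_eq_prime facts43.1 facts43.2.1

/-- The images of the generators in a class. -/
noncomputable def hg (k : ℕ) : ℕ → G62 := (hData k).gen USixTwo.gT

theorem pair_ok : ∀ k < 3, (∀ p < 672, SubList.chkRow A62 (hData k) p = true) ∧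
    (∀ j < 280, chkPair k 0 j = true) ∧ (∀ j < 243, chkPair k 1 j = true) ∧ (∀ j < 48, chkPair k 2 j = true) ∧
      ∀ i < pX2.length,
        PairBound.agree2 A43 (hAct k) F43 F62 (pX2.getD i []) (subW pX1 (pMem.getD i [])) = true := by
  intro k hk
  interval_cases k
  exacts [⟨row0_ok, pair0_top, pair0_mid, pair0_low, mem0_ok⟩, ⟨row1_ok, pair1_top, pair1_mid, pair1_low, mem1_ok⟩,
    ⟨row2_ok, pair2_top, pair2_mid, pair2_low, mem2_ok⟩]

theorem pLev_sizes : pR0.length = 280 ∧ pR1.length = 243 ∧ pR2.length = 48 ∧ pR0.getD 0 [] = [] ∧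
    pR1.getD 0 [] = [] ∧ pR2.getD 0 [] = [] ∧ pX0 = [[0], [1], [2]] := by decide +kernel

theorem exists_psi (k : ℕ) (hk : k < 3) :
    ∃ f : G43 →* G62, ∀ w : List ℕ, f (ev UFourThree.gT w) = ev (hg k) w := by
  obtain ⟨hrow, h0, h1, h2, hm⟩ := pair_ok k hk
  have hπ : (hAct k).Hom (hg k) USixTwo.piA := SubList.hom USixTwo.homA hrow
  obtain ⟨l0, l1, l2, z0, z1, z2, hX⟩ := pLev_sizes
  set gp : ℕ → G43 × G62 := fun j => (UFourThree.gT j, hg k j) with hgp
  have c2 : Nat.card (val gp pX2) ≤ 48 := by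
    have := PairBound.PLev.card_le (pLev 2) UFourThree.homA UFourThree.det hπ USixTwo.det (k := 1)
      (by show Nat.card (val gp []) ≤ 1; rw [val_nil, Subgroup.card_bot]) (by rw [show (pLev 2).reps = pR2 from rfl, l2]; norm_num)
      z2 fun j hj => h2 j (by rwa [show (pLev 2).reps = pR2 from rfl, l2] at hj)
    simpa [show (pLev 2).reps = pR2 from rfl, show (pLev 2).X = pX2 from rfl, l2] using this
  have c1 : Nat.card (val gp pX1) ≤ 11664 := by
    have := PairBound.PLev.card_le (pLev 1) UFourThree.homA UFourThree.det hπ USixTwo.det c2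
      (by rw [show (pLev 1).reps = pR1 from rfl, l1]; norm_num) z1
      fun j hj => h1 j (by rwa [show (pLev 1).reps = pR1 from rfl, l1] at hj)
    simpa [show (pLev 1).reps = pR1 from rfl, show (pLev 1).X = pX1 from rfl, l1] using this
  have c0 : Nat.card (val gp pX0) ≤ 3265920 := by
    have := PairBound.PLev.card_le (pLev 0) UFourThree.homA UFourThree.det hπ USixTwo.det (k := 11664)
      ((Subgroup.card_le_of_le (PairBound.val_union_le UFourThree.homA UFourThree.det hπ USixTwo.det hm)).trans c1)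
      (by rw [show (pLev 0).reps = pR0 from rfl, l0]; norm_num) z0
      fun j hj => h0 j (by rwa [show (pLev 0).reps = pR0 from rfl, l0] at hj)
    simpa [show (pLev 0).reps = pR0 from rfl, show (pLev 0).X = pX0 from rfl, l0] using this
  have hmem : ∀ j < 3, gp j ∈ val gp pX0 := fun j hj => by
    have : ev gp [j] ∈ val gp pX0 := mem_val (by rw [hX]; interval_cases j <;> simp)
    simpa [ev] using this
  obtain ⟨f, hf⟩ := PairBound.exists_hom_of_card_le (val gp pX0) (by rw [UFourThree.card_G43]; exact c0) (fun x => by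
    have hx : x ∈ (val gp pX0).map (MonoidHom.fst G43 G62) := by
      refine (Subgroup.closure_le _).2 ?_ (UFourThree.gen.symm ▸ Subgroup.mem_top x)
      rintro _ ⟨j, hj, rfl⟩
      exact ⟨gp j, hmem j hj, rfl⟩
    obtain ⟨⟨a, b⟩, hab, rfl⟩ := hx
    exact ⟨b, hab⟩)
  refine ⟨f, fun w => ?_⟩
  rw [ev_map, show (fun j => f (UFourThree.gT j)) = hg k from funext fun j => ?_]
  rcases Nat.lt_or_ge j 3 with hj | hj
  · exact hf _ (hmem j hj)
  · rw [UFourThree.gT_out j hj, map_one]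
    show 1 = ev USixTwo.gT ((hGens.getD k []).getD j [])
    rw [List.getD_eq_default _ _ (by rw [(class_facts k hk).2.2]; exact hj)]
    rfl

/-- The map of a class. -/
noncomputable def psi (k : ℕ) : G43 →* G62 := if hk : k < 3 then (exists_psi k hk).choose else 1

theorem psi_ev {k : ℕ} (hk : k < 3) (w : List ℕ) : psi k (ev UFourThree.gT w) = ev (hg k) w := by
  rw [psi, dif_pos hk]
  exact (exists_psi k hk).choose_spec w

theorem psi_word {k : ℕ} (hk : k < 3) {w v : List ℕ} (h : sameW A62 F62 (subW (hGens.getD k []) w) v = true) :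
    psi k (ev UFourThree.gT w) = ev USixTwo.gT v := by
  rw [psi_ev hk, ← eq62 h, ev_subW]
  rfl

theorem psi_S {k : ℕ} (hk : k < 3) : psi k S43 = s62 := psi_word hk (class_facts k hk).1

theorem psi_Y {k : ℕ} (hk : k < 3) : psi k Y43 = z62 (zRep.getD k 0) := psi_word hk (class_facts k hk).2.1

theorem psi_inj {k : ℕ} (hk : k < 3) : Function.Injective (psi k) := by
  refine (MonoidHom.ker_eq_bot_iff _).1 ((IsSimpleGroup.eq_bot_or_eq_top_of_normal _ inferInstance).resolve_right
    fun h => facts62.2.1 ?_)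
  rw [← psi_S hk, ← MonoidHom.mem_ker, h]
  exact Subgroup.mem_top _

/-- A subgroup of a class. -/
noncomputable def K62 (k : ℕ) : Subgroup G62 := (psi k).range

theorem card_K62 {k : ℕ} (hk : k < 3) : Nat.card (K62 k) = 3265920 := by
  rw [K62, ← Nat.card_congr (MonoidHom.ofInjective (psi_inj hk)).toEquiv, UFourThree.card_G43]

theorem s_mem {k : ℕ} (hk : k < 3) : s62 ∈ K62 k := ⟨S43, psi_S hk⟩

theorem z_mem {k : ℕ} (hk : k < 3) : z62 (zRep.getD k 0) ∈ K62 k := ⟨Y43, psi_Y hk⟩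

theorem center_G43 : Subgroup.center G43 = ⊥ := by
  refine (IsSimpleGroup.eq_bot_or_eq_top_of_normal _ inferInstance).resolve_right fun h => facts43.2.1 ?_
  have e := facts43.2.2.1
  rw [Subgroup.mem_center_iff.1 (h.symm ▸ Subgroup.mem_top S43 : S43 ∈ Subgroup.center G43) T43, pow_two] at e
  exact mul_left_cancel ((mul_right_cancel e).symm.trans (mul_one S43).symm)

theorem commute_s {y : G62} (h : Commute y s62) : ∃ i < 7, y = s62 ^ i := by
  have hr := RepSearch.rep_all USixTwo.homA sLevels_ok (by rw [USixTwo.card_G62]; exact sLevels_card) y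
  obtain ⟨h', hl, hleaf, he⟩ := RepSearch.exists_leaf USixTwo.homA (fun s _ => inv62 s)
    (fun x hx => Nat.le_of_ble_eq_true (List.all_eq_true.1 large_facts.2.2.2.2.1 x hx)) (by simp) sLevels_ok
    searchS_ok (by simp) y hr (by rw [show ev USixTwo.gT [] = 1 from rfl, one_mul]; exact h)
  rw [show ev USixTwo.gT [] = 1 from rfl, one_mul] at he
  have hag' : agree A62 F62 (h' ++ ws) (ws ++ h') = true := by
    have hws : ∀ x ∈ ws, x < A62.n := fun x hx =>
      Nat.le_of_ble_eq_true (List.all_eq_true.1 large_facts.2.2.2.2.1 x hx)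
    refine agree_of_eq USixTwo.homA frame62_lt (fun x hx => (List.mem_append.1 hx).elim (hl x) (hws x))
      (fun x hx => (List.mem_append.1 hx).elim (hws x) (hl x)) ?_
    rw [ev_append, ev_append, ← he]
    exact h
  simp only [leafS, hag', Bool.not_true, Bool.false_or, List.any_eq_true, List.mem_range] at hleaf
  obtain ⟨k, hk, hag⟩ := hleaf
  refine ⟨k, hk, he.trans ((ev_eq_of_agree USixTwo.homA USixTwo.det ?_ ?_ hag).trans (ev_power _ _ k))⟩
  · simpa [Act.lettersOk] using fun s hs => hl s hs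
  · simp only [Act.lettersOk, powW, List.all_cons, List.all_nil, Bool.and_true, List.all_eq_true, List.mem_flatten,
      List.mem_replicate, forall_exists_index, and_imp]
    rintro x l - rfl hx
    exact List.all_eq_true.1 large_facts.2.2.2.2.1 x hx

theorem commute_t {y : G62} (h : Commute y t62) (h3 : y ^ 3 = 1) (h5 : (s62 * y) ^ 5 = 1)
    (h8 : (s62 * (y * y)) ^ 8 = 1) : ∃ i < 12, y = z62 i := by
  have hwt : ∀ x ∈ wt, x < A62.n := fun x hx =>
    Nat.le_of_ble_eq_true (List.all_eq_true.1 large_facts.2.2.2.2.2.1 x hx)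
  have hws : ∀ x ∈ ws, x < A62.n := fun x hx =>
    Nat.le_of_ble_eq_true (List.all_eq_true.1 large_facts.2.2.2.2.1 x hx)
  have hr := RepSearch.rep_all USixTwo.homA tLevels_ok (by rw [USixTwo.card_G62]; exact tLevels_card) y
  obtain ⟨h', hl, hleaf, he⟩ := RepSearch.exists_leaf USixTwo.homA (fun s _ => inv62 s) hwt (by simp) tLevels_ok
    searchT_ok (by simp) y hr (by rw [show ev USixTwo.gT [] = 1 from rfl, one_mul]; exact h)
  rw [show ev USixTwo.gT [] = 1 from rfl, one_mul] at he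
  have rel : ∀ (w : List ℕ) (n : ℕ), (∀ x ∈ w, x < A62.n) → ev USixTwo.gT w ^ n = 1 →
      agree A62 F62 (powW w n) [] = true := fun w n hw hp => by
    refine agree_of_eq USixTwo.homA frame62_lt ?_ (by simp) (by rw [powW, ev_power]; exact hp)
    intro x hx
    simp only [powW, List.mem_flatten, List.mem_replicate] at hx
    obtain ⟨l, ⟨-, rfl⟩, hx⟩ := hx
    exact hw x hx
  simp only [leafT, rel h' 3 hl (he ▸ h3),
    rel (ws ++ h') 5 (fun x hx => (List.mem_append.1 hx).elim (hws x) (hl x)) (by rw [ev_append, ← he]; exact h5),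
    rel (ws ++ (h' ++ h')) 8 (fun x hx => (List.mem_append.1 hx).elim (hws x) fun hx =>
      (List.mem_append.1 hx).elim (hl x) (hl x)) (by rw [ev_append, ev_append, ← he]; exact h8),
    Bool.not_true, Bool.false_or, List.any_eq_true] at hleaf
  obtain ⟨z, hz, hag⟩ := hleaf
  obtain ⟨i, hi, rfl⟩ := List.mem_iff_getElem.1 hz
  refine ⟨i, list_facts.1 ▸ hi, he.trans ?_⟩
  rw [z62, List.getD_eq_getElem _ _ hi]
  have hzl : ∀ s ∈ zs[i], s < A62.n := by
    have h7 := large_facts.2.2.2.2.2.2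
    simp only [List.all_eq_true] at h7
    exact fun s hs => Nat.le_of_ble_eq_true (h7 _ hz s hs)
  exact ev_eq_of_agree USixTwo.homA USixTwo.det (by simpa [Act.lettersOk] using hl)
    (by simpa [Act.lettersOk] using hzl) hag

theorem exists_conj_mem_zpowers {H : Type*} [Group H] [Finite H] {x y : H} (hx : orderOf x = 7) (hy : orderOf y = 7)
    (hH : (Nat.card H).factorization 7 = 1) : ∃ c : H, c * x * c⁻¹ ∈ Subgroup.zpowers y := by
  haveI : Fact (Nat.Prime 7) := ⟨by norm_num⟩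
  let P := Sylow.ofCard (Subgroup.zpowers x) (by rw [Nat.card_zpowers, hx, hH, pow_one])
  let Q := Sylow.ofCard (Subgroup.zpowers y) (by rw [Nat.card_zpowers, hy, hH, pow_one])
  obtain ⟨c, hc⟩ := MulAction.exists_smul_eq H P Q
  refine ⟨c, ?_⟩
  have : c * x * c⁻¹ ∈ ((c • P : Sylow 7 H) : Subgroup H) :=
    ⟨x, by show x ∈ Subgroup.zpowers x; exact Subgroup.mem_zpowers x, rfl⟩
  rw [hc] at this
  exact this

theorem fact62 : (Nat.card G62).factorization 7 = 1 := by
  rw [USixTwo.card_G62, show 9196830720 = 7 * 1313832960 from rfl, Nat.factorization_mul (by norm_num) (by norm_num),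
    Finsupp.add_apply, Nat.Prime.factorization_self (by norm_num),
    Nat.factorization_eq_zero_of_not_dvd (by norm_num)]

/-- Conjugation by a power of the automorphism inducer. -/
theorem m_pow_s (l : ℕ) : m62 ^ l * s62 * (m62 ^ l)⁻¹ = s62 ^ (3 ^ l) := by
  have h3 : m62 * s62 * m62⁻¹ = s62 ^ 3 := by rw [facts62.2.2.2, mul_inv_cancel_right]
  induction l with
  | zero => simp
  | succ l ih =>
    rw [pow_succ, mul_inv_rev, show m62 ^ l * m62 * s62 * (m62⁻¹ * (m62 ^ l)⁻¹) =
      m62 ^ l * (m62 * s62 * m62⁻¹) * (m62 ^ l)⁻¹ by group, h3, ← conj_pow, ih, ← pow_mul, ← pow_succ]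

theorem exists_exp {i : ℕ} (hi : s62 ^ i ≠ 1) : ∃ l < 6, s62 ^ i = m62 ^ l * s62 * (m62 ^ l)⁻¹ := by
  have hi' : i % 7 ≠ 0 := fun h => hi (by
    rw [← pow_mod_orderOf, orderOf_s62, h, pow_zero])
  obtain ⟨l, hl, e⟩ := (by decide : ∀ r < 7, r ≠ 0 → ∃ l < 6, 3 ^ l % 7 = r) (i % 7) (Nat.mod_lt _ (by norm_num)) hi'
  refine ⟨l, hl, ?_⟩
  rw [m_pow_s, ← pow_mod_orderOf, orderOf_s62, ← e, ← orderOf_s62, pow_mod_orderOf]

/-- An element of order 7 is taken to the given one. -/
theorem exists_to_s {x : G62} (hx : orderOf x = 7) : ∃ c : G62, c * x * c⁻¹ = s62 := by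
  obtain ⟨c, hc⟩ := exists_conj_mem_zpowers hx orderOf_s62 fact62
  obtain ⟨i, hi⟩ := Subgroup.mem_zpowers_iff.1 (hc)
  obtain ⟨n, hn⟩ : ∃ n : ℕ, s62 ^ n = c * x * c⁻¹ := by
    obtain ⟨n, -, hn⟩ := exists_pow_of_prime orderOf_s62 hc
    exact ⟨n, hn.symm⟩
  have hne : s62 ^ n ≠ 1 := fun h => by
    rw [hn] at h
    have : x = 1 := by simpa [mul_inv_eq_one] using h
    rw [this, orderOf_one] at hx
    norm_num at hx
  obtain ⟨l, -, e⟩ := exists_exp hne
  refine ⟨(m62 ^ l)⁻¹ * c, ?_⟩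
  rw [show (m62 ^ l)⁻¹ * c * x * ((m62 ^ l)⁻¹ * c)⁻¹ = (m62 ^ l)⁻¹ * (c * x * c⁻¹) * m62 ^ l by group, ← hn, e]
  group

/-- Every copy of the small group is conjugate to one of the three. -/
theorem classify {φ : G43 →* G62} (hφ : Function.Injective φ) :
    ∃ (c : G62) (k : ℕ), k < 3 ∧ φ.range.map (MulAut.conj c).toMonoidHom = K62 k := by
  obtain ⟨c, hc⟩ := exists_to_s (x := φ S43) (by rw [orderOf_injective φ hφ, orderOf_S43])
  obtain ⟨-, -, hT, hTY, hY3, hY5, hY8⟩ := facts43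
  set ψ := (MulAut.conj c).toMonoidHom.comp φ with hψ
  have hS : ψ S43 = s62 := hc
  have e : ψ T43 * s62 = s62 ^ 2 * ψ T43 := by rw [← hS, ← map_mul, hT, map_mul, map_pow]
  have hcm : Commute (t62⁻¹ * ψ T43) s62 := by
    show t62⁻¹ * ψ T43 * s62 = s62 * (t62⁻¹ * ψ T43)
    have h2 : t62⁻¹ * s62 ^ 2 = s62 * t62⁻¹ := by
      rw [inv_mul_eq_iff_eq_mul, ← mul_assoc, facts62.2.2.1, mul_inv_cancel_right]
    rw [mul_assoc, e, ← mul_assoc, h2, mul_assoc]
  obtain ⟨j, -, hj⟩ := commute_s hcm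
  rw [inv_mul_eq_iff_eq_mul] at hj
  have hts : ∀ n : ℕ, t62 * s62 ^ n = s62 ^ (2 * n) * t62 := fun n => by
    have : SemiconjBy t62 s62 (s62 ^ 2) := facts62.2.2.1
    have := this.pow_right n
    rw [← pow_mul] at this
    exact this
  set a := s62 ^ (2 * j) with ha
  set θ := (MulAut.conj a).toMonoidHom.comp ψ with hθ
  have hθS : θ S43 = s62 := by
    show a * ψ S43 * a⁻¹ = s62
    rw [hS, ha, ← pow_succ, pow_succ', mul_inv_cancel_right]
  have hθT : θ T43 = t62 := by
    show a * ψ T43 * a⁻¹ = t62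
    rw [hj, ← mul_assoc, ha, ← hts, mul_assoc t62, ← pow_add, mul_inv_eq_iff_eq_mul, ← two_mul]
  obtain ⟨i, hi, hθY⟩ := commute_t (y := θ Y43) (by rw [← hθT]; exact (hTY.map θ).symm)
    (by rw [← map_pow, hY3, map_one]) (by rw [← hθS, ← map_mul, ← map_pow, hY5, map_one])
    (by rw [← hθS, ← map_mul, ← map_mul, ← map_pow, hY8, map_one])
  obtain ⟨hk, hw, -⟩ := (list_facts.2 i hi)
  refine ⟨a * c, _, hk, ?_⟩
  have hr : φ.range.map (MulAut.conj (a * c)).toMonoidHom = θ.range := by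
    rw [MonoidHom.map_range]
    congr 1
    ext y
    show a * c * φ y * (a * c)⁻¹ = a * (c * φ y * c⁻¹) * a⁻¹
    group
  have hinj : Function.Injective θ := (MulAut.conj a).injective.comp ((MulAut.conj c).injective.comp hφ)
  rw [hr]
  refine Subgroup.eq_of_le_of_card_ge ?_ ?_
  · rw [MonoidHom.range_eq_map, ← closure_SY, MonoidHom.map_closure, Subgroup.closure_le]
    rintro _ ⟨u, rfl | rfl, rfl⟩
    · rw [hθS]; exact s_mem hk
    · rw [hθY]; exact ⟨_, psi_word hk hw⟩
  · rw [card_K62 hk, ← Nat.card_congr (MonoidHom.ofInjective hinj).toEquiv, UFourThree.card_G43]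

theorem not_conj {p : ℕ} (hp : p < 3) (n : G62) :
    (K62 (pairOf p).1).map (MulAut.conj n).toMonoidHom ≠ K62 (pairOf p).2 := by
  obtain ⟨ha, hb⟩ : (pairOf p).1 < 3 ∧ (pairOf p).2 < 3 := by interval_cases p <;> decide
  intro he
  have hn : ∀ y ∈ K62 (pairOf p).1, n * y * n⁻¹ ∈ K62 (pairOf p).2 := fun y hy => he ▸ ⟨y, hy, rfl⟩
  have o1 : orderOf (⟨n * s62 * n⁻¹, hn _ (s_mem ha)⟩ : K62 (pairOf p).2) = 7 := by
    rw [Subgroup.orderOf_mk, ← MulAut.conj_apply, MulEquiv.orderOf_eq, orderOf_s62]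
  have o2 : orderOf (⟨s62, s_mem hb⟩ : K62 (pairOf p).2) = 7 := by rw [Subgroup.orderOf_mk, orderOf_s62]
  obtain ⟨⟨k, hk⟩, hc⟩ := exists_conj_mem_zpowers o1 o2 (by
    rw [card_K62 hb, show 3265920 = 7 * 466560 from rfl, Nat.factorization_mul (by norm_num) (by norm_num),
      Finsupp.add_apply, Nat.Prime.factorization_self (by norm_num),
      Nat.factorization_eq_zero_of_not_dvd (by norm_num)])
  obtain ⟨i, -, hi⟩ := exists_pow_of_prime o2 hc
  have hi' : k * n * s62 * (k * n)⁻¹ = s62 ^ i := by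
    have := congrArg Subtype.val hi
    change k * (n * s62 * n⁻¹) * k⁻¹ = s62 ^ i at this
    rw [← this]
    group
  obtain ⟨l, hl, e⟩ := exists_exp (i := i) (fun h => facts62.2.1 (by
    rw [← hi', conj_eq_one_iff] at h
    exact h))
  rw [e] at hi'
  obtain ⟨j, -, hj⟩ := commute_s (y := (m62 ^ l)⁻¹ * (k * n)) (by
    show (m62 ^ l)⁻¹ * (k * n) * s62 = s62 * ((m62 ^ l)⁻¹ * (k * n))
    have : k * n * s62 = m62 ^ l * s62 * (m62 ^ l)⁻¹ * (k * n) := by rw [← hi', inv_mul_cancel_right]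
    rw [mul_assoc _ (k * n), this]
    group)
  rw [inv_mul_eq_iff_eq_mul] at hj
  set za := z62 (zRep.getD (pairOf p).1 0)
  set zb := z62 (zRep.getD (pairOf p).2 0)
  have hc' : m62 ^ l * za * (m62 ^ l)⁻¹ ∈ K62 (pairOf p).2 := by
    have h := mul_mem (mul_mem hk (hn _ (mul_mem (mul_mem (inv_mem (pow_mem (s_mem ha) j)) (z_mem ha))
      (pow_mem (s_mem ha) j)))) (inv_mem hk)
    rw [show k * (n * ((s62 ^ j)⁻¹ * za * s62 ^ j) * n⁻¹) * k⁻¹ = k * n * ((s62 ^ j)⁻¹ * za * s62 ^ j) * (k * n)⁻¹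
      by group, hj] at h
    convert h using 1
    group
  have hev : ev USixTwo.gT (elevenW p l) ∈ K62 (pairOf p).2 := by
    rw [elevenW, ev_subW]
    refine ev_mem _ fun x _ => ?_
    rcases x with _ | _ | _ | x
    · exact s_mem hb
    · show ev USixTwo.gT (powF wm l ++ (zs.getD (zRep.getD (pairOf p).1 0) [] ++ (powF wm l).reverse)) ∈ _
      rw [ev_append, ev_append, ev_reverse (fun s _ => inv62 s) (n := 3) _ (fun x hx => by
        simp only [powF, List.mem_flatten, List.mem_replicate] at hx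
        obtain ⟨w, ⟨-, rfl⟩, hx⟩ := hx
        exact (by decide : ∀ x ∈ wm, x < 3) x hx), powF, ev_power, ← mul_assoc]
      exact hc'
    · exact z_mem hb
    · simp [ev]
  obtain ⟨h11, hne⟩ := eleven_facts p hp l hl
  have e11 := eq62 h11
  rw [powF, ev_power] at e11
  have hl11 : ∀ x ∈ elevenW p l, x < A62.n := by
    have := h11
    simp only [sameW, Bool.and_eq_true, List.all_eq_true, powF] at this
    intro x hx
    exact Nat.le_of_ble_eq_true (this.1.1 x (List.mem_flatten.2 ⟨_, List.mem_replicate.2 ⟨by norm_num, rfl⟩, hx⟩))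
  haveI : Fact (Nat.Prime 11) := ⟨by norm_num⟩
  have o : orderOf (ev USixTwo.gT (elevenW p l)) = 11 := orderOf_eq_prime e11 fun h1 => by
    rw [agree_of_eq USixTwo.homA frame62_lt (w := []) hl11 (by simp) h1] at hne
    exact Bool.noConfusion hne
  have := Subgroup.orderOf_dvd_natCard _ hev
  rw [o, card_K62 hb] at this
  norm_num at this

end Cfsg.Agent.Spor.U62U43
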