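import Cfsg.Agent.Lib.Spor.U62U43.Defs

/-! The products of representatives in class 0. -/

set_option autoImplicit false
set_option maxRecDepth 100000
set_option maxHeartbeats 4000000

open Cfsg.Agent.Spor.Cos

namespace Cfsg.Agent.Spor.U62U43

theorem row0_ok : ∀ p < 672, SubList.chkRow A62 (hData 0) p = true :=
  of_blocks (size := 56) (b := 12) (by decide) (by decide) fun j hj => by interval_cases j <;> decide +kernel

theorem pair0_top : ∀ j < 280, chkPair 0 0 j = true :=
  of_blocks (size := 10) (b := 28) (by decide) (by decide) fun j hj => by interval_cases j <;> decide +kernel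

theorem pair0_mid : ∀ j < 243, chkPair 0 1 j = true :=
  of_blocks (size := 9) (b := 27) (by decide) (by decide) fun j hj => by interval_cases j <;> decide +kernel

theorem pair0_low : ∀ j < 48, chkPair 0 2 j = true :=
  of_blocks (size := 8) (b := 6) (by decide) (by decide) fun j hj => by interval_cases j <;> decide +kernel

theorem mem0_ok : ∀ i < pX2.length,
    PairBound.agree2 A43 (hAct 0) F43 F62 (pX2.getD i []) (Triple.subW pX1 (pMem.getD i [])) = true := by
  decide +kernel

end Cfsg.Agent.Spor.U62U43
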