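import Cfsg.Agent.Lib.Spor.U62U43.Defs
import Cfsg.Agent.Lib.Spor.U62U43.LevS
import Cfsg.Agent.Lib.Spor.U62U43.LevT

/-! The searches in the centralisers: the leaves and the top levels. -/

set_option autoImplicit false
set_option maxRecDepth 100000

open Cfsg.Agent.Spor.Cos

namespace Cfsg.Agent.Spor.U62U43

/-- A word repeated. -/
def powW (w : List ℕ) (k : ℕ) : List ℕ := (List.replicate k w).flatten

/-- An element is one of the powers of the element of order 7 or does not commute with it. -/
noncomputable def leafS (h : List ℕ) : Bool :=
  !(agree A62 F62 (h ++ ws) (ws ++ h)) || (List.range 7).any fun k => agree A62 F62 h (powW ws k)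

/-- An element commuting with the element of order 3 fails a relation or is listed. -/
noncomputable def leafT (h : List ℕ) : Bool :=
  !(agree A62 F62 (powW h 3) []) || !(agree A62 F62 (powW (ws ++ h) 5) []) ||
    !(agree A62 F62 (powW (ws ++ (h ++ h)) 8) []) || zs.any fun z => agree A62 F62 h z

/-- The top of the search for the element of order 7. -/
noncomputable def chkS (i : ℕ) : Bool :=
  RepSearch.skip A62 ws sLev0 [] i || RepSearch.below A62 ws leafS sLev0 [sLev1, sLev2, sLev3, sLev4] [] [] i

/-- The first word of the search for the element of order 3. -/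
noncomputable def topT (i : ℕ) : List ℕ := (tLev0.reps.getD i (0, [])).2

/-- The top of the search for the element of order 3. -/
noncomputable def chkT (i j : ℕ) : Bool :=
  RepSearch.skip A62 wt tLev1 (topT i) j ||
    RepSearch.below A62 wt leafT tLev1 [tLev2, tLev3, tLev4, tLev5] [tLev0.b] (topT i) j

end Cfsg.Agent.Spor.U62U43
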