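import Cfsg.Agent.Lib.Spor.U62U43.SearchDefs

/-! The search in the centraliser of an element of order 7. -/

set_option autoImplicit false
set_option maxRecDepth 100000
set_option maxHeartbeats 4000000

open Cfsg.Agent.Spor.Cos

namespace Cfsg.Agent.Spor.U62U43

theorem searchS_top : ∀ i < 672, chkS i = true :=
  of_blocks (size := 12) (b := 56) (by decide) (by decide) fun j hj => by interval_cases j <;> decide +kernel

theorem sLevels_ok : RepSearch.chkLevs A62 sLevels [] = true := by decide +kernel

theorem sLevels_card : (sLevels.map fun L => L.reps.length).prod = 9196830720 := by decide +kernel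

theorem sLev0_link : sLev0.link = none ∧ sLev0.reps.length = 672 := by decide +kernel

theorem searchS_ok : RepSearch.search A62 ws leafS sLevels [] [] = true :=
  RepSearch.search_of_children sLev0_link.1 fun i hi => searchS_top i (sLev0_link.2 ▸ hi)

end Cfsg.Agent.Spor.U62U43
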